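/-
A fast product of packed five by five matrices.
-/
import Cfsg.Agent.Lib.HeCent.MatCode

set_option autoImplicit false

namespace CfsgLib.HeldRecog

open CfsgLib.HeCent CfsgLib.CosetEnum

/-- The bits in positions divisible by five. -/
def mask : ℕ := 1082401

/-- One summand of the fast product. -/
noncomputable def term (a b k : ℕ) : ℕ :=
  Nat.mul (Nat.land (Nat.shiftRight a (Nat.mul 5 k)) (nat_lit 31)) (Nat.land (Nat.shiftRight b k) (nat_lit 1082401))

/-- The fast product of packed matrices. -/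
noncomputable def mulF (a b : ℕ) : ℕ :=
  Nat.xor (Nat.xor (Nat.xor (Nat.xor (term a b 0) (term a b 1)) (term a b 2)) (term a b 3)) (term a b 4)

/-- A number with given bits in positions divisible by five. -/
def spread (e : Fin 5 → Bool) : ℕ :=
  cond (e 0) 1 0 ||| cond (e 1) (1 <<< 5) 0 ||| cond (e 2) (1 <<< 10) 0 ||| cond (e 3) (1 <<< 15) 0 |||
    cond (e 4) (1 <<< 20) 0

theorem testBit_cond_shift (v : Bool) (p n : ℕ) :
    (cond v (1 <<< p) 0).testBit n = (v && decide (p = n)) := by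
  cases v <;> simp [Nat.one_shiftLeft, Nat.testBit_two_pow]

theorem mask_bit : ∀ n < 21, Nat.testBit 1082401 n = decide (n % 5 = 0) := by decide +kernel

theorem land_mask (b k : ℕ) : (b >>> k) &&& 1082401 = spread fun j => b.testBit (k + 5 * j) := by
  refine Nat.eq_of_testBit_eq fun n => ?_
  have h0 : (cond (b.testBit (k + 5 * ((0 : Fin 5) : ℕ))) 1 0) = cond (b.testBit k) (1 <<< 0) 0 := rfl
  simp only [spread, Nat.testBit_and, Nat.testBit_shiftRight, Nat.testBit_or, h0, testBit_cond_shift]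
  by_cases hn : n < 21
  · rw [mask_bit n hn]
    interval_cases n <;> simp
  · have : Nat.testBit 1082401 n = false :=
      Nat.testBit_lt_two_pow (lt_of_lt_of_le (by norm_num) (Nat.pow_le_pow_right two_pos (not_lt.mp hn)))
    rw [this]
    simp
    omega

theorem spread_mul_ok : ∀ c < 32, ∀ t < 32, ∀ i < 5, ∀ j < 5,
    (c * spread fun q : Fin 5 => Nat.testBit t q).testBit (5 * j + i) = (c.testBit i && t.testBit j) ∧
      c * (spread fun q : Fin 5 => Nat.testBit t q) < 2 ^ 25 := by decide +kernel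

theorem exists_bits : ∀ e : Fin 5 → Bool, ∃ t : Fin 32, ∀ q : Fin 5, e q = Nat.testBit t.1 q.1 := by decide +kernel

theorem term_spec (a b k : ℕ) : (∀ i < 5, ∀ j < 5, (term a b k).testBit (5 * j + i) =
    (bitc a i k && b.testBit (5 * j + k))) ∧ term a b k < 2 ^ 25 := by
  obtain ⟨t, ht⟩ := exists_bits fun j : Fin 5 => b.testBit (k + 5 * j)
  have hc : (a >>> (5 * k)) &&& 31 < 32 := Nat.lt_succ_of_le Nat.and_le_right
  have e : term a b k = ((a >>> (5 * k)) &&& 31) * spread (fun q : Fin 5 => Nat.testBit t q) := by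
    show ((a >>> (5 * k)) &&& 31) * ((b >>> k) &&& 1082401) = _
    rw [land_mask]
    congr 2
    exact funext ht
  refine ⟨fun i hi j hj => ?_, e ▸ (spread_mul_ok _ hc t t.2 0 (by norm_num) 0 (by norm_num)).2⟩
  rw [e, (spread_mul_ok _ hc t t.2 i hi j hj).1, Nat.testBit_and, Nat.testBit_shiftRight, bitc, ← ht ⟨j, hj⟩,
    show Nat.testBit 31 i = true by interval_cases i <;> rfl, Bool.and_true]
  congr 2
  ring

theorem mulF_lt (a b : ℕ) : mulF a b < 2 ^ 25 :=
  Nat.xor_lt_two_pow (Nat.xor_lt_two_pow (Nat.xor_lt_two_pow (Nat.xor_lt_two_pow (term_spec a b 0).2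
    (term_spec a b 1).2) (term_spec a b 2).2) (term_spec a b 3).2) (term_spec a b 4).2

theorem mat_mulF (a b : ℕ) : mat a * mat b = mat (mulF a b) := by
  refine mat_mul ?_
  simp only [mulOK, List.all_eq_true, beq_iff_eq]
  intro i _ j _
  show _ = (term a b 0 ^^^ term a b 1 ^^^ term a b 2 ^^^ term a b 3 ^^^ term a b 4).testBit (5 * j + i)
  rw [Nat.testBit_xor, Nat.testBit_xor, Nat.testBit_xor, Nat.testBit_xor, (term_spec a b 0).1 i i.2 j j.2,
    (term_spec a b 1).1 i i.2 j j.2, (term_spec a b 2).1 i i.2 j j.2, (term_spec a b 3).1 i i.2 j j.2,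
    (term_spec a b 4).1 i i.2 j j.2]
  rfl

theorem mulF_eq (a b : ℕ) : mulF a b = mulC a b :=
  mat_injective (mulF_lt a b) (mulC_lt a b) (by rw [← mat_mulF, mat_mulC])

end CfsgLib.HeldRecog
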