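/-
Generators of the centraliser of a transvection in SL(5, 2) and words for the two tables of its elements.
-/
import Mathlib.Data.Nat.Notation
import Mathlib.Data.List.Basic

set_option autoImplicit false
set_option maxRecDepth 100000

namespace CfsgLib.HeldRecog

/-- The four involutory generators, packed. -/
def cgCodes : List ℕ := [5523393, 17569377, 17618017, 17491425]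

/-- Words of the normal part. -/
def qWord : List (List ℕ) := [[], [1, 0, 1, 2, 3, 1, 3, 0, 1], [2, 0, 1, 3, 1, 0, 2, 3, 0, 3], [1, 2, 3, 1, 3], [1, 3, 0, 1, 0, 2, 0, 1, 0, 3], [0, 2, 0, 1, 0, 3, 1, 3, 0, 1], [0, 1, 3, 0, 1, 0, 1, 2, 0, 1, 0, 1, 3, 0], [1, 0, 2, 0, 2, 0, 1, 2], [2, 0, 1, 2, 3, 1, 3, 0, 2], [1, 3, 0, 1, 2, 0, 1, 2, 0, 3], [0, 2, 0, 1, 0, 1, 2, 0, 1], [0, 2, 3, 0, 1, 0, 2, 0, 1, 0, 1, 3, 0], [0, 1, 3, 1, 3, 0, 2, 0, 2], [1, 2, 3, 0, 1, 2, 0, 1, 0, 2, 0, 3], [1, 2, 0, 1, 2, 0, 1, 2, 0], [0, 1, 2, 3, 0, 1, 2, 0, 1, 3, 0, 2, 3], [2, 3, 0, 1, 0, 2, 0, 1, 0, 1, 3], [0, 1, 0, 1, 2, 0, 1, 0, 2], [0, 1, 3, 0, 1, 2, 0, 1, 2, 0, 3, 0], [3,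 0, 1, 2, 0, 1, 2, 0, 3, 1], [0, 1, 2, 3, 0, 1, 0, 1, 3, 0, 1, 0, 3, 0, 1], [0, 1, 0, 1, 3, 0, 3, 1, 0, 1, 3, 0, 3], [0, 1, 2, 0, 1, 2, 0, 1, 2], [1, 0, 1, 3, 0, 1, 0, 2, 0, 1, 0, 3, 0, 1], [0, 3, 0, 1, 2, 0, 1, 2, 0, 3, 1, 0], [0, 2, 3, 0, 2, 3, 0, 2, 3], [1, 3, 0, 3, 1, 3, 0, 1, 2, 0, 3], [0, 3, 1, 3, 0, 1, 2, 0, 1, 2], [0, 3, 0, 2, 0, 1, 0, 1, 2, 0, 1, 3, 0], [2, 3, 1, 0, 1, 2, 0, 1, 2, 0, 3], [1, 2, 0, 2, 0, 1, 0, 1, 2, 0, 2], [0, 3, 0, 1, 2, 0, 1, 2, 0, 1, 2, 3, 0], [1, 3, 0, 1, 0, 1, 2, 0, 1, 0, 1, 3], [1, 0, 3, 0, 1, 0, 3, 0, 1, 0, 3, 0], [0, 1, 2, 3, 0, 1, 0, 3, 0, 3, 1, 0, 1, 3], [1, 0, 1, 2, 0, 3, 1, 3, 0, 2], [1, 0, 1, 2, 3, 0, 1, 0,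 2, 0, 3, 1, 0, 1, 3], [0, 2, 3, 1, 0, 1, 2, 0, 1, 2, 0, 3, 0], [3, 0, 2, 0, 1, 0, 1, 2, 0, 1, 3], [2, 0, 1, 2, 0, 1, 2, 0, 1], [0, 1, 3, 0, 3, 1, 3, 0, 1, 2, 0, 3, 0], [3, 0, 1, 2, 0, 3, 1, 3, 0, 3, 1], [1, 0, 3, 0, 1, 0, 3, 0, 3, 1, 0, 3, 0, 2], [0, 1, 0, 2, 3, 1, 0, 3, 1, 0, 2, 3, 1, 0, 3], [0, 1, 0, 2, 0, 1, 0, 3, 1, 3], [0, 1, 0, 3, 0, 1, 2, 0, 3, 0, 1, 3, 0, 3], [0, 3, 0, 1, 2, 0, 3, 1, 3, 0, 3, 1, 0], [3, 0, 1, 2, 0, 1, 2, 0, 1, 2, 3], [0, 1, 2, 0, 3, 1, 0, 2, 0, 1, 3, 0, 1, 2, 0, 3], [0, 1, 0, 2, 3, 0, 1, 0, 3, 0, 1, 0, 1, 3], [1, 0, 1, 2, 0, 1, 2, 0, 2], [3, 0, 1, 0, 3, 0, 1, 0, 3, 0, 1, 0], [0, 1, 3, 0, 1, 0, 2, 0, 1, 0, 3, 0], [0, 1,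 2, 3, 1, 3, 0], [0, 3, 0, 1, 0, 3, 0, 1, 0, 3, 0, 1], [0, 1, 2, 3, 0, 1, 3, 0, 3, 1, 0, 1, 0, 3], [0, 3, 0, 3, 1, 0, 3, 0, 1, 2, 0, 3, 0, 1], [0, 1, 0, 3, 0, 3, 1, 0, 1, 3, 0, 3, 1], [0, 1, 0, 1, 3, 0, 1, 0, 2, 3, 0, 1, 0, 3], [0, 2, 0, 1, 3, 1, 3, 0, 2], [1, 0, 1, 2, 3, 0, 1, 2, 0, 1, 3, 0, 1, 3], [0, 1, 0, 3, 0, 1, 0, 3, 0, 1, 0, 3], [0, 3, 0, 2, 0, 3, 0, 1, 3, 1], [1, 3, 0, 1, 2, 0, 3, 1, 3, 0, 3], [0, 1, 2, 0, 3, 1, 3, 0, 1, 2], [0, 3, 0, 3, 1, 3, 0, 1, 2, 0, 3, 1, 0], [1, 2, 3, 0, 2, 0, 1, 0, 1, 2, 0, 3], [0, 1, 2, 0, 1, 3, 0, 1, 0, 2, 3, 0, 3, 1, 0, 3], [0, 1, 0, 1, 3, 0, 1, 2, 3, 0, 1, 3, 0, 3], [0, 1, 2, 0, 1, 0, 2, 0, 1], [3, 1, 0, 3,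 1, 0, 1, 2, 0, 1, 3, 0, 1], [0, 1, 3, 0, 1, 2, 0, 3, 1, 0, 3, 0, 3], [2, 3, 0, 1, 0, 1, 2, 0, 1, 0, 3], [0, 3, 0, 1, 0, 3, 0, 1, 2, 0, 3, 0, 1, 3], [0, 1, 0, 1, 3, 0, 1, 2, 3, 0, 2, 3, 1, 0, 3], [1, 0, 3, 1, 3, 0, 1, 2, 0, 2], [1, 0, 3, 1, 0, 1, 2, 0, 2, 3, 1, 0, 1, 3], [0, 2, 3, 0, 1, 0, 1, 2, 0, 1, 0, 3, 0], [0, 1, 0, 1, 0, 1, 0, 1], [0, 1, 2, 0, 1, 3, 0, 3, 1, 0, 1, 2, 0, 3], [0, 3, 0, 1, 0, 1, 3, 0, 3, 1, 0, 1, 3], [0, 1, 0, 2, 0, 3, 1, 0, 3, 1, 0, 1, 2, 0, 3], [3, 0, 3, 1, 0, 1, 2, 0, 3, 1, 0, 2, 0], [0, 3, 1, 0, 3, 1, 0, 3, 0, 1, 3, 0, 1, 3], [0, 2, 0, 2, 0, 1, 3, 1, 3], [1, 0, 3, 1, 0, 1, 2, 0, 1, 3, 0, 1, 3], [0, 3, 1, 0, 3, 0, 1, 2, 0,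 3, 0, 1, 0, 3], [0, 2, 3, 0, 1, 3, 1, 0, 2, 3], [3, 0, 3, 1, 3, 0, 1, 2, 0, 3, 1], [0, 3, 0, 1, 0, 3, 0, 3, 1, 0, 3, 0, 1, 2], [0, 1, 0, 1, 3, 0, 3, 1, 0, 2, 3, 1, 0, 3], [0, 1, 0, 2, 0, 1, 0, 1, 2], [0, 2, 0, 1, 3, 0, 1, 0, 3, 0, 3, 1, 0, 3, 1], [0, 1, 2, 3, 0, 1, 2, 0, 1, 0, 2, 0, 3, 0], [0, 3, 1, 0, 2, 3, 1, 0, 3, 0, 1, 0, 1, 3], [0, 1, 0, 3, 0, 3, 1, 0, 2, 3, 1, 0, 3, 1], [0, 3, 1, 0, 1, 0, 3, 0, 1, 2, 3, 0, 1, 3], [0, 3, 0, 1, 2, 0, 1, 3, 0, 3, 1, 0, 1, 2], [1, 0, 1, 2, 3, 0, 1, 2, 0, 1, 3, 0, 2, 3, 1], [0, 1, 0, 2, 0, 2, 0, 1, 2, 0], [1, 2, 0, 3, 0, 1, 0, 3, 0, 1, 0, 3, 0, 2], [1, 0, 3, 0, 3, 1, 0, 3, 0, 1, 2, 0, 3, 0], [0, 3, 0, 3, 1, 0,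 1, 2, 0, 3, 1, 0, 2], [0, 2, 0, 1, 3, 0, 1, 2, 0, 1, 3, 0, 3], [0, 2, 0, 1, 3, 0, 3, 1, 3, 0, 1, 3, 0, 3], [2, 0, 1, 3, 0, 1, 2, 0, 1, 0, 3, 0, 3], [3, 0, 1, 2, 0, 1, 0, 2, 0, 1, 3], [0, 1, 3, 0, 1, 3, 0, 3, 1, 0, 3, 1, 0, 3], [0, 1, 0, 2, 3, 1, 0, 1, 2, 3, 0, 1, 3, 0, 3], [1, 2, 0, 1, 2, 0, 1, 0, 2, 0, 2], [0, 3, 0, 1, 3, 0, 1, 3, 0, 3, 1, 0, 3, 1], [0, 3, 1, 0, 1, 2, 0, 1, 3, 0, 2, 3], [1, 0, 3, 1, 0, 3, 0, 1, 3, 0, 1, 3, 0, 3], [0, 1, 3, 0, 3, 1, 0, 3, 1, 0, 3, 0, 1, 3], [1, 2, 0, 3, 1, 0, 1, 2, 0, 1, 3, 0, 3, 1], [1, 0, 2, 3, 0, 1, 0, 1, 2, 0, 1, 0, 3, 0, 1], [1, 0, 3, 1, 0, 1, 2, 0, 1, 3, 0, 2, 3, 1], [0, 2, 0, 2, 0, 2], [0, 1, 2, 0, 1, 3,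 0, 1, 2, 3, 0, 3, 1, 3, 0, 3], [0, 1, 0, 3, 1, 0, 1, 2, 0, 1, 3, 0, 2, 3, 1, 0], [0, 1, 0, 3, 0, 3, 1, 0, 3, 1, 0, 2, 0, 1, 3], [0, 1, 3, 0, 3, 1, 0, 1, 0, 3, 0, 3, 1], [2, 0, 3, 1, 0, 1, 2, 0, 1, 3, 0, 3], [2, 0, 3, 1, 0, 1, 2, 0, 2, 3, 1, 0, 3], [0, 2, 0, 3, 1, 0, 2, 0, 1, 0, 1, 3, 0, 3], [2, 0, 1, 2, 3, 0, 1, 2, 0, 1, 3, 0, 3], [0, 3, 0, 1, 3, 0, 1, 2, 0, 3, 1, 0, 3], [3, 0, 1, 3, 0, 1, 2, 0, 3, 1, 0, 3, 0]]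

/-- Words of the complement. -/
def lWord : List (List ℕ) := [[], [2, 3, 0, 1, 3, 1, 3, 0, 2, 3], [2, 3, 1, 3, 0, 3, 1, 0, 2, 0], [0, 1, 2, 0, 2, 0, 1, 0], [3, 0, 3, 1, 0, 1, 2, 3, 0, 2, 0], [1, 3, 1, 0, 3, 1, 0, 1, 0, 3, 0, 1], [0, 1, 2, 3, 1, 0, 3, 1, 0, 1, 2, 0], [1, 2, 0, 3, 0, 3, 1, 0, 1, 2, 0, 1], [0, 1, 2, 0, 1, 3, 0, 1, 2, 3, 1, 0], [0, 1, 0, 2, 0, 3, 0, 1, 0, 1], [0, 1, 2, 3, 0, 1, 0, 1], [0, 1, 0, 2, 0, 1, 2, 0], [3, 1, 0, 1, 2, 3, 0, 3, 1, 0, 1, 2], [2, 0, 3, 0, 1, 0, 3, 0], [0, 2, 0, 2, 3, 1, 0, 1, 3, 0, 3], [1, 0, 3, 0, 2, 3, 1, 0, 3], [1, 0, 3, 0, 1, 0, 3, 0, 1, 0], [2, 0, 2, 0, 1, 3, 0], [1, 0, 1, 0, 2, 3, 1, 0], [0, 2, 0, 1, 3,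 0, 2, 3, 1, 3], [1, 0, 1, 2, 3, 1, 0, 1], [0, 1, 0, 2, 0, 3, 1, 0, 3, 1, 0, 1, 2, 0], [0, 1, 2, 0, 1, 2, 3, 1, 0], [0, 3, 1, 0, 2, 0, 2], [1, 2, 3, 0, 1, 0, 1, 3, 0, 1, 2, 3, 0, 3], [3, 0, 2, 0, 1, 0, 1, 2, 0, 1, 3, 0, 1], [1, 0, 2, 0, 3, 1, 0, 3, 1, 0, 1, 2], [0, 2, 3, 0, 1, 0, 1, 3, 0, 1, 2, 0, 3], [1, 0, 1, 2, 3, 0, 2, 3, 1, 0], [0, 3, 0, 1, 0, 3, 0, 2], [1, 0, 3, 0, 1, 0, 1, 3, 0, 1, 3, 1], [3, 0, 1, 2, 0, 3, 0, 3, 1], [1, 0, 1, 3, 0, 1, 0, 3, 0, 2, 3, 1], [0, 1, 0, 3, 0, 1, 0, 3, 0, 1], [0, 1, 2, 0, 2, 3, 0, 1, 0, 3, 0, 1], [1, 0, 3, 0, 1, 2, 0, 2, 0, 3, 1, 0], [0, 1, 2, 3, 1, 0, 1, 2, 0], [1, 0, 1, 0, 3, 0, 2, 0, 1, 0], [1, 2, 0, 1, 3, 0,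 2, 3, 1, 0, 1, 3], [1, 3, 0, 1, 2, 0, 1, 2, 3, 0, 1], [0, 2, 3, 0, 1, 2, 0, 3, 0, 3], [0, 1, 0, 2, 0, 2, 3, 1, 0, 3, 1, 0, 1, 0], [0, 1, 3, 1, 0, 3, 1, 0, 1, 0], [3, 0, 1, 2, 3, 0, 3, 1, 0, 2, 3, 1, 0], [0, 2, 0, 2, 3, 1, 0, 1, 2, 0, 3], [0, 2, 0, 1, 0, 1, 0, 3, 1, 0], [1, 0, 1, 2, 0, 1, 0, 3, 0, 2, 3, 1], [0, 1, 2, 0, 1, 3, 0, 2, 0, 1, 0], [0, 1, 3, 0, 1, 0, 1, 0, 2, 0], [0, 3, 0, 2, 0, 1, 0, 1, 3, 0, 3, 1], [2, 3, 0, 2, 0, 1, 0, 2, 3, 1, 0, 3], [1, 2, 0, 1, 2, 0, 3, 1, 0, 2, 0, 1], [0, 3, 0, 1, 3, 0, 1, 0, 2, 3], [0, 1, 0, 1, 3, 1, 0], [0, 1, 0, 2, 0, 3, 1, 0, 1, 2, 0], [1, 3, 0, 3, 1, 0, 1, 0, 2, 0, 3, 0], [0, 2, 3, 0, 2, 3, 1, 0, 3, 0], [0,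 1, 2, 3, 0, 1, 3, 0, 2, 3, 1, 0, 3], [0, 3, 1, 0, 1, 0, 3, 0, 1, 3, 0, 3], [1, 0, 2, 0, 3, 0, 1, 3], [0, 1, 0, 1, 2, 0, 2, 3, 1, 0, 1], [0, 2, 0, 1, 2, 0, 2, 0, 1, 0, 3], [2, 0, 1, 2, 3, 1], [0, 2, 3, 0, 2, 0, 1, 0, 2, 3], [1, 0, 3, 1, 0, 1, 2, 3, 0, 2, 3], [1, 2, 0, 3, 0, 3, 1, 0, 3, 1, 0, 1], [1, 0, 3, 0, 1, 0, 2, 3, 0, 1, 2, 0], [0, 1, 3, 1, 0, 1, 0], [0, 1, 2, 3, 0, 2, 3, 1, 0, 1], [0, 1, 2, 3, 0, 1, 2, 0, 3, 0, 1, 3], [1, 2, 0, 1, 3, 0, 1, 0, 1, 3], [1, 2, 0, 1, 0, 2, 0, 1, 3, 0, 1, 0, 3], [0, 2, 0, 2, 3, 1, 3, 0, 3, 1], [1, 0, 2, 0, 2, 0, 1, 3], [0, 3, 0, 1, 2, 3, 0, 2, 3, 0], [1, 0, 3, 1, 0, 2, 3, 1, 0, 2, 3], [1, 0, 2, 3, 1, 0, 1, 2, 0,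 3, 1], [1, 0, 3, 0, 1, 2, 0, 3, 0, 3, 1, 0], [0, 1, 0, 1, 2, 0, 2, 3, 0, 1, 0, 1, 2, 0], [0, 1, 2, 0, 1, 0, 2, 3, 0, 1, 0, 1, 2, 0], [0, 3, 1, 0, 2, 3, 1, 0, 3, 1, 0, 2, 0], [1, 3, 0, 3, 1, 3, 0, 3, 1, 0, 3, 1], [1, 0, 1, 2, 0, 2, 3, 0, 1, 2, 0, 1], [0, 3, 0, 3, 1, 0, 1, 2, 0, 1, 3, 0, 1], [1, 2, 3, 0, 1, 0, 1, 3, 0, 1, 0, 3], [1, 0, 3, 0, 3, 1, 3, 0, 3], [3, 0, 2, 3, 0, 3], [3, 1, 0, 2, 3, 0, 1, 3], [1, 0, 1, 2, 0, 1, 0, 3, 0, 1, 0, 2], [0, 2, 0, 1, 3, 0, 1, 3, 0, 2], [1, 0, 3, 0, 2, 0, 1, 0, 1, 2, 0, 1, 3], [0, 1, 2, 0, 1, 3, 0, 3, 1, 0, 1, 2, 0, 2, 3], [1, 0, 2, 0, 1, 0, 1, 2, 3, 0, 1, 0, 2], [1, 0, 2, 0, 1, 3, 0, 1, 3, 0, 1, 2], [0, 1, 0,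 1, 2, 3, 0, 2, 0, 1, 0], [0, 1, 0, 2, 0, 2, 3, 1, 0, 1, 0], [1, 0, 2, 3, 1, 0, 1, 2, 3, 0, 1, 3, 0, 3], [1, 3, 0, 1, 2, 3, 0, 1, 2, 3, 0], [3, 0, 3, 1, 0, 3, 0, 3, 1], [1, 0, 1, 3, 1, 0, 2, 0, 1, 3], [1, 2, 3, 1, 0, 2], [1, 0, 3, 1, 0, 2, 0, 2, 3], [0, 1, 3, 0, 1, 3, 0, 1, 0, 3, 0, 1, 2, 0], [2, 0, 3, 0, 1, 0, 1, 0, 2, 0, 2], [1, 3, 0, 1, 3, 0, 1, 2, 3, 0, 1, 3, 0, 2], [1, 0, 2, 0, 1, 3, 0, 3, 1, 0, 1, 2], [1, 3, 0, 1, 0, 2, 0, 3, 0, 3], [1, 2, 0, 3, 1, 0, 3, 1, 3, 0, 1, 3], [1, 2, 0, 1, 3, 0, 1, 2, 3, 0, 1, 3], [1, 0, 1, 3, 0, 1, 0, 3, 0, 1, 0, 2], [3, 1, 0, 2, 0, 1, 3, 0, 2, 3, 1, 0], [0, 1, 2, 0, 1, 0, 2, 3, 1, 0, 1], [0, 2, 0, 1, 3, 0, 3,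 1, 0, 1, 3, 0, 2, 3], [3, 1, 0, 3, 0, 2, 0, 1], [2, 3, 0, 2, 0, 1, 3, 0, 1], [1, 0, 1, 2, 3, 0, 1, 2, 0, 1, 0], [3, 0, 1, 0, 3, 1, 0, 2, 0, 1, 0, 1, 2], [2, 0, 2, 0, 1, 0, 1, 0, 3, 0, 2], [0, 1, 0, 3, 0, 2, 3, 1, 0, 3, 0, 1], [2, 3, 0, 2, 3, 1, 0, 1, 3, 0, 1], [1, 2, 0, 2, 3, 0, 3, 1, 0, 2], [1, 2, 0, 1, 3, 0, 3, 1, 3, 0, 1, 3], [1, 2, 0, 1, 0, 3, 0, 1, 0, 2, 3, 0, 1], [0, 2, 0, 1, 3, 0, 1, 2, 3, 0, 1, 3, 0], [1, 0, 3, 0, 1, 3, 0, 2, 0, 3, 1, 0], [0, 2, 0, 1, 2, 0, 3, 0, 1, 0, 3], [2, 0, 3, 1, 0, 3, 0, 1, 0, 3, 1, 0], [0, 1, 0, 1, 3, 0, 1, 3, 1, 0], [3, 0, 1, 0, 2, 3, 0, 1, 0, 3], [0, 2, 3, 0, 1, 2, 0, 1, 0, 3, 0, 3, 1], [0, 2, 3, 1, 0, 2, 3,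 1, 0, 3, 1], [0, 1, 0, 1, 2, 0, 1, 0, 1], [0, 3, 0, 3, 1, 0, 1, 0, 2, 3], [0, 1, 2, 0, 3, 0, 1, 0, 3, 1, 0, 3, 1, 0], [1, 3, 0, 1, 2, 0, 3, 1, 3, 0, 1], [3, 0, 1, 2, 0, 1, 2, 3, 0, 2, 0], [1, 0, 2, 3, 0, 1, 0, 3, 0, 1, 0, 1, 2], [0, 1, 0, 3, 1, 0, 1, 2, 0, 1, 3, 0, 3, 1], [2, 3, 0, 1, 2, 0, 1, 2, 3, 0, 1, 0], [2, 0, 1, 2, 0, 3, 0, 1, 2, 0, 3], [1, 0, 2, 0, 1, 2, 0, 1, 3, 0, 1, 2], [1, 2, 0, 2, 3, 0, 1, 2], [1, 0, 1, 0, 1, 3, 0, 1, 3, 0, 1, 2, 3], [2, 3, 0, 1, 3, 0, 2, 3], [0, 1, 0, 2, 0, 3, 1, 0, 3, 0, 1, 0, 1], [1, 0, 1, 2, 3, 1, 0, 2, 3, 1, 0, 2], [0, 3, 0, 3, 1, 0, 3, 1, 3, 0, 2, 3], [2, 3, 0, 1, 2, 3, 0, 1, 3, 0, 1], [1, 0, 1, 0, 3, 0, 1,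 3, 0, 2, 0, 1, 0], [1, 0, 1, 2, 0, 1, 2, 3, 0, 1, 2, 3], [2, 3, 0, 1, 0, 1, 0, 2, 0, 3], [0, 1, 2, 0, 3, 1, 0, 1, 2, 0, 2, 3], [2, 3, 0, 3, 1, 0, 2, 3], [1, 0, 1, 2, 3, 0, 1, 0, 1, 2, 0], [0, 3, 1, 0, 1, 0, 3, 0, 1, 2, 0, 3], [1, 0, 1, 3, 0, 1, 2, 3, 0, 1, 2, 3], [2, 3, 0, 1, 0, 1, 3, 0, 1, 0, 2, 0, 2], [2, 3, 0, 1, 2, 0, 1, 3, 0, 1, 2, 0], [3, 0, 1, 2, 0, 3, 0, 1, 2, 0, 2], [3, 0, 2, 0, 1, 0, 1, 0, 2, 3], [0, 1, 0, 2, 3, 1, 0, 1, 2, 0, 2, 3], [0, 1, 3, 0, 1, 0, 3, 0, 1, 3, 0, 2], [0, 1, 2, 3, 0, 3, 1, 0, 3, 0, 1, 3], [1, 0, 1, 0, 3, 0, 3, 1, 0, 1, 2, 0, 2, 3], [1, 2, 0, 2, 3, 0, 1, 0, 3, 0, 1, 0, 3, 0], [3, 0, 1, 0, 3, 0, 1, 2, 0, 2, 0], [1,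 2, 3, 0, 1, 0, 1, 2, 0, 1, 0, 3], [0, 1, 2, 3, 0, 3, 1, 0, 2, 0, 1, 3]]

end CfsgLib.HeldRecog
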