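/-
The centraliser of a transvection in SL(5, 2): words in four involutions, codes and element lists.
-/
import Cfsg.Agent.Lib.HeCent.Model
import Cfsg.Agent.Lib.HeldRecog.ModelData
import Cfsg.Agent.Lib.HeldRecog.Fast
import Mathlib.Data.Finset.Card

set_option autoImplicit false
set_option maxRecDepth 100000

namespace CfsgLib.HeldRecog

open CfsgLib.CosetEnum CfsgLib.HeCent

local notation "SL5" => Matrix.SpecialLinearGroup (Fin 5) (ZMod 2)

/-- The centraliser of the transvection. -/
noncomputable abbrev HS : Subgroup SL5 := Subgroup.centralizer ({sTr} : Set SL5)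

/-- The matrix of an element of the centraliser. -/
noncomputable def mx (x : HS) : Matrix (Fin 5) (Fin 5) (ZMod 2) := ((x : SL5) : Matrix (Fin 5) (Fin 5) (ZMod 2))

theorem mx_injective : Function.Injective mx := fun _ _ h => Subtype.ext (Subtype.ext h)

theorem mx_mul (x y : HS) : mx (x * y) = mx x * mx y := rfl

theorem mx_one : mx 1 = mat oneCode := mat_one.symm

/-- The code `c` is the code of `x`. -/
def HasCode (x : HS) (c : ℕ) : Prop := mx x = mat c ∧ c < 2 ^ 25

theorem HasCode.unique {x y : HS} {c : ℕ} (hx : HasCode x c) (hy : HasCode y c) : x = y :=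
  mx_injective (hx.1.trans hy.1.symm)

theorem HasCode.eq {x : HS} {c d : ℕ} (hx : HasCode x c) (hy : HasCode x d) : c = d :=
  mat_injective hx.2 hy.2 (hx.1.symm.trans hy.1)

theorem HasCode.one : HasCode 1 oneCode := ⟨mx_one, oneCode_lt⟩

theorem HasCode.mul {x y : HS} {a b : ℕ} (hx : HasCode x a) (hy : HasCode y b) : HasCode (x * y) (mulF a b) :=
  ⟨by rw [mx_mul, hx.1, hy.1, mat_mulF], mulF_lt a b⟩

theorem HasCode.eq_iff {x y : HS} {a b : ℕ} (hx : HasCode x a) (hy : HasCode y b) : x = y ↔ a = b :=
  ⟨fun h => hx.eq (h ▸ hy), fun h => hx.unique (h ▸ hy)⟩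

/-- The checks of the generators. -/
noncomputable def cgOK : Bool :=
  Nat.beq cgCodes.length 4 && cgCodes.all fun c =>
    Nat.beq (mulF c c) oneCode && Nat.beq (mulF c sCode) (mulF sCode c)

theorem cg_ok : cgOK = true := by decide +kernel

theorem gen_ok (i : ℕ) (hi : i < 4) :
    mat (cgCodes.getD i 0) * mat (cgCodes.getD i 0) = 1 ∧
      mat (cgCodes.getD i 0) * mat sCode = mat sCode * mat (cgCodes.getD i 0) := by
  have h := cg_ok
  simp only [cgOK, Bool.and_eq_true, List.all_eq_true] at h
  have hlen : cgCodes.length = 4 := Nat.eq_of_beq_eq_true h.1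
  have hc := h.2 _ (getD_mem (hlen.symm ▸ hi) 0)
  rw [mat_mulF, mat_mulF, mat_mulF, Nat.eq_of_beq_eq_true hc.1, Nat.eq_of_beq_eq_true hc.2]
  exact ⟨mat_one, rfl⟩

/-- The generators, continued by the identity. -/
noncomputable def gen (i : ℕ) : HS :=
  if hi : i < 4 then
    ⟨(⟨mat (cgCodes.getD i 0), det_one_of_mul (gen_ok i hi).1⟩ : SL5),
      Subgroup.mem_centralizer_singleton_iff.mpr (Subtype.ext (gen_ok i hi).2)⟩
  else 1

/-- The code of a generator. -/
def gcode (i : ℕ) : ℕ := if i < 4 then cgCodes.getD i 0 else oneCode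

theorem gcode_lt : ∀ i < 4, cgCodes.getD i 0 < 2 ^ 25 := by decide +kernel

theorem hasCode_gen (i : ℕ) : HasCode (gen i) (gcode i) := by
  unfold gen gcode
  by_cases hi : i < 4
  · rw [dif_pos hi, if_pos hi]; exact ⟨rfl, gcode_lt i hi⟩
  · rw [dif_neg hi, if_neg hi]; exact HasCode.one

theorem gen_sq (i : ℕ) : gen i * gen i = 1 := by
  by_cases hi : i < 4
  · refine mx_injective ?_
    rw [mx_mul, gen, dif_pos hi, mx_one]
    exact (gen_ok i hi).1.trans mat_one.symm
  · rw [gen, dif_neg hi, mul_one]

/-- The element of a word. -/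
noncomputable def wEl (w : List ℕ) : HS := (w.map gen).prod

/-- The code of a word. -/
noncomputable def wCode (w : List ℕ) : ℕ :=
  List.rec oneCode (fun i _ ih => force ih fun r => mulF (gcode i) r) w

theorem hasCode_wEl : ∀ w : List ℕ, HasCode (wEl w) (wCode w)
  | [] => HasCode.one
  | i :: w => by
    show HasCode _ (force (wCode w) fun r => mulF (gcode i) r)
    rw [force_eq]
    exact (hasCode_gen i).mul (hasCode_wEl w)

theorem wEl_append (v w : List ℕ) : wEl (v ++ w) = wEl v * wEl w := by
  simp [wEl, List.map_append, List.prod_append]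

theorem wEl_reverse : ∀ w : List ℕ, wEl w.reverse = (wEl w)⁻¹
  | [] => by simp [wEl]
  | i :: w => by
    rw [List.reverse_cons, wEl_append, wEl_reverse w, show wEl (i :: w) = gen i * wEl w by simp [wEl],
      show wEl [i] = gen i by simp [wEl], mul_inv_rev, inv_eq_of_mul_eq_one_right (gen_sq i)]

/-- Two words give the same element. -/
noncomputable def sameW (v w : List ℕ) : Bool := Nat.beq (wCode v) (wCode w)

theorem wEl_eq {v w : List ℕ} (h : sameW v w = true) : wEl v = wEl w :=
  ((hasCode_wEl v).eq_iff (hasCode_wEl w)).mpr (Nat.eq_of_beq_eq_true h)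

/-- The word gives the identity. -/
noncomputable def oneW (w : List ℕ) : Bool := Nat.beq (wCode w) oneCode

theorem wEl_one {w : List ℕ} (h : oneW w = true) : wEl w = 1 :=
  ((hasCode_wEl w).eq_iff HasCode.one).mpr (Nat.eq_of_beq_eq_true h)

/-- The checks of the word tables. -/
noncomputable def wordsOK : Bool :=
  ((List.range 128).all fun i => Nat.beq (wCode (qWord.getD i [])) (qMat.getD i 0)) &&
    (List.range 168).all fun j => Nat.beq (wCode (lWord.getD j [])) (lMat.getD j 0)

theorem words_ok : wordsOK = true := by decide +kernel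

/-- The code with two given indices. -/
noncomputable def prodF (i j : ℕ) : ℕ := mulF (qMat.getD i 0) (lMat.getD j 0)

theorem prodF_eq (i j : ℕ) : prodF i j = prodCode i j := mulF_eq _ _

/-- The element with two given indices. -/
noncomputable def elt (p : Fin 128 × Fin 168) : HS := wEl (qWord.getD p.1 [] ++ lWord.getD p.2 [])

theorem hasCode_elt (p : Fin 128 × Fin 168) : HasCode (elt p) (prodF p.1 p.2) := by
  have h := words_ok
  simp only [wordsOK, Bool.and_eq_true, List.all_eq_true, List.mem_range] at h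
  rw [elt, wEl_append, prodF, ← Nat.eq_of_beq_eq_true (h.1 p.1 p.1.2), ← Nat.eq_of_beq_eq_true (h.2 p.2 p.2.2)]
  exact (hasCode_wEl _).mul (hasCode_wEl _)

theorem elt_surjective : Function.Surjective elt := by
  intro x
  obtain ⟨y, rfl⟩ := psi.surjective x
  obtain ⟨i, hi, j, hj, h⟩ := M_code y
  refine ⟨(⟨i, hi⟩, ⟨j, hj⟩), (hasCode_elt _).unique ⟨?_, mulF_lt _ _⟩⟩
  rw [prodF_eq]
  exact h

theorem card_HS : Nat.card HS = 21504 := (Nat.card_congr psi.toEquiv).symm.trans card_Cd

theorem elt_bijective : Function.Bijective elt := by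
  have : Finite HS := Nat.finite_of_card_ne_zero (by rw [card_HS]; norm_num)
  exact (Nat.bijective_iff_surjective_and_card elt).mpr
    ⟨elt_surjective, by rw [card_HS, Nat.card_eq_fintype_card, Fintype.card_prod, Fintype.card_fin, Fintype.card_fin]⟩

instance finite_HS : Finite HS := Nat.finite_of_card_ne_zero (by rw [card_HS]; norm_num)

theorem exists_word (x : HS) : ∃ w : List ℕ, wEl w = x :=
  let ⟨_, hp⟩ := elt_surjective x
  ⟨_, hp⟩

/-- A test holds on all codes. -/
noncomputable def allCodes (f : ℕ → Bool) : Bool :=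
  qMat.all fun q => lMat.all fun l => force (mulF q l) f

theorem allCodes_spec {f : ℕ → Bool} (h : allCodes f = true) (x : HS) : ∃ c, HasCode x c ∧ f c = true := by
  obtain ⟨p, rfl⟩ := elt_surjective x
  refine ⟨_, hasCode_elt p, ?_⟩
  have h1 := List.all_eq_true.mp (List.all_eq_true.mp h (qMat.getD p.1 0)
    (getD_mem (mat_lengths.1.symm ▸ p.1.2) 0)) (lMat.getD p.2 0) (getD_mem (mat_lengths.2.symm ▸ p.2.2) 0)
  rwa [force_eq] at h1

theorem allCodes_elim {f : ℕ → Bool} (h : allCodes f = true) {x : HS} {c : ℕ} (hx : HasCode x c) : f c = true := by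
  obtain ⟨d, hd, hf⟩ := allCodes_spec h x
  rwa [hx.eq hd]

/-- A sum over an initial segment. -/
noncomputable def sumN (m : ℕ) (g : ℕ → ℕ) : ℕ := Nat.rec 0 (fun i acc => Nat.add (g i) acc) m

theorem sumN_eq : ∀ (m : ℕ) (g : ℕ → ℕ), sumN m g = ∑ i ∈ Finset.range m, g i
  | 0, _ => rfl
  | m + 1, g => by
    show g m + sumN m g = _
    rw [Finset.sum_range_succ, sumN_eq m g, add_comm]

/-- The number of codes satisfying a test. -/
noncomputable def countCodes (f : ℕ → Bool) : ℕ :=
  sumN 128 fun i => sumN 168 fun j => force (prodF i j) fun c => Bool.rec 0 1 (f c)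

theorem card_eq_countCodes (P : HS → Prop) (f : ℕ → Bool) (h : ∀ x c, HasCode x c → (P x ↔ f c = true)) :
    Nat.card {x : HS // P x} = countCodes f := by
  classical
  have e : {p : Fin 128 × Fin 168 // f (prodF p.1 p.2) = true} ≃ {x : HS // P x} :=
    Equiv.subtypeEquiv (Equiv.ofBijective elt elt_bijective) fun p => (h _ _ (hasCode_elt p)).symm
  rw [← Nat.card_congr e, Nat.card_eq_fintype_card, Fintype.card_subtype, Finset.card_filter,
    Fintype.sum_prod_type, countCodes, sumN_eq, Finset.sum_range]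
  refine Finset.sum_congr rfl fun i _ => ?_
  rw [sumN_eq, Finset.sum_range]
  refine Finset.sum_congr rfl fun j _ => ?_
  rw [force_eq]
  cases f (prodF i j) <;> rfl

end CfsgLib.HeldRecog
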