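/-
Origins of the relators of the eight local enumerations.
-/
import Mathlib.Data.Nat.Notation
import Mathlib.Data.List.Basic

set_option autoImplicit false
set_option maxRecDepth 100000

namespace CfsgLib.HeldRecog

/-- Origins of the relators. -/
def provB0_0 : List (ℕ × ℕ × List ℕ × ℕ) := [(0, 0, [], 0), (0, 0, [], 0), (0, 0, [], 0), (0, 0, [], 0), (0, 0, [], 0), (1, 0, [2, 1, 2, 1], 0), (1, 0, [1, 2, 1, 2], 0), (1, 0, [1, 0, 1, 0, 1, 0], 0), (1, 0, [0, 1, 0, 1, 0, 1], 0), (1, 0, [1, 0, 2, 1, 2, 0, 1, 0], 0), (1, 0, [2, 0, 1, 0, 1, 0, 2, 1], 0), (1, 0, [2, 0, 2, 0, 2, 0, 2, 0], 0), (1, 0, [3, 0, 3, 0, 3, 0, 3, 0], 0), (1, 0, [3, 2, 3, 2, 3, 2, 3, 2], 0), (1, 0, [0, 1, 0,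 2, 1, 2, 0, 1], 0), (1, 0, [0, 2, 0, 2, 0, 2, 0, 2], 0), (1, 0, [0, 3, 0, 3, 0, 3, 0, 3], 0), (1, 0, [1, 2, 0, 1, 0, 1, 0, 2], 0), (1, 0, [2, 3, 2, 3, 2, 3, 2, 3], 0), (1, 0, [1, 3, 2, 0, 1, 3, 0, 1, 0, 2, 3, 1, 3, 2, 3, 2, 1], 0), (1, 0, [0, 3, 2, 3, 0, 3, 1, 0, 3, 0, 2, 3, 2, 1, 0, 3, 2, 0], 0), (1, 0, [0, 2, 0, 3, 0, 3, 1, 0, 2, 0, 3, 0, 2, 1, 0, 3, 1, 3, 0, 2, 0], 0), (1, 0, [0, 1, 0, 2, 0, 1, 3, 2, 0, 3, 2, 3, 1, 3, 2, 0, 3, 2, 1, 0, 2, 1, 3, 0], 0), (1, 0, [0, 3, 1, 3, 1, 3, 1, 3, 0, 1, 0, 3, 1, 3, 1, 3, 1, 3], 0), (1, 0, [2, 0, 2, 3, 1, 0, 2, 3, 0, 3, 2, 0, 2, 3, 1, 3, 0, 2, 1], 0), (1, 0, [3, 2, 0, 2, 3, 1, 3, 0, 1, 0, 2, 3, 1, 0, 2, 3, 0], 0), (1, 0, [0, 1, 0, 2,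 0, 2, 3, 1, 3, 0, 2, 3, 1, 2, 3, 0, 2, 3, 1, 0, 2, 3, 1, 0], 0), (1, 0, [1, 0, 2, 3, 0, 3, 1, 3, 1, 0, 2, 3, 0, 3, 1, 0, 3, 0], 0), (1, 0, [2, 0, 2, 3, 1, 0, 3, 1, 3, 0, 1, 0, 2, 0, 1, 3, 2, 3, 1], 0), (1, 0, [1, 3, 1, 2, 3, 2, 1, 3, 2, 1, 3, 2], 0), (1, 0, [3, 1, 3, 2, 3, 0, 1, 3, 0, 1, 0, 2, 3, 1, 3, 1, 3], 0), (1, 0, [0, 2, 0, 1, 3, 2, 3, 0, 2, 3, 1, 3, 2, 3, 0, 2, 3, 1, 3, 0, 2], 0), (1, 0, [0, 2, 0, 3, 1, 3, 0, 3, 2, 1, 2, 3, 0, 3, 1, 3, 2, 0], 0), (1, 0, [0, 3, 0, 3, 2, 3, 1, 3, 1, 3, 2, 0, 3, 1, 3, 1, 0], 0), (1, 0, [1, 2, 0, 2, 3, 1, 0, 2, 0, 3, 2, 0, 2, 1, 3, 0, 2], 0), (1, 0, [1, 2, 3, 2, 3, 0, 3, 1, 2, 3, 1, 3, 2, 3, 0, 1, 3], 0), (1, 0, [3, 1, 0, 2, 0, 2, 3, 0,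 2, 0, 2, 3, 1, 3], 0), (1, 0, [1, 3, 1, 3, 2, 0, 1, 2, 3, 0, 3, 0, 3, 2, 1, 3, 0, 3, 2], 0), (2, 0, [], 0), (2, 1, [], 0), (2, 2, [], 0), (2, 3, [], 0), (3, 0, [0, 3, 4, 0, 4], 6), (3, 0, [0, 3, 4, 1, 4], 6), (3, 0, [0, 4, 0, 3, 4], 6), (3, 0, [0, 4, 0, 4, 3], 6), (3, 0, [0, 4, 1, 4, 3], 6), (3, 0, [1, 4, 0, 3, 4], 6), (3, 0, [3, 4, 0, 4, 0], 6), (3, 0, [3, 4, 1, 4, 0], 6), (3, 0, [4, 0, 3, 4, 0], 6), (3, 0, [4, 0, 3, 4, 1], 6), (3, 0, [4, 0, 4, 0, 3], 6), (3, 0, [4, 1, 4, 0, 3], 6), (3, 0, [0, 1, 4, 1, 2, 4], 6), (3, 0, [0, 2, 4], 12), (3, 0, [0, 2, 4, 0, 4, 2], 6), (3, 0, [0, 2, 4, 1, 4, 2], 6), (3, 0, [0, 4, 1, 2, 4, 1], 6), (3, 0, [0, 4, 2], 12), (3, 0, [0, 4, 3, 1, 3,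 4], 6), (3, 0, [1, 2, 4, 0, 1, 4], 6), (3, 0, [1, 2, 4, 1, 0, 4], 6), (3, 0, [1, 3, 4, 0, 4, 3], 6), (3, 0, [1, 3, 4, 1, 4, 3], 6), (3, 0, [1, 4, 0, 1, 4, 2], 6), (3, 0, [1, 4, 1, 0, 4, 2], 6), (3, 0, [1, 4, 1, 2, 4, 0], 6), (3, 0, [2, 0, 4], 12), (3, 0, [2, 4, 0, 1, 4, 1], 6), (3, 0, [3, 4], 3), (3, 0, [0, 4], 6)]

/-- Origins of the relators. -/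
def provB0_19 : List (ℕ × ℕ × List ℕ × ℕ) := [(0, 0, [], 0), (0, 0, [], 0), (0, 0, [], 0), (0, 0, [], 0), (0, 0, [], 0), (1, 0, [2, 1, 2, 1], 0), (1, 0, [1, 2, 1, 2], 0), (1, 0, [1, 0, 1, 0, 1, 0], 0), (1, 0, [0, 1, 0, 1, 0, 1], 0), (1, 0, [1, 0, 2, 1, 2, 0, 1, 0], 0), (1, 0, [2, 0, 1, 0, 1, 0, 2, 1], 0), (1, 0, [2, 0, 2, 0, 2, 0, 2, 0], 0), (1, 0, [3, 0, 3, 0, 3, 0, 3, 0], 0), (1, 0, [3, 2, 3, 2, 3, 2, 3, 2], 0), (1, 0, [0, 1, 0, 2, 1, 2, 0, 1], 0), (1, 0, [0, 2, 0, 2, 0, 2, 0, 2], 0), (1, 0, [0, 3, 0, 3, 0, 3, 0, 3], 0), (1, 0, [1, 2, 0, 1, 0, 1, 0, 2], 0), (1, 0, [2, 3, 2, 3, 2, 3, 2, 3], 0), (1, 0, [1, 3, 2, 0, 1, 3, 0, 1, 0, 2, 3, 1, 3, 2, 3, 2, 1], 0), (1, 0, [0, 3,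 2, 3, 0, 3, 1, 0, 3, 0, 2, 3, 2, 1, 0, 3, 2, 0], 0), (1, 0, [0, 2, 0, 3, 0, 3, 1, 0, 2, 0, 3, 0, 2, 1, 0, 3, 1, 3, 0, 2, 0], 0), (1, 0, [0, 1, 0, 2, 0, 1, 3, 2, 0, 3, 2, 3, 1, 3, 2, 0, 3, 2, 1, 0, 2, 1, 3, 0], 0), (1, 0, [0, 3, 1, 3, 1, 3, 1, 3, 0, 1, 0, 3, 1, 3, 1, 3, 1, 3], 0), (1, 0, [2, 0, 2, 3, 1, 0, 2, 3, 0, 3, 2, 0, 2, 3, 1, 3, 0, 2, 1], 0), (1, 0, [3, 2, 0, 2, 3, 1, 3, 0, 1, 0, 2, 3, 1, 0, 2, 3, 0], 0), (1, 0, [0, 1, 0, 2, 0, 2, 3, 1, 3, 0, 2, 3, 1, 2, 3, 0, 2, 3, 1, 0, 2, 3, 1, 0], 0), (1, 0, [1, 0, 2, 3, 0, 3, 1, 3, 1, 0, 2, 3, 0, 3, 1, 0, 3, 0], 0), (1, 0, [2, 0, 2, 3, 1, 0, 3, 1, 3, 0, 1, 0, 2, 0, 1, 3, 2, 3, 1], 0), (1, 0, [1, 3, 1, 2, 3, 2, 1, 3, 2, 1, 3, 2],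 0), (1, 0, [3, 1, 3, 2, 3, 0, 1, 3, 0, 1, 0, 2, 3, 1, 3, 1, 3], 0), (1, 0, [0, 2, 0, 1, 3, 2, 3, 0, 2, 3, 1, 3, 2, 3, 0, 2, 3, 1, 3, 0, 2], 0), (1, 0, [0, 2, 0, 3, 1, 3, 0, 3, 2, 1, 2, 3, 0, 3, 1, 3, 2, 0], 0), (1, 0, [0, 3, 0, 3, 2, 3, 1, 3, 1, 3, 2, 0, 3, 1, 3, 1, 0], 0), (1, 0, [1, 2, 0, 2, 3, 1, 0, 2, 0, 3, 2, 0, 2, 1, 3, 0, 2], 0), (1, 0, [1, 2, 3, 2, 3, 0, 3, 1, 2, 3, 1, 3, 2, 3, 0, 1, 3], 0), (1, 0, [3, 1, 0, 2, 0, 2, 3, 0, 2, 0, 2, 3, 1, 3], 0), (1, 0, [1, 3, 1, 3, 2, 0, 1, 2, 3, 0, 3, 0, 3, 2, 1, 3, 0, 3, 2], 0), (2, 0, [], 0), (2, 1, [], 0), (2, 2, [], 0), (2, 3, [], 0), (3, 0, [0, 3, 4, 0, 4], 6), (3, 0, [0, 3, 4, 1, 4], 6), (3, 0, [0, 4, 0, 3, 4], 6), (3, 0, [0,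 4, 0, 4, 3], 6), (3, 0, [0, 4, 1, 4, 3], 6), (3, 0, [1, 4, 0, 3, 4], 6), (3, 0, [3, 4, 0, 4, 0], 6), (3, 0, [3, 4, 1, 4, 0], 6), (3, 0, [4, 0, 3, 4, 0], 6), (3, 0, [4, 0, 3, 4, 1], 6), (3, 0, [4, 0, 4, 0, 3], 6), (3, 0, [4, 1, 4, 0, 3], 6), (3, 0, [0, 1, 4, 1, 2, 4], 6), (3, 0, [0, 2, 4], 12), (3, 0, [0, 2, 4, 0, 4, 2], 6), (3, 0, [0, 2, 4, 1, 4, 2], 6), (3, 0, [0, 4, 1, 2, 4, 1], 6), (3, 0, [0, 4, 2], 12), (3, 0, [0, 4, 3, 1, 3, 4], 6), (3, 0, [1, 2, 4, 0, 1, 4], 6), (3, 0, [1, 2, 4, 1, 0, 4], 6), (3, 0, [1, 3, 4, 0, 4, 3], 6), (3, 0, [1, 3, 4, 1, 4, 3], 6), (3, 0, [1, 4, 0, 1, 4, 2], 6), (3, 0, [1, 4, 1, 0, 4, 2], 6), (3, 0, [1, 4, 1, 2, 4, 0], 6), (3, 0, [2, 0, 4], 12),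 (3, 0, [2, 4, 0, 1, 4, 1], 6), (3, 0, [3, 4], 3), (3, 19, [0, 4], 6)]

/-- Origins of the relators. -/
def provB28_0 : List (ℕ × ℕ × List ℕ × ℕ) := [(0, 0, [], 0), (0, 0, [], 0), (0, 0, [], 0), (0, 0, [], 0), (0, 0, [], 0), (1, 0, [2, 1, 2, 1], 0), (1, 0, [1, 2, 1, 2], 0), (1, 0, [1, 0, 1, 0, 1, 0], 0), (1, 0, [0, 1, 0, 1, 0, 1], 0), (1, 0, [1, 0, 2, 1, 2, 0, 1, 0], 0), (1, 0, [2, 0, 1, 0, 1, 0, 2, 1], 0), (1, 0, [2, 0, 2, 0, 2, 0, 2, 0], 0), (1, 0, [3, 0, 3, 0, 3, 0, 3, 0], 0), (1, 0, [3, 2, 3, 2, 3, 2, 3, 2], 0), (1, 0, [0, 1, 0, 2, 1, 2, 0, 1], 0), (1, 0, [0, 2, 0, 2, 0, 2, 0, 2], 0), (1, 0, [0, 3, 0, 3, 0, 3, 0, 3], 0), (1, 0, [1, 2, 0, 1, 0, 1, 0, 2], 0), (1, 0, [2, 3,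 2, 3, 2, 3, 2, 3], 0), (1, 0, [1, 3, 2, 0, 1, 3, 0, 1, 0, 2, 3, 1, 3, 2, 3, 2, 1], 0), (1, 0, [0, 3, 2, 3, 0, 3, 1, 0, 3, 0, 2, 3, 2, 1, 0, 3, 2, 0], 0), (1, 0, [0, 2, 0, 3, 0, 3, 1, 0, 2, 0, 3, 0, 2, 1, 0, 3, 1, 3, 0, 2, 0], 0), (1, 0, [0, 1, 0, 2, 0, 1, 3, 2, 0, 3, 2, 3, 1, 3, 2, 0, 3, 2, 1, 0, 2, 1, 3, 0], 0), (1, 0, [0, 3, 1, 3, 1, 3, 1, 3, 0, 1, 0, 3, 1, 3, 1, 3, 1, 3], 0), (1, 0, [2, 0, 2, 3, 1, 0, 2, 3, 0, 3, 2, 0, 2, 3, 1, 3, 0, 2, 1], 0), (1, 0, [3, 2, 0, 2, 3, 1, 3, 0, 1, 0, 2, 3, 1, 0, 2, 3, 0], 0), (1, 0, [0, 1, 0, 2, 0, 2, 3, 1, 3, 0, 2, 3, 1, 2, 3, 0, 2, 3, 1, 0, 2, 3, 1, 0], 0), (1, 0, [1, 0, 2, 3, 0, 3, 1, 3, 1, 0, 2, 3, 0, 3, 1, 0, 3, 0], 0), (1, 0, [2, 0,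 2, 3, 1, 0, 3, 1, 3, 0, 1, 0, 2, 0, 1, 3, 2, 3, 1], 0), (1, 0, [1, 3, 1, 2, 3, 2, 1, 3, 2, 1, 3, 2], 0), (1, 0, [3, 1, 3, 2, 3, 0, 1, 3, 0, 1, 0, 2, 3, 1, 3, 1, 3], 0), (1, 0, [0, 2, 0, 1, 3, 2, 3, 0, 2, 3, 1, 3, 2, 3, 0, 2, 3, 1, 3, 0, 2], 0), (1, 0, [0, 2, 0, 3, 1, 3, 0, 3, 2, 1, 2, 3, 0, 3, 1, 3, 2, 0], 0), (1, 0, [0, 3, 0, 3, 2, 3, 1, 3, 1, 3, 2, 0, 3, 1, 3, 1, 0], 0), (1, 0, [1, 2, 0, 2, 3, 1, 0, 2, 0, 3, 2, 0, 2, 1, 3, 0, 2], 0), (1, 0, [1, 2, 3, 2, 3, 0, 3, 1, 2, 3, 1, 3, 2, 3, 0, 1, 3], 0), (1, 0, [3, 1, 0, 2, 0, 2, 3, 0, 2, 0, 2, 3, 1, 3], 0), (1, 0, [1, 3, 1, 3, 2, 0, 1, 2, 3, 0, 3, 0, 3, 2, 1, 3, 0, 3, 2], 0), (2, 0, [], 0), (2, 1, [], 0), (2, 2, [], 0), (2, 3,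 [], 0), (3, 0, [0, 3, 4, 0, 4], 6), (3, 0, [0, 3, 4, 1, 4], 6), (3, 0, [0, 4, 0, 3, 4], 6), (3, 0, [0, 4, 0, 4, 3], 6), (3, 0, [0, 4, 1, 4, 3], 6), (3, 0, [1, 4, 0, 3, 4], 6), (3, 0, [3, 4, 0, 4, 0], 6), (3, 0, [3, 4, 1, 4, 0], 6), (3, 0, [4, 0, 3, 4, 0], 6), (3, 0, [4, 0, 3, 4, 1], 6), (3, 0, [4, 0, 4, 0, 3], 6), (3, 0, [4, 1, 4, 0, 3], 6), (3, 0, [0, 1, 4, 1, 2, 4], 6), (3, 0, [0, 2, 4], 12), (3, 0, [0, 2, 4, 0, 4, 2], 6), (3, 0, [0, 2, 4, 1, 4, 2], 6), (3, 0, [0, 4, 1, 2, 4, 1], 6), (3, 0, [0, 4, 2], 12), (3, 0, [0, 4, 3, 1, 3, 4], 6), (3, 0, [1, 2, 4, 0, 1, 4], 6), (3, 0, [1, 2, 4, 1, 0, 4], 6), (3, 0, [1, 3, 4, 0, 4, 3], 6), (3, 0, [1, 3, 4, 1, 4, 3], 6), (3, 0, [1, 4,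 0, 1, 4, 2], 6), (3, 0, [1, 4, 1, 0, 4, 2], 6), (3, 0, [1, 4, 1, 2, 4, 0], 6), (3, 0, [2, 0, 4], 12), (3, 0, [2, 4, 0, 1, 4, 1], 6), (3, 28, [3, 4], 3), (3, 0, [0, 4], 6)]

/-- Origins of the relators. -/
def provB28_19 : List (ℕ × ℕ × List ℕ × ℕ) := [(0, 0, [], 0), (0, 0, [], 0), (0, 0, [], 0), (0, 0, [], 0), (0, 0, [], 0), (1, 0, [2, 1, 2, 1], 0), (1, 0, [1, 2, 1, 2], 0), (1, 0, [1, 0, 1, 0, 1, 0], 0), (1, 0, [0, 1, 0, 1, 0, 1], 0), (1, 0, [1, 0, 2, 1, 2, 0, 1, 0], 0), (1, 0, [2, 0, 1, 0, 1, 0, 2, 1], 0), (1, 0, [2, 0, 2, 0, 2, 0, 2, 0], 0), (1, 0, [3, 0, 3, 0, 3, 0, 3, 0], 0), (1, 0, [3, 2, 3, 2, 3, 2, 3, 2], 0), (1, 0, [0, 1, 0, 2, 1, 2, 0, 1], 0), (1, 0, [0, 2, 0, 2,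 0, 2, 0, 2], 0), (1, 0, [0, 3, 0, 3, 0, 3, 0, 3], 0), (1, 0, [1, 2, 0, 1, 0, 1, 0, 2], 0), (1, 0, [2, 3, 2, 3, 2, 3, 2, 3], 0), (1, 0, [1, 3, 2, 0, 1, 3, 0, 1, 0, 2, 3, 1, 3, 2, 3, 2, 1], 0), (1, 0, [0, 3, 2, 3, 0, 3, 1, 0, 3, 0, 2, 3, 2, 1, 0, 3, 2, 0], 0), (1, 0, [0, 2, 0, 3, 0, 3, 1, 0, 2, 0, 3, 0, 2, 1, 0, 3, 1, 3, 0, 2, 0], 0), (1, 0, [0, 1, 0, 2, 0, 1, 3, 2, 0, 3, 2, 3, 1, 3, 2, 0, 3, 2, 1, 0, 2, 1, 3, 0], 0), (1, 0, [0, 3, 1, 3, 1, 3, 1, 3, 0, 1, 0, 3, 1, 3, 1, 3, 1, 3], 0), (1, 0, [2, 0, 2, 3, 1, 0, 2, 3, 0, 3, 2, 0, 2, 3, 1, 3, 0, 2, 1], 0), (1, 0, [3, 2, 0, 2, 3, 1, 3, 0, 1, 0, 2, 3, 1, 0, 2, 3, 0], 0), (1, 0, [0, 1, 0, 2, 0, 2, 3, 1, 3, 0, 2, 3, 1, 2, 3, 0, 2, 3,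 1, 0, 2, 3, 1, 0], 0), (1, 0, [1, 0, 2, 3, 0, 3, 1, 3, 1, 0, 2, 3, 0, 3, 1, 0, 3, 0], 0), (1, 0, [2, 0, 2, 3, 1, 0, 3, 1, 3, 0, 1, 0, 2, 0, 1, 3, 2, 3, 1], 0), (1, 0, [1, 3, 1, 2, 3, 2, 1, 3, 2, 1, 3, 2], 0), (1, 0, [3, 1, 3, 2, 3, 0, 1, 3, 0, 1, 0, 2, 3, 1, 3, 1, 3], 0), (1, 0, [0, 2, 0, 1, 3, 2, 3, 0, 2, 3, 1, 3, 2, 3, 0, 2, 3, 1, 3, 0, 2], 0), (1, 0, [0, 2, 0, 3, 1, 3, 0, 3, 2, 1, 2, 3, 0, 3, 1, 3, 2, 0], 0), (1, 0, [0, 3, 0, 3, 2, 3, 1, 3, 1, 3, 2, 0, 3, 1, 3, 1, 0], 0), (1, 0, [1, 2, 0, 2, 3, 1, 0, 2, 0, 3, 2, 0, 2, 1, 3, 0, 2], 0), (1, 0, [1, 2, 3, 2, 3, 0, 3, 1, 2, 3, 1, 3, 2, 3, 0, 1, 3], 0), (1, 0, [3, 1, 0, 2, 0, 2, 3, 0, 2, 0, 2, 3, 1, 3], 0), (1, 0, [1, 3, 1, 3,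 2, 0, 1, 2, 3, 0, 3, 0, 3, 2, 1, 3, 0, 3, 2], 0), (2, 0, [], 0), (2, 1, [], 0), (2, 2, [], 0), (2, 3, [], 0), (3, 0, [0, 3, 4, 0, 4], 6), (3, 0, [0, 3, 4, 1, 4], 6), (3, 0, [0, 4, 0, 3, 4], 6), (3, 0, [0, 4, 0, 4, 3], 6), (3, 0, [0, 4, 1, 4, 3], 6), (3, 0, [1, 4, 0, 3, 4], 6), (3, 0, [3, 4, 0, 4, 0], 6), (3, 0, [3, 4, 1, 4, 0], 6), (3, 0, [4, 0, 3, 4, 0], 6), (3, 0, [4, 0, 3, 4, 1], 6), (3, 0, [4, 0, 4, 0, 3], 6), (3, 0, [4, 1, 4, 0, 3], 6), (3, 0, [0, 1, 4, 1, 2, 4], 6), (3, 0, [0, 2, 4], 12), (3, 0, [0, 2, 4, 0, 4, 2], 6), (3, 0, [0, 2, 4, 1, 4, 2], 6), (3, 0, [0, 4, 1, 2, 4, 1], 6), (3, 0, [0, 4, 2], 12), (3, 0, [0, 4, 3, 1, 3, 4], 6), (3, 0, [1, 2, 4, 0, 1, 4], 6), (3,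 0, [1, 2, 4, 1, 0, 4], 6), (3, 0, [1, 3, 4, 0, 4, 3], 6), (3, 0, [1, 3, 4, 1, 4, 3], 6), (3, 0, [1, 4, 0, 1, 4, 2], 6), (3, 0, [1, 4, 1, 0, 4, 2], 6), (3, 0, [1, 4, 1, 2, 4, 0], 6), (3, 0, [2, 0, 4], 12), (3, 0, [2, 4, 0, 1, 4, 1], 6), (3, 28, [3, 4], 3), (3, 19, [0, 4], 6)]

/-- Origins of the relators. -/
def provB39_0 : List (ℕ × ℕ × List ℕ × ℕ) := [(0, 0, [], 0), (0, 0, [], 0), (0, 0, [], 0), (0, 0, [], 0), (0, 0, [], 0), (1, 0, [2, 1, 2, 1], 0), (1, 0, [1, 2, 1, 2], 0), (1, 0, [1, 0, 1, 0, 1, 0], 0), (1, 0, [0, 1, 0, 1, 0, 1], 0), (1, 0, [1, 0, 2, 1, 2, 0, 1, 0], 0), (1, 0, [2, 0, 1, 0, 1, 0, 2, 1], 0), (1, 0, [2, 0, 2, 0, 2, 0, 2, 0], 0), (1, 0, [3, 0, 3, 0, 3, 0, 3,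 0], 0), (1, 0, [3, 2, 3, 2, 3, 2, 3, 2], 0), (1, 0, [0, 1, 0, 2, 1, 2, 0, 1], 0), (1, 0, [0, 2, 0, 2, 0, 2, 0, 2], 0), (1, 0, [0, 3, 0, 3, 0, 3, 0, 3], 0), (1, 0, [1, 2, 0, 1, 0, 1, 0, 2], 0), (1, 0, [2, 3, 2, 3, 2, 3, 2, 3], 0), (1, 0, [1, 3, 2, 0, 1, 3, 0, 1, 0, 2, 3, 1, 3, 2, 3, 2, 1], 0), (1, 0, [0, 3, 2, 3, 0, 3, 1, 0, 3, 0, 2, 3, 2, 1, 0, 3, 2, 0], 0), (1, 0, [0, 2, 0, 3, 0, 3, 1, 0, 2, 0, 3, 0, 2, 1, 0, 3, 1, 3, 0, 2, 0], 0), (1, 0, [0, 1, 0, 2, 0, 1, 3, 2, 0, 3, 2, 3, 1, 3, 2, 0, 3, 2, 1, 0, 2, 1, 3, 0], 0), (1, 0, [0, 3, 1, 3, 1, 3, 1, 3, 0, 1, 0, 3, 1, 3, 1, 3, 1, 3], 0), (1, 0, [2, 0, 2, 3, 1, 0, 2, 3, 0, 3, 2, 0, 2, 3, 1, 3, 0, 2, 1], 0), (1, 0, [3, 2, 0, 2, 3,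 1, 3, 0, 1, 0, 2, 3, 1, 0, 2, 3, 0], 0), (1, 0, [0, 1, 0, 2, 0, 2, 3, 1, 3, 0, 2, 3, 1, 2, 3, 0, 2, 3, 1, 0, 2, 3, 1, 0], 0), (1, 0, [1, 0, 2, 3, 0, 3, 1, 3, 1, 0, 2, 3, 0, 3, 1, 0, 3, 0], 0), (1, 0, [2, 0, 2, 3, 1, 0, 3, 1, 3, 0, 1, 0, 2, 0, 1, 3, 2, 3, 1], 0), (1, 0, [1, 3, 1, 2, 3, 2, 1, 3, 2, 1, 3, 2], 0), (1, 0, [3, 1, 3, 2, 3, 0, 1, 3, 0, 1, 0, 2, 3, 1, 3, 1, 3], 0), (1, 0, [0, 2, 0, 1, 3, 2, 3, 0, 2, 3, 1, 3, 2, 3, 0, 2, 3, 1, 3, 0, 2], 0), (1, 0, [0, 2, 0, 3, 1, 3, 0, 3, 2, 1, 2, 3, 0, 3, 1, 3, 2, 0], 0), (1, 0, [0, 3, 0, 3, 2, 3, 1, 3, 1, 3, 2, 0, 3, 1, 3, 1, 0], 0), (1, 0, [1, 2, 0, 2, 3, 1, 0, 2, 0, 3, 2, 0, 2, 1, 3, 0, 2], 0), (1, 0, [1, 2, 3, 2, 3, 0, 3, 1, 2,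 3, 1, 3, 2, 3, 0, 1, 3], 0), (1, 0, [3, 1, 0, 2, 0, 2, 3, 0, 2, 0, 2, 3, 1, 3], 0), (1, 0, [1, 3, 1, 3, 2, 0, 1, 2, 3, 0, 3, 0, 3, 2, 1, 3, 0, 3, 2], 0), (2, 0, [], 0), (2, 1, [], 0), (2, 2, [], 0), (2, 3, [], 0), (3, 0, [0, 3, 4, 0, 4], 6), (3, 0, [0, 3, 4, 1, 4], 6), (3, 0, [0, 4, 0, 3, 4], 6), (3, 0, [0, 4, 0, 4, 3], 6), (3, 0, [0, 4, 1, 4, 3], 6), (3, 0, [1, 4, 0, 3, 4], 6), (3, 0, [3, 4, 0, 4, 0], 6), (3, 0, [3, 4, 1, 4, 0], 6), (3, 0, [4, 0, 3, 4, 0], 6), (3, 0, [4, 0, 3, 4, 1], 6), (3, 0, [4, 0, 4, 0, 3], 6), (3, 0, [4, 1, 4, 0, 3], 6), (3, 0, [0, 1, 4, 1, 2, 4], 6), (3, 0, [0, 2, 4], 12), (3, 0, [0, 2, 4, 0, 4, 2], 6), (3, 0, [0, 2, 4, 1, 4, 2], 6), (3, 0, [0, 4, 1,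 2, 4, 1], 6), (3, 0, [0, 4, 2], 12), (3, 0, [0, 4, 3, 1, 3, 4], 6), (3, 0, [1, 2, 4, 0, 1, 4], 6), (3, 0, [1, 2, 4, 1, 0, 4], 6), (3, 0, [1, 3, 4, 0, 4, 3], 6), (3, 0, [1, 3, 4, 1, 4, 3], 6), (3, 0, [1, 4, 0, 1, 4, 2], 6), (3, 0, [1, 4, 1, 0, 4, 2], 6), (3, 0, [1, 4, 1, 2, 4, 0], 6), (3, 0, [2, 0, 4], 12), (3, 0, [2, 4, 0, 1, 4, 1], 6), (3, 39, [3, 4], 3), (3, 0, [0, 4], 6)]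

/-- Origins of the relators. -/
def provB39_19 : List (ℕ × ℕ × List ℕ × ℕ) := [(0, 0, [], 0), (0, 0, [], 0), (0, 0, [], 0), (0, 0, [], 0), (0, 0, [], 0), (1, 0, [2, 1, 2, 1], 0), (1, 0, [1, 2, 1, 2], 0), (1, 0, [1, 0, 1, 0, 1, 0], 0), (1, 0, [0, 1, 0, 1, 0, 1], 0), (1, 0, [1, 0, 2, 1, 2, 0, 1, 0], 0), (1, 0, [2, 0, 1, 0, 1, 0, 2, 1], 0), (1, 0, [2, 0, 2, 0, 2, 0, 2, 0], 0), (1, 0, [3, 0, 3, 0, 3, 0, 3, 0], 0), (1, 0, [3, 2, 3, 2, 3, 2, 3, 2], 0), (1, 0, [0, 1, 0, 2, 1, 2, 0, 1], 0), (1, 0, [0, 2, 0, 2, 0, 2, 0, 2], 0), (1, 0, [0, 3, 0, 3, 0, 3, 0, 3], 0), (1, 0, [1, 2, 0, 1, 0, 1, 0, 2], 0), (1, 0, [2, 3, 2, 3, 2, 3, 2, 3], 0), (1, 0, [1, 3, 2, 0, 1, 3, 0, 1, 0, 2, 3, 1,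 3, 2, 3, 2, 1], 0), (1, 0, [0, 3, 2, 3, 0, 3, 1, 0, 3, 0, 2, 3, 2, 1, 0, 3, 2, 0], 0), (1, 0, [0, 2, 0, 3, 0, 3, 1, 0, 2, 0, 3, 0, 2, 1, 0, 3, 1, 3, 0, 2, 0], 0), (1, 0, [0, 1, 0, 2, 0, 1, 3, 2, 0, 3, 2, 3, 1, 3, 2, 0, 3, 2, 1, 0, 2, 1, 3, 0], 0), (1, 0, [0, 3, 1, 3, 1, 3, 1, 3, 0, 1, 0, 3, 1, 3, 1, 3, 1, 3], 0), (1, 0, [2, 0, 2, 3, 1, 0, 2, 3, 0, 3, 2, 0, 2, 3, 1, 3, 0, 2, 1], 0), (1, 0, [3, 2, 0, 2, 3, 1, 3, 0, 1, 0, 2, 3, 1, 0, 2, 3, 0], 0), (1, 0, [0, 1, 0, 2, 0, 2, 3, 1, 3, 0, 2, 3, 1, 2, 3, 0, 2, 3, 1, 0, 2, 3, 1, 0], 0), (1, 0, [1, 0, 2, 3, 0, 3, 1, 3, 1, 0, 2, 3, 0, 3, 1, 0, 3, 0], 0), (1, 0, [2, 0, 2, 3, 1, 0, 3, 1, 3, 0, 1, 0, 2, 0, 1, 3, 2, 3, 1], 0), (1, 0, [1,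 3, 1, 2, 3, 2, 1, 3, 2, 1, 3, 2], 0), (1, 0, [3, 1, 3, 2, 3, 0, 1, 3, 0, 1, 0, 2, 3, 1, 3, 1, 3], 0), (1, 0, [0, 2, 0, 1, 3, 2, 3, 0, 2, 3, 1, 3, 2, 3, 0, 2, 3, 1, 3, 0, 2], 0), (1, 0, [0, 2, 0, 3, 1, 3, 0, 3, 2, 1, 2, 3, 0, 3, 1, 3, 2, 0], 0), (1, 0, [0, 3, 0, 3, 2, 3, 1, 3, 1, 3, 2, 0, 3, 1, 3, 1, 0], 0), (1, 0, [1, 2, 0, 2, 3, 1, 0, 2, 0, 3, 2, 0, 2, 1, 3, 0, 2], 0), (1, 0, [1, 2, 3, 2, 3, 0, 3, 1, 2, 3, 1, 3, 2, 3, 0, 1, 3], 0), (1, 0, [3, 1, 0, 2, 0, 2, 3, 0, 2, 0, 2, 3, 1, 3], 0), (1, 0, [1, 3, 1, 3, 2, 0, 1, 2, 3, 0, 3, 0, 3, 2, 1, 3, 0, 3, 2], 0), (2, 0, [], 0), (2, 1, [], 0), (2, 2, [], 0), (2, 3, [], 0), (3, 0, [0, 3, 4, 0, 4], 6), (3, 0, [0, 3, 4, 1, 4], 6), (3,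 0, [0, 4, 0, 3, 4], 6), (3, 0, [0, 4, 0, 4, 3], 6), (3, 0, [0, 4, 1, 4, 3], 6), (3, 0, [1, 4, 0, 3, 4], 6), (3, 0, [3, 4, 0, 4, 0], 6), (3, 0, [3, 4, 1, 4, 0], 6), (3, 0, [4, 0, 3, 4, 0], 6), (3, 0, [4, 0, 3, 4, 1], 6), (3, 0, [4, 0, 4, 0, 3], 6), (3, 0, [4, 1, 4, 0, 3], 6), (3, 0, [0, 1, 4, 1, 2, 4], 6), (3, 0, [0, 2, 4], 12), (3, 0, [0, 2, 4, 0, 4, 2], 6), (3, 0, [0, 2, 4, 1, 4, 2], 6), (3, 0, [0, 4, 1, 2, 4, 1], 6), (3, 0, [0, 4, 2], 12), (3, 0, [0, 4, 3, 1, 3, 4], 6), (3, 0, [1, 2, 4, 0, 1, 4], 6), (3, 0, [1, 2, 4, 1, 0, 4], 6), (3, 0, [1, 3, 4, 0, 4, 3], 6), (3, 0, [1, 3, 4, 1, 4, 3], 6), (3, 0, [1, 4, 0, 1, 4, 2], 6), (3, 0, [1, 4, 1, 0, 4, 2], 6), (3, 0, [1, 4, 1, 2,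 4, 0], 6), (3, 0, [2, 0, 4], 12), (3, 0, [2, 4, 0, 1, 4, 1], 6), (3, 39, [3, 4], 3), (3, 19, [0, 4], 6)]

/-- Origins of the relators. -/
def provB59_0 : List (ℕ × ℕ × List ℕ × ℕ) := [(0, 0, [], 0), (0, 0, [], 0), (0, 0, [], 0), (0, 0, [], 0), (0, 0, [], 0), (1, 0, [2, 1, 2, 1], 0), (1, 0, [1, 2, 1, 2], 0), (1, 0, [1, 0, 1, 0, 1, 0], 0), (1, 0, [0, 1, 0, 1, 0, 1], 0), (1, 0, [1, 0, 2, 1, 2, 0, 1, 0], 0), (1, 0, [2, 0, 1, 0, 1, 0, 2, 1], 0), (1, 0, [2, 0, 2, 0, 2, 0, 2, 0], 0), (1, 0, [3, 0, 3, 0, 3, 0, 3, 0], 0), (1, 0, [3, 2, 3, 2, 3, 2, 3, 2], 0), (1, 0, [0, 1, 0, 2, 1, 2, 0, 1], 0), (1, 0, [0, 2, 0, 2, 0, 2, 0, 2], 0), (1, 0, [0, 3, 0, 3, 0, 3, 0, 3], 0), (1, 0, [1, 2,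 0, 1, 0, 1, 0, 2], 0), (1, 0, [2, 3, 2, 3, 2, 3, 2, 3], 0), (1, 0, [1, 3, 2, 0, 1, 3, 0, 1, 0, 2, 3, 1, 3, 2, 3, 2, 1], 0), (1, 0, [0, 3, 2, 3, 0, 3, 1, 0, 3, 0, 2, 3, 2, 1, 0, 3, 2, 0], 0), (1, 0, [0, 2, 0, 3, 0, 3, 1, 0, 2, 0, 3, 0, 2, 1, 0, 3, 1, 3, 0, 2, 0], 0), (1, 0, [0, 1, 0, 2, 0, 1, 3, 2, 0, 3, 2, 3, 1, 3, 2, 0, 3, 2, 1, 0, 2, 1, 3, 0], 0), (1, 0, [0, 3, 1, 3, 1, 3, 1, 3, 0, 1, 0, 3, 1, 3, 1, 3, 1, 3], 0), (1, 0, [2, 0, 2, 3, 1, 0, 2, 3, 0, 3, 2, 0, 2, 3, 1, 3, 0, 2, 1], 0), (1, 0, [3, 2, 0, 2, 3, 1, 3, 0, 1, 0, 2, 3, 1, 0, 2, 3, 0], 0), (1, 0, [0, 1, 0, 2, 0, 2, 3, 1, 3, 0, 2, 3, 1, 2, 3, 0, 2, 3, 1, 0, 2, 3, 1, 0], 0), (1, 0, [1, 0, 2, 3, 0, 3, 1, 3, 1, 0, 2, 3,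 0, 3, 1, 0, 3, 0], 0), (1, 0, [2, 0, 2, 3, 1, 0, 3, 1, 3, 0, 1, 0, 2, 0, 1, 3, 2, 3, 1], 0), (1, 0, [1, 3, 1, 2, 3, 2, 1, 3, 2, 1, 3, 2], 0), (1, 0, [3, 1, 3, 2, 3, 0, 1, 3, 0, 1, 0, 2, 3, 1, 3, 1, 3], 0), (1, 0, [0, 2, 0, 1, 3, 2, 3, 0, 2, 3, 1, 3, 2, 3, 0, 2, 3, 1, 3, 0, 2], 0), (1, 0, [0, 2, 0, 3, 1, 3, 0, 3, 2, 1, 2, 3, 0, 3, 1, 3, 2, 0], 0), (1, 0, [0, 3, 0, 3, 2, 3, 1, 3, 1, 3, 2, 0, 3, 1, 3, 1, 0], 0), (1, 0, [1, 2, 0, 2, 3, 1, 0, 2, 0, 3, 2, 0, 2, 1, 3, 0, 2], 0), (1, 0, [1, 2, 3, 2, 3, 0, 3, 1, 2, 3, 1, 3, 2, 3, 0, 1, 3], 0), (1, 0, [3, 1, 0, 2, 0, 2, 3, 0, 2, 0, 2, 3, 1, 3], 0), (1, 0, [1, 3, 1, 3, 2, 0, 1, 2, 3, 0, 3, 0, 3, 2, 1, 3, 0, 3, 2], 0), (2, 0, [], 0),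 (2, 1, [], 0), (2, 2, [], 0), (2, 3, [], 0), (3, 0, [0, 3, 4, 0, 4], 6), (3, 0, [0, 3, 4, 1, 4], 6), (3, 0, [0, 4, 0, 3, 4], 6), (3, 0, [0, 4, 0, 4, 3], 6), (3, 0, [0, 4, 1, 4, 3], 6), (3, 0, [1, 4, 0, 3, 4], 6), (3, 0, [3, 4, 0, 4, 0], 6), (3, 0, [3, 4, 1, 4, 0], 6), (3, 0, [4, 0, 3, 4, 0], 6), (3, 0, [4, 0, 3, 4, 1], 6), (3, 0, [4, 0, 4, 0, 3], 6), (3, 0, [4, 1, 4, 0, 3], 6), (3, 0, [0, 1, 4, 1, 2, 4], 6), (3, 0, [0, 2, 4], 12), (3, 0, [0, 2, 4, 0, 4, 2], 6), (3, 0, [0, 2, 4, 1, 4, 2], 6), (3, 0, [0, 4, 1, 2, 4, 1], 6), (3, 0, [0, 4, 2], 12), (3, 0, [0, 4, 3, 1, 3, 4], 6), (3, 0, [1, 2, 4, 0, 1, 4], 6), (3, 0, [1, 2, 4, 1, 0, 4], 6), (3, 0, [1, 3, 4, 0, 4, 3], 6), (3, 0,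 [1, 3, 4, 1, 4, 3], 6), (3, 0, [1, 4, 0, 1, 4, 2], 6), (3, 0, [1, 4, 1, 0, 4, 2], 6), (3, 0, [1, 4, 1, 2, 4, 0], 6), (3, 0, [2, 0, 4], 12), (3, 0, [2, 4, 0, 1, 4, 1], 6), (3, 59, [3, 4], 3), (3, 0, [0, 4], 6)]

/-- Origins of the relators. -/
def provB59_19 : List (ℕ × ℕ × List ℕ × ℕ) := [(0, 0, [], 0), (0, 0, [], 0), (0, 0, [], 0), (0, 0, [], 0), (0, 0, [], 0), (1, 0, [2, 1, 2, 1], 0), (1, 0, [1, 2, 1, 2], 0), (1, 0, [1, 0, 1, 0, 1, 0], 0), (1, 0, [0, 1, 0, 1, 0, 1], 0), (1, 0, [1, 0, 2, 1, 2, 0, 1, 0], 0), (1, 0, [2, 0, 1, 0, 1, 0, 2, 1], 0), (1, 0, [2, 0, 2, 0, 2, 0, 2, 0], 0), (1, 0, [3, 0, 3, 0, 3, 0, 3, 0], 0), (1, 0, [3, 2, 3, 2, 3, 2, 3, 2], 0), (1, 0, [0, 1, 0, 2,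 1, 2, 0, 1], 0), (1, 0, [0, 2, 0, 2, 0, 2, 0, 2], 0), (1, 0, [0, 3, 0, 3, 0, 3, 0, 3], 0), (1, 0, [1, 2, 0, 1, 0, 1, 0, 2], 0), (1, 0, [2, 3, 2, 3, 2, 3, 2, 3], 0), (1, 0, [1, 3, 2, 0, 1, 3, 0, 1, 0, 2, 3, 1, 3, 2, 3, 2, 1], 0), (1, 0, [0, 3, 2, 3, 0, 3, 1, 0, 3, 0, 2, 3, 2, 1, 0, 3, 2, 0], 0), (1, 0, [0, 2, 0, 3, 0, 3, 1, 0, 2, 0, 3, 0, 2, 1, 0, 3, 1, 3, 0, 2, 0], 0), (1, 0, [0, 1, 0, 2, 0, 1, 3, 2, 0, 3, 2, 3, 1, 3, 2, 0, 3, 2, 1, 0, 2, 1, 3, 0], 0), (1, 0, [0, 3, 1, 3, 1, 3, 1, 3, 0, 1, 0, 3, 1, 3, 1, 3, 1, 3], 0), (1, 0, [2, 0, 2, 3, 1, 0, 2, 3, 0, 3, 2, 0, 2, 3, 1, 3, 0, 2, 1], 0), (1, 0, [3, 2, 0, 2, 3, 1, 3, 0, 1, 0, 2, 3, 1, 0, 2, 3, 0], 0), (1, 0, [0, 1, 0, 2, 0,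 2, 3, 1, 3, 0, 2, 3, 1, 2, 3, 0, 2, 3, 1, 0, 2, 3, 1, 0], 0), (1, 0, [1, 0, 2, 3, 0, 3, 1, 3, 1, 0, 2, 3, 0, 3, 1, 0, 3, 0], 0), (1, 0, [2, 0, 2, 3, 1, 0, 3, 1, 3, 0, 1, 0, 2, 0, 1, 3, 2, 3, 1], 0), (1, 0, [1, 3, 1, 2, 3, 2, 1, 3, 2, 1, 3, 2], 0), (1, 0, [3, 1, 3, 2, 3, 0, 1, 3, 0, 1, 0, 2, 3, 1, 3, 1, 3], 0), (1, 0, [0, 2, 0, 1, 3, 2, 3, 0, 2, 3, 1, 3, 2, 3, 0, 2, 3, 1, 3, 0, 2], 0), (1, 0, [0, 2, 0, 3, 1, 3, 0, 3, 2, 1, 2, 3, 0, 3, 1, 3, 2, 0], 0), (1, 0, [0, 3, 0, 3, 2, 3, 1, 3, 1, 3, 2, 0, 3, 1, 3, 1, 0], 0), (1, 0, [1, 2, 0, 2, 3, 1, 0, 2, 0, 3, 2, 0, 2, 1, 3, 0, 2], 0), (1, 0, [1, 2, 3, 2, 3, 0, 3, 1, 2, 3, 1, 3, 2, 3, 0, 1, 3], 0), (1, 0, [3, 1, 0, 2, 0, 2, 3, 0, 2,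 0, 2, 3, 1, 3], 0), (1, 0, [1, 3, 1, 3, 2, 0, 1, 2, 3, 0, 3, 0, 3, 2, 1, 3, 0, 3, 2], 0), (2, 0, [], 0), (2, 1, [], 0), (2, 2, [], 0), (2, 3, [], 0), (3, 0, [0, 3, 4, 0, 4], 6), (3, 0, [0, 3, 4, 1, 4], 6), (3, 0, [0, 4, 0, 3, 4], 6), (3, 0, [0, 4, 0, 4, 3], 6), (3, 0, [0, 4, 1, 4, 3], 6), (3, 0, [1, 4, 0, 3, 4], 6), (3, 0, [3, 4, 0, 4, 0], 6), (3, 0, [3, 4, 1, 4, 0], 6), (3, 0, [4, 0, 3, 4, 0], 6), (3, 0, [4, 0, 3, 4, 1], 6), (3, 0, [4, 0, 4, 0, 3], 6), (3, 0, [4, 1, 4, 0, 3], 6), (3, 0, [0, 1, 4, 1, 2, 4], 6), (3, 0, [0, 2, 4], 12), (3, 0, [0, 2, 4, 0, 4, 2], 6), (3, 0, [0, 2, 4, 1, 4, 2], 6), (3, 0, [0, 4, 1, 2, 4, 1], 6), (3, 0, [0, 4, 2], 12), (3, 0, [0, 4, 3, 1, 3, 4],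 6), (3, 0, [1, 2, 4, 0, 1, 4], 6), (3, 0, [1, 2, 4, 1, 0, 4], 6), (3, 0, [1, 3, 4, 0, 4, 3], 6), (3, 0, [1, 3, 4, 1, 4, 3], 6), (3, 0, [1, 4, 0, 1, 4, 2], 6), (3, 0, [1, 4, 1, 0, 4, 2], 6), (3, 0, [1, 4, 1, 2, 4, 0], 6), (3, 0, [2, 0, 4], 12), (3, 0, [2, 4, 0, 1, 4, 1], 6), (3, 59, [3, 4], 3), (3, 19, [0, 4], 6)]

end CfsgLib.HeldRecog
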