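/-
Data for the subgroup generated by a normaliser and the exchanging element.
-/
import Mathlib.Data.Nat.Notation
import Mathlib.Data.List.Basic

set_option autoImplicit false
set_option maxRecDepth 100000

namespace CfsgLib.HeldRecog

/-- Words of the generators of the normaliser. -/
def vW : List (List ℕ) := [[1, 0, 3, 0, 1, 2, 0, 3, 0, 1], [3, 1, 0, 1, 0, 1, 3], [2, 0, 1, 2, 3, 0, 1, 2, 0, 1, 3, 0, 3], [1, 0, 3, 1, 0, 3, 0, 1, 3, 0, 1]]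

/-- Codes of the elementary subgroup. -/
def elC : List ℕ := [17043521, 25432129, 17051713, 25440321, 17043777, 25432385, 17051969, 25440577, 18092097, 26480705, 18100289, 26488897, 18092353, 26480961, 18100545, 26489153, 17044545, 25433153, 17052737, 25441345, 17044801, 25433409, 17052993, 25441601, 18093121, 26481729, 18101313, 26489921, 18093377, 26481985, 18101569, 26490177, 17043553, 25432161, 17051745, 25440353, 17043809, 25432417, 17052001, 25440609, 18092129, 26480737, 18100321, 26488929, 18092385, 26480993, 18100577, 26489185, 17044577, 25433185, 17052769, 25441377, 17044833, 25433441, 17053025, 25441633, 18093153, 26481761, 18101345, 26489953, 18093409, 26482017, 18101601, 26490209]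

/-- Words of the elementary subgroup in the generators of the normaliser. -/
def elW : List (List ℕ) := [[], [1, 0, 2, 0, 3, 1, 2], [0, 1, 0, 2, 3, 0, 1, 2, 0], [0, 2, 0, 2, 3], [0, 2, 3, 2, 0, 3], [1, 0, 3, 2, 0, 1, 2], [0, 1, 0, 2, 0, 2, 3, 1, 0], [0, 2, 3, 0, 2], [1, 2, 0, 3, 0, 3, 1, 2], [1, 0, 2, 3, 0, 1, 2], [0, 1, 2, 0, 1, 2, 0, 3, 1, 3], [0, 1, 2, 0, 3, 1, 3, 0, 1, 2], [1, 0, 2, 3, 2, 3, 0, 1], [1, 0, 3, 2, 3, 0, 3, 1, 2], [0, 2, 3, 0, 1, 0, 3, 2, 0, 1], [0, 2, 0, 1, 3, 2, 3, 1, 3], [1, 3, 2, 3, 1, 3, 2, 3], [1, 3, 0, 2, 0, 1, 3, 2, 3], [0, 1, 0, 2, 0, 3, 1, 2, 0], [0, 1, 3, 2, 3, 1, 3, 0, 2], [0, 1, 2, 3, 2, 3, 1, 0], [0, 1, 0, 2, 0, 3, 1, 3, 0, 2], [0, 1, 0, 2, 0, 3, 1, 3, 2, 0, 3], [0, 1, 3, 2, 3, 1, 0, 2, 3], [0, 3, 0, 3], [0, 3, 1, 3, 0, 1, 2, 0, 1, 2],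 [0, 3, 2, 0, 1, 3, 0, 2, 0, 1], [0, 3, 2, 0, 2], [0, 2, 3, 2, 3, 0], [0, 3, 1, 0, 2, 3, 0, 1, 0, 2], [0, 3, 1, 2, 0, 1, 2, 3, 0, 1], [0, 3, 2, 3, 0, 2, 3], [1, 3, 1, 3, 1, 3, 1, 3], [1, 0, 3, 2, 3, 0, 2, 3, 1], [0, 1, 0, 3, 2, 0, 3, 2, 3, 1, 0], [0, 3, 2, 3, 0, 3, 2], [0, 3, 0, 2, 3, 2], [1, 0, 2, 3, 0, 3, 2, 3, 1], [0, 1, 0, 3, 2, 3, 0, 3, 1, 2, 0], [0, 3, 2, 0, 3, 2, 3], [1, 0, 3, 0, 3, 1], [1, 0, 3, 2, 0, 3, 2, 3, 1], [0, 2, 3, 0, 1, 0, 2, 0, 3, 1], [0, 1, 3, 2, 3, 1, 0, 3, 2], [1, 2, 3, 2, 3, 1], [1, 0, 2, 0, 2, 3, 1], [0, 1, 2, 0, 1, 3, 2, 0, 1, 3], [0, 3, 1, 3, 2, 3, 1, 0, 2], [0, 1, 0, 3, 0, 3, 1, 0], [0, 1, 0, 3, 2, 0, 1, 3, 0, 2], [0, 1, 0, 3, 2, 0, 1, 3, 2, 0, 3], [1, 0, 3, 1, 0, 2, 3, 1, 0, 2], [0, 1, 0, 3, 1, 3, 0, 1, 3], [1, 0, 2, 3, 0, 1, 3, 2, 3], [0, 1,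 0, 3, 2, 0, 1, 2, 0], [0, 3, 2, 0, 1, 3, 2, 3, 1], [2, 0, 3, 0, 3, 2], [1, 0, 3, 2, 0, 1, 3, 2, 3], [0, 2, 0, 3, 1, 0, 2, 3, 0, 1], [0, 2, 3, 0, 3, 2, 3], [2, 3, 2, 3], [1, 0, 2, 0, 3, 1, 3, 2, 3], [0, 2, 0, 3, 1, 3, 0, 2, 0, 1], [0, 2, 0, 3, 2]]

/-- Words of the elementary subgroup in the generators of the common centraliser. -/
def elE : List (List ℕ) := [[], [0, 1, 2, 1, 0, 2, 3, 2, 3], [1, 3, 2, 0, 1, 2, 3, 4], [0, 1, 2, 3, 2, 0], [3, 0, 2, 0, 2, 3, 4], [0, 1, 2, 1, 3, 2, 3, 0], [0, 1, 0, 3, 0, 3], [1, 2, 0, 3, 0, 1, 2, 5], [5], [0, 2, 0, 2, 3, 2, 3, 4], [1, 3, 2, 0, 2, 1, 3], [0, 1, 2, 3, 2, 0, 5], [0, 3, 0, 3, 2, 0, 2, 3], [0, 2, 3, 2, 3, 0, 4], [0, 1, 3, 0, 4], [1, 2, 0, 3, 0, 1, 2], [2, 0, 1, 2, 0, 3, 2, 3], [0, 1, 0, 4], [0, 2, 3, 2, 0, 4], [3, 2, 0, 2, 3],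 [0, 1, 2, 3, 2, 3, 0, 5], [1, 3, 2, 0, 1, 2, 0, 3], [2, 0, 3, 0, 2], [0, 3, 0, 5], [0, 1, 2, 0, 2, 3, 2, 3], [0, 1, 0, 4, 5], [0, 1, 2, 1, 3, 2, 0], [3, 2, 0, 2, 3, 5], [0, 1, 2, 3, 2, 3, 0], [1, 3, 0, 1, 2, 0, 2, 3], [2, 0, 3, 0, 2, 5], [0, 3, 0], [4], [0, 2, 0, 2, 3, 2, 3, 5], [1, 3, 2, 0, 1, 2, 3], [0, 1, 2, 3, 2, 0, 4], [3, 0, 2, 0, 2, 3], [0, 2, 3, 2, 3, 0, 5], [0, 1, 3, 0, 5], [1, 2, 0, 3, 0, 2, 1], [4, 5], [0, 2, 0, 2, 3, 2, 3], [1, 3, 2, 0, 1, 2, 3, 5], [0, 2, 1, 3, 2, 0], [3, 0, 2, 0, 2, 3, 5], [0, 2, 3, 2, 3, 0], [0, 1, 3, 0], [2, 0, 1, 3, 0, 2], [0, 2, 1, 0, 2, 3, 2, 3], [0, 1, 0], [0, 2, 3, 2, 0], [3, 2, 0, 2, 3, 4], [0, 2, 1, 3, 2, 3, 0], [1, 3, 0, 2, 1, 0, 2, 3], [2, 0, 3, 0, 2, 4], [3, 0, 3], [2, 0, 2, 1, 0, 3, 2, 3], [0, 1, 0, 5], [0, 2, 3, 2, 0, 5], [1,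 3, 2, 1, 0, 2, 3], [0, 1, 2, 3, 2, 3, 0, 4], [1, 3, 2, 0, 2, 1, 0, 3], [2, 3, 0, 3, 2], [0, 3, 0, 4]]

/-- Permutations of the elementary subgroup. -/
def pgT : List (List ℕ) := [[0, 18, 9, 27, 36, 54, 45, 63, 16, 2, 25, 11, 52, 38, 61, 47, 8, 26, 1, 19, 44, 62, 37, 55, 24, 10, 17, 3, 60, 46, 53, 39, 32, 50, 41, 59, 4, 22, 13, 31, 48, 34, 57, 43, 20, 6, 29, 15, 40, 58, 33, 51, 12, 30, 5, 23, 56, 42, 49, 35, 28, 14, 21, 7], [0, 63, 18, 45, 36, 27, 54, 9, 56, 7, 42, 21, 28, 35, 14, 49, 16, 47, 2, 61, 52, 11, 38, 25, 40, 23, 58, 5, 12, 51, 30, 33, 32, 31, 50, 13, 4, 59, 22, 41, 24, 39, 10, 53, 60, 3, 46, 17, 48, 15, 34, 29, 20, 43, 6, 57, 8, 55, 26, 37, 44, 19, 62, 1], [0, 45, 18, 63, 36, 9, 54, 27, 40, 5, 58, 23, 12, 33, 30, 51, 16, 61, 2, 47, 52, 25, 38, 11, 56, 21, 42,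 7, 28, 49, 14, 35, 32, 13, 50, 31, 4, 41, 22, 59, 8, 37, 26, 55, 44, 1, 62, 19, 48, 29, 34, 15, 20, 57, 6, 43, 24, 53, 10, 39, 60, 17, 46, 3], [0, 5, 6, 3, 4, 1, 2, 7, 40, 45, 46, 43, 44, 41, 42, 47, 48, 53, 54, 51, 52, 49, 50, 55, 24, 29, 30, 27, 28, 25, 26, 31, 32, 37, 38, 35, 36, 33, 34, 39, 8, 13, 14, 11, 12, 9, 10, 15, 16, 21, 22, 19, 20, 17, 18, 23, 56, 61, 62, 59, 60, 57, 58, 63], [0, 4, 42, 46, 1, 5, 43, 47, 32, 36, 10, 14, 33, 37, 11, 15, 61, 57, 23, 19, 60, 56, 22, 18, 29, 25, 55, 51, 28, 24, 54, 50, 8, 12, 34, 38, 9, 13, 35, 39, 40, 44, 2, 6, 41, 45, 3, 7, 53, 49, 31, 27, 52, 48, 30, 26, 21, 17, 63, 59, 20, 16, 62, 58]]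

/-- The elements whose images give relations with the exchanging element. -/
def ndE : List (List ℕ × List ℕ × List ℕ) := [([1, 2, 3, 2, 0, 3, 4], [3, 2], [3, 1, 0, 2, 3, 0, 1]), ([1, 3, 2, 1, 3], [1, 3, 1], [2, 0, 3, 1, 2, 0, 2, 3]), ([2, 1, 3, 2, 3], [0, 2, 0], [0, 2, 0]), ([0, 1, 3, 0, 2, 1, 0, 2, 3, 0], [0, 1, 0], [0, 1, 2, 0, 1, 3, 2, 0, 2, 3, 1])]

/-- The two branching words with exponents and the fixed elements. -/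
def ambD : List (List ℕ × ℕ × List ℕ) := [([3, 4], 3, [0, 28, 39, 59]), ([0, 4], 6, [0, 19])]

end CfsgLib.HeldRecog
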