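/-
Certified enumerations of centralisers inside the centraliser of a transvection in SL(5, 2).
-/
import Cfsg.Agent.Lib.HeldRecog.Model
import Mathlib.Data.List.Nodup
import Mathlib.Data.Fintype.EquivFin

set_option autoImplicit false

namespace CfsgLib.HeldRecog

open CfsgLib.CosetEnum CfsgLib.HeCent

/-- The element with a given index. -/
noncomputable def eltN (n : ℕ) : HS :=
  elt (⟨n / 168 % 128, Nat.mod_lt _ (by norm_num)⟩, ⟨n % 168, Nat.mod_lt _ (by norm_num)⟩)

/-- The code with a given index. -/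
noncomputable def codeN (n : ℕ) : ℕ := force n fun m => prodF (Nat.mod (Nat.div m 168) 128) (Nat.mod m 168)

theorem hasCode_eltN (n : ℕ) : HasCode (eltN n) (codeN n) := by
  rw [codeN, force_eq]
  exact hasCode_elt _

theorem eltN_inj {m n : ℕ} (hm : m < 21504) (hn : n < 21504) (h : eltN m = eltN n) : m = n := by
  have := elt_bijective.1 h
  simp only [Prod.mk.injEq, Fin.mk.injEq] at this
  omega

/-- The list strictly increases from a bound and stays below a limit. -/
def incr : ℕ → ℕ → List ℕ → Bool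
  | _, _, [] => true
  | lo, hi, n :: L => Nat.ble lo n && Nat.blt n hi && incr (n + 1) hi L

theorem incr_spec : ∀ (L : List ℕ) (lo hi : ℕ), incr lo hi L = true →
    L.Nodup ∧ ∀ n ∈ L, lo ≤ n ∧ n < hi
  | [], _, _, _ => ⟨List.nodup_nil, fun _ h => absurd h List.not_mem_nil⟩
  | n :: L, lo, hi, h => by
    simp only [incr, Bool.and_eq_true, Nat.ble_eq, blt_iff] at h
    obtain ⟨⟨h1, h2⟩, h3⟩ := h
    obtain ⟨h4, h5⟩ := incr_spec L (n + 1) hi h3
    refine ⟨List.nodup_cons.mpr ⟨fun hm => ?_, h4⟩, ?_⟩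
    · have := (h5 n hm).1; omega
    · intro m hm
      rcases List.mem_cons.mp hm with rfl | hm
      · exact ⟨h1, h2⟩
      · obtain ⟨h6, h7⟩ := h5 m hm; exact ⟨by omega, h7⟩

/-- The indices in a list give exactly the elements with a property. -/
structure Enum (P : HS → Prop) (L : List ℕ) : Prop where
  nodup : L.Nodup
  lt : ∀ n ∈ L, n < 21504
  mem : ∀ x, P x ↔ ∃ n ∈ L, eltN n = x

namespace Enum

variable {P : HS → Prop} {L : List ℕ}

theorem card_eq (h : Enum P L) : Nat.card {x : HS // P x} = L.length := by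
  classical
  let f : Fin L.length → {x : HS // P x} := fun i => ⟨eltN (L.get i), (h.mem _).mpr ⟨_, List.get_mem _ _, rfl⟩⟩
  have hf : Function.Bijective f := by
    refine ⟨fun i j e => ?_, fun x => ?_⟩
    · exact (List.nodup_iff_injective_get.mp h.nodup)
        (eltN_inj (h.lt _ (List.get_mem _ _)) (h.lt _ (List.get_mem _ _)) (congrArg Subtype.val e))
    · obtain ⟨n, hn, e⟩ := (h.mem x.1).mp x.2
      obtain ⟨i, rfl⟩ := List.get_of_mem hn
      exact ⟨i, Subtype.ext e⟩
  rw [← Nat.card_congr (Equiv.ofBijective f hf), Nat.card_eq_fintype_card, Fintype.card_fin]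

theorem filter (h : Enum P L) (Q : HS → Prop) (f : ℕ → Bool) (hf : ∀ x c, HasCode x c → (Q x ↔ f c = true)) :
    Enum (fun x => P x ∧ Q x) (L.filter fun n => f (codeN n)) := by
  refine ⟨h.nodup.filter _, fun n hn => h.lt n (List.mem_filter.mp hn).1, fun x => ?_⟩
  constructor
  · rintro ⟨hP, hQ⟩
    obtain ⟨n, hn, rfl⟩ := (h.mem x).mp hP
    exact ⟨n, List.mem_filter.mpr ⟨hn, (hf _ _ (hasCode_eltN n)).mp hQ⟩, rfl⟩
  · rintro ⟨n, hn, rfl⟩
    obtain ⟨h1, h2⟩ := List.mem_filter.mp hn
    exact ⟨(h.mem _).mpr ⟨n, h1, rfl⟩, (hf _ _ (hasCode_eltN n)).mpr h2⟩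

theorem all (h : Enum P L) {f : ℕ → Bool} (hf : (L.all fun n => f (codeN n)) = true) {x : HS} (hx : P x) :
    ∃ c, HasCode x c ∧ f c = true := by
  obtain ⟨n, hn, rfl⟩ := (h.mem x).mp hx
  exact ⟨_, hasCode_eltN n, List.all_eq_true.mp hf n hn⟩

end Enum

/-- The certificate of a centraliser: the list `L` commutes with `r`, and the conjugators in `K` move `r` to
elements with strictly increasing codes. -/
noncomputable def centOK (r : ℕ) (L : List ℕ) (K : List (ℕ × ℕ)) : Bool :=
  incr 0 21504 L && (L.all fun n => force (codeN n) fun c => Nat.beq (mulF c r) (mulF r c)) &&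
    incr 0 (2 ^ 25) (K.map Prod.fst) && (K.all fun p => force (codeN p.2) fun c =>
      Nat.beq (mulF c r) (mulF p.1 c)) && Nat.beq (L.length * K.length) 21504

theorem enum_cent {r : HS} {c : ℕ} (hr : HasCode r c) {L : List ℕ} {K : List (ℕ × ℕ)}
    (h : centOK c L K = true) : Enum (fun x => x * r = r * x) L := by
  classical
  simp only [centOK, Bool.and_eq_true, List.all_eq_true, force_eq] at h
  obtain ⟨⟨⟨⟨h1, h2⟩, h3⟩, h4⟩, h5⟩ := h
  obtain ⟨hnd, hlt⟩ := incr_spec L _ _ h1
  obtain ⟨hKnd, hKlt⟩ := incr_spec _ _ _ h3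
  have hL : ∀ n ∈ L, eltN n * r = r * eltN n := fun n hn =>
    (((hasCode_eltN n).mul hr).eq_iff (hr.mul (hasCode_eltN n))).mpr (Nat.eq_of_beq_eq_true (h2 n hn))
  have hK : ∀ i : Fin K.length, HasCode (eltN (K.get i).2 * r * (eltN (K.get i).2)⁻¹) (K.get i).1 := by
    intro i
    obtain ⟨p, hp⟩ := elt_surjective (eltN (K.get i).2 * r * (eltN (K.get i).2)⁻¹)
    have hd : HasCode (eltN (K.get i).2 * r * (eltN (K.get i).2)⁻¹) (prodF p.1 p.2) := hp ▸ hasCode_elt p
    have he := (hd.mul (hasCode_eltN (K.get i).2))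
    rw [inv_mul_cancel_right] at he
    have h6 := ((hasCode_eltN (K.get i).2).mul hr).eq he
    rw [Nat.eq_of_beq_eq_true (h4 _ (List.get_mem _ _))] at h6
    refine ⟨?_, (hKlt _ (List.mem_map_of_mem (List.get_mem _ _))).2⟩
    have h7 := congrArg mat h6
    rw [← mat_mulF, ← mat_mulF, ← (hasCode_eltN (K.get i).2).1] at h7
    rw [hd.1]
    have h8 := congrArg (· * mx (eltN (K.get i).2)⁻¹) h7
    simp only [Matrix.mul_assoc, ← mx_mul, mul_inv_cancel, mx_one, show mat oneCode = 1 from mat_one,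
      Matrix.mul_one] at h8
    exact h8.symm
  set S := {x : HS // x * r = r * x}
  let φ : Fin K.length × S → HS := fun p => eltN (K.get p.1).2 * p.2.1
  have hφ : Function.Injective φ := by
    rintro ⟨i, x⟩ ⟨j, y⟩ e
    have key : ∀ (u v : HS), v * r = r * v → u * r * u⁻¹ = (u * v) * r * (u * v)⁻¹ := by
      intro u v hv
      rw [mul_inv_rev, mul_assoc u v r, hv, ← mul_assoc u r v]
      group
    have e1 : eltN (K.get i).2 * r * (eltN (K.get i).2)⁻¹ = eltN (K.get j).2 * r * (eltN (K.get j).2)⁻¹ := by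
      rw [key (eltN (K.get i).2) x.1 x.2, key (eltN (K.get j).2) y.1 y.2]
      exact congrArg (fun g => g * r * g⁻¹) e
    have hij : i = j := by
      have hget := (hK i).eq (show HasCode (eltN (K.get i).2 * r * (eltN (K.get i).2)⁻¹) (K.get j).1 by
        rw [e1]; exact hK j)
      have hinj := List.nodup_iff_injective_get.mp hKnd
      have : (⟨i.1, by simp⟩ : Fin (K.map Prod.fst).length) = ⟨j.1, by simp⟩ := hinj (by simpa using hget)
      exact Fin.ext (Fin.mk.inj this)
    subst hij
    exact Prod.ext rfl (Subtype.ext (mul_left_cancel e))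
  have hle : K.length * Nat.card S ≤ 21504 := by
    have := Nat.card_le_card_of_injective φ hφ
    rwa [Nat.card_prod, Nat.card_eq_fintype_card (α := Fin K.length), Fintype.card_fin, card_HS] at this
  let f : Fin L.length → S := fun i => ⟨eltN (L.get i), hL _ (List.get_mem _ _)⟩
  have hf : Function.Injective f := fun i j e => (List.nodup_iff_injective_get.mp hnd)
    (eltN_inj (hlt _ (List.get_mem _ _)).2 (hlt _ (List.get_mem _ _)).2 (congrArg Subtype.val e))
  have hcard : Nat.card S ≤ L.length := by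
    have h6 : L.length * K.length = 21504 := Nat.eq_of_beq_eq_true h5
    have hpos : 0 < K.length := Nat.pos_of_ne_zero fun e => by rw [e, mul_zero] at h6; omega
    refine Nat.le_of_mul_le_mul_left ?_ hpos
    rw [mul_comm K.length L.length, h6]
    exact hle
  have hbij : Function.Bijective f := (Nat.bijective_iff_injective_and_card f).mpr
    ⟨hf, le_antisymm (Nat.card_le_card_of_injective f hf)
      (by rw [Nat.card_eq_fintype_card (α := Fin L.length), Fintype.card_fin]; exact hcard)⟩
  refine ⟨hnd, fun n hn => (hlt n hn).2, fun x => ⟨fun hx => ?_, fun ⟨n, hn, e⟩ => e ▸ hL n hn⟩⟩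
  obtain ⟨i, hi⟩ := hbij.2 ⟨x, hx⟩
  exact ⟨_, List.get_mem _ _, congrArg Subtype.val hi⟩

end CfsgLib.HeldRecog
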