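/-
The symmetry of the centraliser of a transvection given by inverse transpose.
-/
import Cfsg.Agent.Lib.HeldRecog.Model

set_option autoImplicit false
set_option maxRecDepth 100000

namespace CfsgLib.HeldRecog

open CfsgLib.HeCent Matrix

local notation "SL5" => Matrix.SpecialLinearGroup (Fin 5) (ZMod 2)

/-- The matrix exchanging the first two coordinates. -/
def swapM : Matrix (Fin 5) (Fin 5) (ZMod 2) := (Equiv.swap (0 : Fin 5) 1).permMatrix (ZMod 2)

theorem swapM_sq : swapM * swapM = 1 := by decide +kernel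

/-- The transformed matrix of an element. -/
noncomputable def tauM (x : HS) : Matrix (Fin 5) (Fin 5) (ZMod 2) := swapM * (mx x⁻¹)ᵀ * swapM

theorem tauM_one : tauM 1 = 1 := by
  rw [tauM, inv_one, mx_one, show mat oneCode = 1 from mat_one, transpose_one, mul_one, swapM_sq]

theorem tauM_mul (x y : HS) : tauM (x * y) = tauM x * tauM y := by
  simp only [tauM, _root_.mul_inv_rev, mx_mul, transpose_mul, Matrix.mul_assoc]
  rw [← Matrix.mul_assoc swapM swapM, swapM_sq, Matrix.one_mul]

/-- The symmetry as a map to the special linear group. -/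
noncomputable def tauHom : HS →* SL5 where
  toFun x := ⟨tauM x, det_one_of_mul (B := tauM x⁻¹) (by rw [← tauM_mul, mul_inv_cancel, tauM_one])⟩
  map_one' := Subtype.ext tauM_one
  map_mul' x y := Subtype.ext (tauM_mul x y)

/-- The images of the generators as words. -/
def tauWord : List (List ℕ) :=
  [[1, 2, 0, 1, 2, 0, 1, 2], [3, 0, 1, 0, 1, 0, 3], [0, 1, 0, 1, 0, 3, 1, 0, 2, 0, 1, 2],
    [0, 3, 0, 1, 0, 3, 0, 2, 3]]

theorem tau_gen_ok : ∀ i < 4, swapM * (mat (gcode i))ᵀ * swapM = mat (wCode (tauWord.getD i [])) := by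
  decide +kernel

theorem tauHom_gen (i : ℕ) (hi : i < 4) : tauHom (gen i) = (wEl (tauWord.getD i []) : SL5) := by
  refine Subtype.ext ?_
  show tauM (gen i) = mx (wEl (tauWord.getD i []))
  rw [tauM, inv_eq_of_mul_eq_one_right (gen_sq i), (hasCode_gen i).1, tau_gen_ok i hi]
  exact (hasCode_wEl _).1.symm

theorem tauHom_mem (x : HS) : tauHom x ∈ HS := by
  obtain ⟨w, rfl⟩ := exists_word x
  induction w with
  | nil => simp [wEl, one_mem]
  | cons i w ih =>
    rw [show wEl (i :: w) = gen i * wEl w by simp [wEl], map_mul]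
    refine mul_mem ?_ ih
    by_cases hi : i < 4
    · rw [tauHom_gen i hi]; exact SetLike.coe_mem _
    · rw [gen, dif_neg hi, map_one]; exact one_mem _

theorem tauHom_injective : Function.Injective tauHom := by
  intro x y h
  have h1 : tauM x = tauM y := congrArg Subtype.val h
  have h2 : (mx x⁻¹)ᵀ = (mx y⁻¹)ᵀ := by
    have := congrArg (fun M => swapM * M * swapM) h1
    simp only [tauM, Matrix.mul_assoc] at this
    rwa [swapM_sq, Matrix.mul_one, Matrix.mul_one, ← Matrix.mul_assoc, swapM_sq, Matrix.one_mul,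
      ← Matrix.mul_assoc, swapM_sq, Matrix.one_mul] at this
  exact inv_injective (mx_injective (Matrix.transpose_injective h2))

/-- The symmetry of the centraliser. -/
noncomputable def tau : HS ≃* HS :=
  MulEquiv.ofBijective (tauHom.codRestrict HS tauHom_mem)
    (Finite.injective_iff_bijective.mp fun _ _ h => tauHom_injective (congrArg Subtype.val h))

theorem tau_gen (i : ℕ) (hi : i < 4) : tau (gen i) = wEl (tauWord.getD i []) :=
  Subtype.ext (tauHom_gen i hi)

/-- The image of a word. -/
def tauW (w : List ℕ) : List ℕ := w.flatMap fun i => tauWord.getD i []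

theorem tau_wEl : ∀ w : List ℕ, (∀ i ∈ w, i < 4) → tau (wEl w) = wEl (tauW w)
  | [], _ => by simp [wEl, tauW]
  | i :: w, h => by
    rw [show wEl (i :: w) = gen i * wEl w by simp [wEl], map_mul, tau_gen i (h i List.mem_cons_self),
      tau_wEl w (fun j hj => h j (List.mem_cons_of_mem _ hj)), ← wEl_append]
    rfl

theorem tau_tau (x : HS) : tau (tau x) = x := by
  refine Subtype.ext (Subtype.ext ?_)
  show swapM * (mx (tau x)⁻¹)ᵀ * swapM = mx x
  rw [← map_inv]
  show swapM * (swapM * (mx x⁻¹⁻¹)ᵀ * swapM)ᵀ * swapM = mx x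
  rw [inv_inv, transpose_mul, transpose_mul, transpose_transpose, show swapMᵀ = swapM by decide +kernel,
    ← Matrix.mul_assoc, ← Matrix.mul_assoc, swapM_sq, Matrix.one_mul, Matrix.mul_assoc, swapM_sq, Matrix.mul_one]

end CfsgLib.HeldRecog
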