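/-
The classes of involutions of the centraliser of a transvection in SL(5, 2).
-/
import Cfsg.Agent.Lib.HeldRecog.Tau
import Cfsg.Agent.Lib.HeldRecog.Enum
import Cfsg.Agent.Lib.HeldRecog.CentData
import Cfsg.Agent.Lib.Basic

set_option autoImplicit false
set_option maxRecDepth 100000

namespace CfsgLib.HeldRecog

open CfsgLib.CosetEnum CfsgLib.HeCent

/-- Words of the representatives of the classes of involutions, in the order of the class table. -/
def repW : List (List ℕ) :=
  [[3, 0, 2, 0, 1, 0, 1, 2, 0, 1, 3], [1, 2, 3, 0, 1, 0, 3, 0, 1, 2, 3, 0, 1, 3], [2, 0, 1, 3, 1, 0, 2, 3, 0, 3],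
    [0, 1, 3, 0, 3, 1, 0, 1, 0, 3, 0, 3, 1], [1, 2, 3, 0, 1, 0, 1, 3, 0, 1, 2, 3, 0, 3],
    [0, 2, 3, 0, 1, 0, 2, 0, 1, 0, 3, 0], [0, 1, 0, 1, 0, 1, 0, 1], [0, 2, 0, 1, 0, 3, 0, 1, 0, 2, 0]]

/-- A representative of a class. -/
noncomputable def rep (k : ℕ) : HS := wEl (repW.getD k [])

/-- The word of the central involution. -/
def zW : List ℕ := [0, 1, 0, 1, 0, 1, 0, 1]

/-- The word of the first long-root element. -/
def xW : List ℕ := [0, 1, 3, 0, 1, 0, 1, 2, 0, 1, 0, 1, 3, 0]

/-- The word of the second long-root element. -/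
def yW : List ℕ := [1, 2, 3, 1, 3]

/-- The central involution. -/
noncomputable def Zh : HS := wEl zW

/-- The first long-root element. -/
noncomputable def Xh : HS := wEl xW

/-- The second long-root element. -/
noncomputable def Yh : HS := wEl yW

theorem rep_codes : ∀ k < 8, wCode (repW.getD k []) = clsCode k := by decide +kernel

theorem zW_code : wCode zW = sCode := by decide +kernel

theorem Zh_code : HasCode Zh sCode := zW_code ▸ hasCode_wEl zW

theorem Zh_val : (Zh : Matrix.SpecialLinearGroup (Fin 5) (ZMod 2)) = sTr := Subtype.ext Zh_code.1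

theorem Zh_comm (x : HS) : x * Zh = Zh * x := by
  refine Subtype.ext ?_
  show (x : Matrix.SpecialLinearGroup (Fin 5) (ZMod 2)) * Zh = Zh * x
  rw [Zh_val]
  exact Subgroup.mem_centralizer_singleton_iff.mp x.2

theorem Zh_sq : Zh * Zh = 1 := wEl_append zW zW ▸ wEl_one (w := zW ++ zW) (by decide +kernel)

theorem Zh_ne : Zh ≠ 1 := fun h => absurd (Zh_code.eq (h ▸ HasCode.one)) (by decide)

theorem inv_cases {x : HS} (h2 : x * x = 1) (h1 : x ≠ 1) : ∃ k < 8, ∃ y : HS, x = y * rep k * y⁻¹ := by
  obtain ⟨k, hk, r, y, hr, -, hxy, -⟩ := inv_class (x := psi.symm x) (by rw [← map_mul, h2, map_one])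
    (fun h => h1 (psi.symm.injective (h.trans (map_one psi.symm).symm)))
  refine ⟨k, hk, psi y, ?_⟩
  have hx : x = psi y * psi r * (psi y)⁻¹ := by
    rw [← map_inv, ← map_mul, ← map_mul, ← hxy, MulEquiv.apply_symm_apply]
  have hrep : psi r = rep k := by
    refine mx_injective ?_
    rw [rep, (hasCode_wEl _).1, rep_codes k hk]
    exact hr
  rw [hx, hrep]

theorem rep_six : rep 6 = Zh := rfl

/-- The centraliser orders of the representatives. -/
def centSize : List ℕ := [512, 256, 1536, 1536, 256, 128, 21504, 128]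

/-- Commutation with a code. -/
noncomputable def commTest (r c : ℕ) : Bool := Nat.beq (mulF c r) (mulF r c)

theorem commTest_spec {x y : HS} {c r : ℕ} (hx : HasCode x c) (hy : HasCode y r) :
    x * y = y * x ↔ commTest r c = true := by
  rw [(hx.mul hy).eq_iff (hy.mul hx), commTest, Nat.beq_eq]

theorem rep_hasCode {k : ℕ} (hk : k < 8) : HasCode (rep k) (clsCode k) :=
  rep_codes k hk ▸ hasCode_wEl _

/-- The lists of the centralisers of the representatives. -/
def centList (k : ℕ) : List ℕ :=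
  [centL0, centL1, centL2, centL3, centL4, centL5, centL6, centL7].getD k []

/-- The lists of conjugators of the representatives. -/
def conjList (k : ℕ) : List (ℕ × ℕ) :=
  [centK0, centK1, centK2, centK3, centK4, centK5, centK6, centK7].getD k []

theorem cent_ok : ([0, 1, 2, 3, 4, 5, 7].all fun k =>
    centOK (clsCode k) (centList k) (conjList k) && Nat.beq (centList k).length (centSize.getD k 0)) = true := by
  decide +kernel

theorem enum_rep {k : ℕ} (hk : k < 8) (h6 : k ≠ 6) : Enum (fun x => x * rep k = rep k * x) (centList k) := by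
  have h := List.all_eq_true.mp cent_ok k (by interval_cases k <;> simp at *)
  rw [Bool.and_eq_true] at h
  exact enum_cent (rep_hasCode hk) h.1

theorem card_cent_rep {k : ℕ} (hk : k < 8) :
    Nat.card {x : HS // x * rep k = rep k * x} = centSize.getD k 0 := by
  by_cases h6 : k = 6
  · subst h6
    rw [rep_six]
    exact (Nat.card_congr (Equiv.subtypeUnivEquiv Zh_comm)).trans card_HS
  · have h := List.all_eq_true.mp cent_ok k (by interval_cases k <;> simp at *)
    rw [Bool.and_eq_true] at h
    rw [(enum_rep hk h6).card_eq, Nat.eq_of_beq_eq_true h.2]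

theorem center_ok : ((centList 2).all fun n => force (codeN n) fun c => Nat.beq c oneCode || Nat.beq c sCode ||
    !((List.range 4).all fun i => Nat.beq (mulF (gcode i) c) (mulF c (gcode i)))) = true := by decide +kernel

theorem eq_Zh_of_central {x : HS} (h : ∀ y, x * y = y * x) (h1 : x ≠ 1) : x = Zh := by
  obtain ⟨c, hc, ht⟩ := (enum_rep (k := 2) (by norm_num) (by norm_num)).all
    (f := fun c => Nat.beq c oneCode || Nat.beq c sCode ||
      !((List.range 4).all fun i => Nat.beq (mulF (gcode i) c) (mulF c (gcode i))))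
    (by have := center_ok; simp only [force_eq] at this; exact this) (h (rep 2))
  simp only [Bool.or_eq_true, Bool.not_eq_true', List.all_eq_false] at ht
  rcases ht with (ht | ht) | ⟨i, -, ht⟩
  · exact absurd ((hc.eq_iff HasCode.one).mpr (Nat.eq_of_beq_eq_true ht)) h1
  · exact (hc.eq_iff Zh_code).mpr (Nat.eq_of_beq_eq_true ht)
  · exact absurd (Nat.beq_eq.mpr (((hasCode_gen i).mul hc).eq (h (gen i) ▸ hc.mul (hasCode_gen i)))) ht

theorem roots_ok :
    (Nat.beq ((centList 0).filter fun n => force (codeN n) fun c => Nat.beq (mulF c c) sCode).length 32 &&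
    Nat.beq ((centList 0).filter fun n => force (codeN n) fun c => Nat.beq (mulF c c) (clsCode 0)).length 16)
      = true := by decide +kernel

theorem card_roots_rep :
    Nat.card {x : HS // x * rep 0 = rep 0 * x ∧ x * x = Zh} = 32 ∧
      Nat.card {x : HS // x * rep 0 = rep 0 * x ∧ x * x = rep 0} = 16 := by
  have h := roots_ok
  simp only [Bool.and_eq_true, force_eq] at h
  have hE := enum_rep (k := 0) (by norm_num) (by norm_num)
  constructor
  · rw [(hE.filter (fun x => x * x = Zh) (fun c => Nat.beq (mulF c c) sCode) fun x c hx => by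
      rw [(hx.mul hx).eq_iff Zh_code, Nat.beq_eq]).card_eq, Nat.eq_of_beq_eq_true h.1]
  · rw [(hE.filter (fun x => x * x = rep 0) (fun c => Nat.beq (mulF c c) (clsCode 0)) fun x c hx => by
      rw [(hx.mul hx).eq_iff (rep_hasCode (by norm_num)), Nat.beq_eq]).card_eq, Nat.eq_of_beq_eq_true h.2]

/-- Elements whose conjugates show that a class lies outside the largest normal 2-subgroup. -/
def oddW : List (List ℕ) := [[], [2], [], [], [0], [0], [], [1]]

/-- The tenth iterated square of a code. -/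
noncomputable def sq10 (c : ℕ) : ℕ :=
  Nat.rec c (fun _ r => force r fun d => mulF d d) 10

theorem hasCode_sq10 {x : HS} {c : ℕ} (h : HasCode x c) : HasCode (x ^ 2 ^ 10) (sq10 c) := by
  have key : ∀ n : ℕ, HasCode (x ^ 2 ^ n) (Nat.rec c (fun _ r => force r fun d => mulF d d) n) := by
    intro n
    induction n with
    | zero => simpa using h
    | succ n ih =>
      show HasCode _ (force _ _)
      rw [force_eq, pow_succ 2 n, pow_mul, pow_two]
      exact ih.mul ih
  exact key 10

theorem odd_ok : ([1, 4, 5, 7].all fun k => !Nat.beq (sq10 (wCode (repW.getD k [] ++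
    (oddW.getD k [] ++ (repW.getD k [] ++ (oddW.getD k []).reverse))))) oneCode) = true := by decide +kernel

theorem rep_not_mem_pCore {k : ℕ} (hk : k ∈ [1, 4, 5, 7]) : rep k ∉ Cfsg.pCore 2 HS := by
  intro h
  have h' := List.all_eq_true.mp odd_ok k hk
  simp only [Bool.not_eq_true', ← Bool.not_eq_true] at h'
  refine h' (Nat.beq_eq.mpr ((hasCode_sq10 (hasCode_wEl _)).eq ?_))
  have hn : (Cfsg.pCore 2 HS).Normal := inferInstance
  have hp := CfsgLib.isPGroup_pCore (G := HS) 2
  set p := wEl (repW.getD k [] ++ (oddW.getD k [] ++ (repW.getD k [] ++ (oddW.getD k []).reverse))) with hpdef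
  have hmem : p ∈ Cfsg.pCore 2 HS := by
    rw [hpdef, wEl_append, wEl_append, wEl_append, wEl_reverse, ← mul_assoc (wEl (oddW.getD k []))]
    exact mul_mem h (hn.conj_mem _ h _)
  obtain ⟨n, hn'⟩ := hp ⟨p, hmem⟩
  have h2 : p ^ 2 ^ n = 1 := congrArg Subtype.val hn'
  have h1024 : p ^ 2 ^ 10 = 1 := by
    obtain ⟨m, hm, ho⟩ := (Nat.dvd_prime_pow Nat.prime_two).mp (orderOf_dvd_of_pow_eq_one h2)
    have h3 : 2 ^ m ∣ 21504 := ho ▸ card_HS ▸ orderOf_dvd_natCard p
    rw [← orderOf_dvd_iff_pow_eq_one, ho]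
    refine Nat.pow_dvd_pow 2 ?_
    by_contra hlt
    have : 2 ^ 11 ∣ 21504 := (Nat.pow_dvd_pow 2 (by omega)).trans h3
    norm_num at this
  rw [h1024]
  exact HasCode.one

theorem rep_three : ∃ h : HS, h * rep 3 * h⁻¹ = Xh := by
  refine ⟨wEl [2, 0], ?_⟩
  rw [rep, ← wEl_reverse, ← wEl_append, ← wEl_append]
  exact wEl_eq (by decide +kernel)

theorem rep_two : ∃ h : HS, h * rep 2 * h⁻¹ = Yh := by
  refine ⟨wEl [0, 3, 1], ?_⟩
  rw [rep, ← wEl_reverse, ← wEl_append, ← wEl_append]
  exact wEl_eq (by decide +kernel)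

theorem Xh_flip : ∃ h : HS, h * Xh * h⁻¹ = Xh * Zh := by
  refine ⟨wEl [3, 0, 3], ?_⟩
  rw [Xh, Zh, ← wEl_reverse, ← wEl_append, ← wEl_append, ← wEl_append]
  exact wEl_eq (by decide +kernel)

theorem Yh_flip : ∃ h : HS, h * Yh * h⁻¹ = Yh * Zh := by
  refine ⟨wEl [0, 1, 0], ?_⟩
  rw [Yh, Zh, ← wEl_reverse, ← wEl_append, ← wEl_append, ← wEl_append]
  exact wEl_eq (by decide +kernel)

theorem tau_Yh : tau Yh = Xh := by
  rw [Yh, tau_wEl _ (by decide)]
  exact wEl_eq (by decide +kernel)

theorem tau_Zh : tau Zh = Zh := by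
  rw [Zh, tau_wEl _ (by decide)]
  exact wEl_eq (by decide +kernel)

end CfsgLib.HeldRecog
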