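/-
Fusion of the central involution: an element exchanging it with a long-root element.
-/
import Cfsg.Agent.Lib.HeldRecog.Classes
import Mathlib.GroupTheory.OrderOfElement

set_option autoImplicit false

namespace CfsgLib.HeldRecog

variable {G : Type*} [Group G]

/-- A copy of the centraliser of a transvection as the centraliser of an involution. -/
structure Emb (G : Type*) [Group G] where
  /-- the involution -/
  z : G
  /-- the copy -/
  φ : HS →* G
  inj : Function.Injective φ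
  mem_range : ∀ g : G, g * z = z * g ↔ ∃ x, φ x = g
  map_Zh : φ Zh = z

namespace Emb

variable (D : Emb G)

theorem z_sq : D.z * D.z = 1 := by rw [← D.map_Zh, ← map_mul, Zh_sq, map_one]

theorem comm_z (x : HS) : D.φ x * D.z = D.z * D.φ x := (D.mem_range _).mpr ⟨x, rfl⟩

theorem eq_z_iff {x : HS} : D.φ x = D.z ↔ x = Zh := by rw [← D.map_Zh, D.inj.eq_iff]

/-- The copy composed with the symmetry. -/
noncomputable def twist : Emb G where
  z := D.z
  φ := D.φ.comp tau.toMonoidHom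
  inj := D.inj.comp tau.injective
  mem_range g := by
    rw [D.mem_range]
    exact ⟨fun ⟨x, hx⟩ => ⟨tau.symm x, by simpa using hx⟩, fun ⟨x, hx⟩ => ⟨tau x, hx⟩⟩
  map_Zh := by
    show D.φ (tau Zh) = D.z
    rw [tau_Zh, D.map_Zh]

theorem comm_conj {g a b : G} (h : a * b = b * a) :
    (g * a * g⁻¹) * (g * b * g⁻¹) = (g * b * g⁻¹) * (g * a * g⁻¹) := by
  calc (g * a * g⁻¹) * (g * b * g⁻¹) = g * (a * b) * g⁻¹ := by group
    _ = g * (b * a) * g⁻¹ := by rw [h]
    _ = _ := by group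

theorem exists_pre {g : G} {b : HS} (hgz : g * D.z * g⁻¹ = D.φ b) :
    ∃ a : HS, g * D.φ a * g⁻¹ = D.z := by
  have hc : (g⁻¹ * D.z * g) * D.z = D.z * (g⁻¹ * D.z * g) := by
    have h := comm_conj (g := g⁻¹) (D.comm_z b)
    rw [← hgz, show g⁻¹ * (g * D.z * g⁻¹) * g⁻¹⁻¹ = D.z by group] at h
    rw [inv_inv] at h
    exact h.symm
  obtain ⟨a, ha⟩ := (D.mem_range _).mp hc
  exact ⟨a, by rw [ha]; group⟩

/-- Conjugation carries the centraliser of `a` in the copy to that of `b`. -/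
theorem exists_transport {g : G} {a b : HS} (hgz : g * D.z * g⁻¹ = D.φ b) (hga : g * D.φ a * g⁻¹ = D.z) :
    ∃ f : {x : HS // x * a = a * x} ≃ {x : HS // x * b = b * x},
      ∀ x, D.φ (f x).1 = g * D.φ x.1 * g⁻¹ := by
  have h1 : ∀ x : {x : HS // x * a = a * x}, ∃ y : HS, y * b = b * y ∧ D.φ y = g * D.φ x.1 * g⁻¹ := by
    rintro ⟨x, hx⟩
    obtain ⟨y, hy⟩ := (D.mem_range (g * D.φ x * g⁻¹)).mp (by
      have h := comm_conj (g := g) (show D.φ x * D.φ a = D.φ a * D.φ x by rw [← map_mul, hx, map_mul])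
      rwa [hga] at h)
    refine ⟨y, D.inj ?_, hy⟩
    have h := comm_conj (g := g) (D.comm_z x)
    rw [hgz] at h
    rw [map_mul, map_mul, hy, h]
  have h2 : ∀ y : {x : HS // x * b = b * x}, ∃ x : HS, x * a = a * x ∧ D.φ x = g⁻¹ * D.φ y.1 * g⁻¹⁻¹ := by
    rintro ⟨y, hy⟩
    obtain ⟨x, hx⟩ := (D.mem_range (g⁻¹ * D.φ y * g⁻¹⁻¹)).mp (by
      have h := comm_conj (g := g⁻¹) (show D.φ y * D.φ b = D.φ b * D.φ y by rw [← map_mul, hy, map_mul])
      rwa [← hgz, show g⁻¹ * (g * D.z * g⁻¹) * g⁻¹⁻¹ = D.z by group] at h)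
    refine ⟨x, D.inj ?_, hx⟩
    have h := comm_conj (g := g⁻¹) (D.comm_z y)
    rw [show g⁻¹ * D.z * g⁻¹⁻¹ = D.φ a by rw [← hga]; group] at h
    rw [map_mul, map_mul, hx, h]
  choose f hf hfv using h1
  choose f' hf' hfv' using h2
  refine ⟨⟨fun x => ⟨f x, hf x⟩, fun y => ⟨f' y, hf' y⟩, fun x => Subtype.ext (D.inj ?_),
    fun y => Subtype.ext (D.inj ?_)⟩, hfv⟩
  · rw [hfv', hfv]; group
  · rw [hfv, hfv']; group

theorem cent_card_eq {g : G} {a b : HS} (hgz : g * D.z * g⁻¹ = D.φ b) (hga : g * D.φ a * g⁻¹ = D.z) :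
    Nat.card {x : HS // x * a = a * x} = Nat.card {x : HS // x * b = b * x} :=
  Nat.card_congr (D.exists_transport hgz hga).choose

theorem conj_comm_card {a y r : HS} (h : a = y * r * y⁻¹) :
    Nat.card {x : HS // x * a = a * x} = Nat.card {x : HS // x * r = r * x} := by
  refine Nat.card_congr (Equiv.subtypeEquiv (MulAut.conj y⁻¹).toEquiv fun x => ?_)
  show _ ↔ y⁻¹ * x * y⁻¹⁻¹ * r = r * (y⁻¹ * x * y⁻¹⁻¹)
  subst h
  rw [inv_inv]
  constructor
  · intro e
    calc y⁻¹ * x * y * r = y⁻¹ * (x * (y * r * y⁻¹)) * y := by group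
      _ = y⁻¹ * (y * r * y⁻¹ * x) * y := by rw [e]
      _ = _ := by group
  · intro e
    calc x * (y * r * y⁻¹) = y * (y⁻¹ * x * y * r) * y⁻¹ := by group
      _ = y * (r * (y⁻¹ * x * y)) * y⁻¹ := by rw [e]
      _ = _ := by group

/-- The square-root counts exclude the class with centraliser of order 512. -/
theorem not_rep_zero {g : G} : g * D.z * g⁻¹ ≠ D.φ (rep 0) := by
  intro hgz
  obtain ⟨a, hga⟩ := D.exists_pre hgz
  have ha2 : a * a = 1 := D.inj (by
    rw [map_mul, map_one]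
    calc D.φ a * D.φ a = g⁻¹ * ((g * D.φ a * g⁻¹) * (g * D.φ a * g⁻¹)) * g := by group
      _ = 1 := by rw [hga, D.z_sq]; group)
  have ha1 : a ≠ 1 := by
    rintro rfl
    rw [map_one, mul_one, mul_inv_cancel] at hga
    exact Zh_ne (D.inj (D.map_Zh.trans (hga.symm.trans (map_one _).symm)))
  obtain ⟨k, hk, y, hy⟩ := inv_cases ha2 ha1
  have hc := D.cent_card_eq hgz hga
  rw [conj_comm_card hy, card_cent_rep hk, card_cent_rep (by norm_num)] at hc
  have hk0 : k = 0 := by interval_cases k <;> simp [centSize] at hc ⊢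
  subst hk0
  have hgz' : (g * D.φ y) * D.z * (g * D.φ y)⁻¹ = D.φ (rep 0) := by
    rw [← hgz, mul_inv_rev]
    calc g * D.φ y * D.z * ((D.φ y)⁻¹ * g⁻¹) = g * (D.φ y * D.z) * (D.φ y)⁻¹ * g⁻¹ := by group
      _ = g * (D.z * D.φ y) * (D.φ y)⁻¹ * g⁻¹ := by rw [D.comm_z]
      _ = _ := by group
  have hga' : (g * D.φ y) * D.φ (rep 0) * (g * D.φ y)⁻¹ = D.z := by
    rw [← hga, hy, map_mul, map_mul, map_inv]; group
  obtain ⟨f, hf⟩ := D.exists_transport hgz' hga'
  have hcard : Nat.card {x : HS // x * rep 0 = rep 0 * x ∧ x * x = Zh} =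
      Nat.card {x : HS // x * rep 0 = rep 0 * x ∧ x * x = rep 0} := by
    refine Nat.card_congr ((Equiv.subtypeSubtypeEquivSubtypeInter _ (fun x => x * x = Zh)).symm.trans
      ((Equiv.subtypeEquiv f fun x => ?_).trans
        (Equiv.subtypeSubtypeEquivSubtypeInter _ (fun x => x * x = rep 0))))
    rw [← D.inj.eq_iff, map_mul, D.map_Zh, ← D.inj.eq_iff (b := rep 0), map_mul, hf, ← hgz']
    generalize g * D.φ y = h
    constructor
    · intro e; rw [← e]; group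
    · intro e
      calc D.φ x.1 * D.φ x.1 = h⁻¹ * (h * D.φ x.1 * h⁻¹ * (h * D.φ x.1 * h⁻¹)) * h := by group
        _ = D.z := by rw [e]; group
  rw [card_roots_rep.1, card_roots_rep.2] at hcard
  norm_num at hcard

end Emb

/-- An element exchanging the involution and the first long-root element. -/
structure Swap (G : Type*) [Group G] extends Emb G where
  /-- the element -/
  s : G
  s_z : s * z * s⁻¹ = φ Xh
  s_x : s * φ Xh * s⁻¹ = z

theorem Emb.exists_swap_of_three (D : Emb G) {g : G} (hgz : g * D.z * g⁻¹ = D.φ Xh) :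
    ∃ S : Swap G, S.toEmb = D := by
  obtain ⟨a, hga⟩ := D.exists_pre hgz
  have ha2 : a * a = 1 := D.inj (by
    rw [map_mul, map_one]
    calc D.φ a * D.φ a = g⁻¹ * ((g * D.φ a * g⁻¹) * (g * D.φ a * g⁻¹)) * g := by group
      _ = 1 := by rw [hga, D.z_sq]; group)
  have ha1 : a ≠ 1 := by
    rintro rfl
    rw [map_one, mul_one, mul_inv_cancel] at hga
    exact Zh_ne (D.inj (D.map_Zh.trans (hga.symm.trans (map_one _).symm)))
  obtain ⟨k, hk, y, hy⟩ := inv_cases ha2 ha1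
  have hc := D.cent_card_eq hgz hga
  obtain ⟨h3, e3⟩ := rep_three
  rw [conj_comm_card hy, card_cent_rep hk, conj_comm_card e3.symm, card_cent_rep (by norm_num)] at hc
  have hk23 : k = 2 ∨ k = 3 := by interval_cases k <;> simp [centSize] at hc ⊢
  have hflip : ∃ u : HS, u * a * u⁻¹ = a * Zh := by
    have key : ∀ r h w : HS, a = h * r * h⁻¹ → w * r * w⁻¹ = r * Zh → ∃ u : HS, u * a * u⁻¹ = a * Zh := by
      intro r h w e1 e2
      refine ⟨h * w * h⁻¹, ?_⟩
      subst e1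
      calc h * w * h⁻¹ * (h * r * h⁻¹) * (h * w * h⁻¹)⁻¹ = h * (w * r * w⁻¹) * h⁻¹ := by group
        _ = h * r * (Zh * h⁻¹) := by rw [e2]; group
        _ = h * r * (h⁻¹ * Zh) := by rw [Zh_comm]
        _ = _ := by group
    rcases hk23 with rfl | rfl
    · obtain ⟨h2, e2⟩ := rep_two
      obtain ⟨w, hw⟩ := Yh_flip
      exact key Yh (y * h2⁻¹) w (by rw [hy, ← e2]; group) hw
    · obtain ⟨w, hw⟩ := Xh_flip
      exact key Xh (y * h3⁻¹) w (by rw [hy, ← e3]; group) hw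
  obtain ⟨u, hu⟩ := hflip
  obtain ⟨c, hc'⟩ := Xh_flip
  set X := D.φ Xh with hX
  set c1 := g * D.φ u * g⁻¹ with hc1
  have hcz : D.φ c * D.z * (D.φ c)⁻¹ = D.z := by rw [D.comm_z, mul_inv_cancel_right]
  have hcx : D.φ c * X * (D.φ c)⁻¹ = X * D.z := by
    rw [hX, ← D.map_Zh, ← map_inv, ← map_mul, ← map_mul, hc', map_mul]
  have hcxz : D.φ c * (X * D.z) * (D.φ c)⁻¹ = X := by
    calc D.φ c * (X * D.z) * (D.φ c)⁻¹ = (D.φ c * X * (D.φ c)⁻¹) * (D.φ c * D.z * (D.φ c)⁻¹) := by group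
      _ = X * (D.z * D.z) := by rw [hcx, hcz, mul_assoc]
      _ = X := by rw [D.z_sq, mul_one]
  have h1x : c1 * X * c1⁻¹ = X := by
    rw [hc1, ← hgz]
    calc g * D.φ u * g⁻¹ * (g * D.z * g⁻¹) * (g * D.φ u * g⁻¹)⁻¹ =
        g * (D.φ u * D.z) * (D.φ u)⁻¹ * g⁻¹ := by group
      _ = _ := by rw [D.comm_z]; group
  have h1z : c1 * D.z * c1⁻¹ = D.z * X := by
    rw [hc1]
    conv_lhs => rw [← hga]
    calc g * D.φ u * g⁻¹ * (g * D.φ a * g⁻¹) * (g * D.φ u * g⁻¹)⁻¹ =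
        g * (D.φ u * D.φ a * (D.φ u)⁻¹) * g⁻¹ := by group
      _ = g * (D.φ a * D.z) * g⁻¹ := by rw [← map_inv, ← map_mul, ← map_mul, hu, map_mul, D.map_Zh]
      _ = (g * D.φ a * g⁻¹) * (g * D.z * g⁻¹) := by group
      _ = _ := by rw [hga, hgz]
  have hzX : D.z * X = X * D.z := (D.comm_z Xh).symm
  have h1xz : c1 * (X * D.z) * c1⁻¹ = D.z := by
    calc c1 * (X * D.z) * c1⁻¹ = (c1 * X * c1⁻¹) * (c1 * D.z * c1⁻¹) := by group
      _ = X * (D.z * X) := by rw [h1x, h1z]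
      _ = (X * X) * D.z := by rw [hzX, mul_assoc]
      _ = D.z := by
        rw [hX, ← map_mul, show Xh * Xh = 1 from wEl_append xW xW ▸ wEl_one (w := xW ++ xW) (by decide +kernel),
          map_one, one_mul]
  refine ⟨{ D with s := D.φ c * c1 * D.φ c, s_z := ?_, s_x := ?_ }, rfl⟩
  · calc D.φ c * c1 * D.φ c * D.z * (D.φ c * c1 * D.φ c)⁻¹ =
        D.φ c * (c1 * (D.φ c * D.z * (D.φ c)⁻¹) * c1⁻¹) * (D.φ c)⁻¹ := by group
      _ = X := by rw [hcz, h1z, hzX, hcxz]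
  · calc D.φ c * c1 * D.φ c * X * (D.φ c * c1 * D.φ c)⁻¹ =
        D.φ c * (c1 * (D.φ c * X * (D.φ c)⁻¹) * c1⁻¹) * (D.φ c)⁻¹ := by group
      _ = D.z := by rw [hcx, h1xz, hcz]

/-- An involution of the largest normal 2-subgroup of the centraliser conjugate to the central one gives an
exchanging element, possibly after applying the symmetry. -/
theorem Emb.exists_swap (D : Emb G) {g : G} {q : HS} (hgz : g * D.z * g⁻¹ = D.φ q) (hne : q ≠ Zh)
    (hq : q ∈ Cfsg.pCore 2 HS) : Nonempty (Swap G) := by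
  have hq2 : q * q = 1 := D.inj (by
    rw [map_mul, map_one, ← hgz]
    calc g * D.z * g⁻¹ * (g * D.z * g⁻¹) = g * (D.z * D.z) * g⁻¹ := by group
      _ = 1 := by rw [D.z_sq]; group)
  have hq1 : q ≠ 1 := by
    rintro rfl
    rw [map_one, conj_eq_one_iff] at hgz
    exact Zh_ne (D.inj (D.map_Zh.trans (hgz.trans (map_one _).symm)))
  obtain ⟨k, hk, y, hy⟩ := inv_cases hq2 hq1
  have hk' : k ∉ [1, 4, 5, 7] := by
    intro hk'
    refine rep_not_mem_pCore hk' ?_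
    have := (inferInstance : (Cfsg.pCore 2 HS).Normal).conj_mem q hq y⁻¹
    rwa [hy, show y⁻¹ * (y * rep k * y⁻¹) * y⁻¹⁻¹ = rep k by group] at this
  have move : ∀ (E : Emb G), E.z = D.z → ∀ h w : HS, ∀ r : HS, h * r * h⁻¹ = w → E.φ r = D.φ (rep k) →
      ∃ g' : G, g' * E.z * g'⁻¹ = E.φ w := by
    intro E hz h w r e hr
    refine ⟨E.φ h * (D.φ y)⁻¹ * g, ?_⟩
    calc E.φ h * (D.φ y)⁻¹ * g * E.z * (E.φ h * (D.φ y)⁻¹ * g)⁻¹ =
        E.φ h * ((D.φ y)⁻¹ * (g * E.z * g⁻¹) * D.φ y) * (E.φ h)⁻¹ := by group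
      _ = _ := by rw [hz, hgz, hy, ← e, map_mul, map_mul, map_mul, map_mul, hr, map_inv, map_inv]; group
  interval_cases k
  · obtain ⟨g', hg'⟩ := move D rfl 1 (rep 0) (rep 0) (by group) rfl
    exact absurd hg' D.not_rep_zero
  · simp at hk'
  · obtain ⟨h2, e2⟩ := rep_two
    obtain ⟨g', hg'⟩ := move D.twist rfl (tau h2) Xh (tau (rep 2)) (by rw [← tau_Yh, ← e2]; simp) (by
      show D.φ (tau (tau (rep 2))) = _
      rw [tau_tau])
    exact (Emb.exists_swap_of_three _ hg').elim fun S _ => ⟨S⟩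
  · obtain ⟨h3, e3⟩ := rep_three
    obtain ⟨g', hg'⟩ := move D rfl h3 Xh (rep 3) e3 rfl
    exact (D.exists_swap_of_three hg').elim fun S _ => ⟨S⟩
  · simp at hk'
  · simp at hk'
  · exact absurd (by rw [hy, rep_six, mul_assoc, ← Zh_comm, ← mul_assoc, mul_inv_cancel, one_mul]) hne
  · simp at hk'

end CfsgLib.HeldRecog
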