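/-
The automorphism induced by an exchanging element on the common centraliser: four possibilities.
-/
import Cfsg.Agent.Lib.HeldRecog.Fusion
import Cfsg.Agent.Lib.HeldRecog.SigmaData

set_option autoImplicit false
set_option maxRecDepth 100000

namespace CfsgLib.HeldRecog

open CfsgLib.CosetEnum CfsgLib.HeCent

variable {G : Type*} [Group G]

/-- An environment of codes for six letters: a list of codes, the central involution and the long-root element. -/
def envC (p : List ℕ) (z x : ℕ) (i : ℕ) : ℕ :=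
  if i < 4 then p.getD i oneCode else if i = 4 then z else if i = 5 then x else oneCode

/-- The code of a word in an environment. -/
noncomputable def evC (env : ℕ → ℕ) (w : List ℕ) : ℕ :=
  List.rec oneCode (fun i _ ih => force ih fun r => mulF (env i) r) w

theorem hasCode_evC {env : ℕ → HS} {envc : ℕ → ℕ} : ∀ w : List ℕ, (∀ i ∈ w, HasCode (env i) (envc i)) →
    HasCode ((w.map env).prod) (evC envc w)
  | [], _ => HasCode.one
  | i :: w, h => by
    show HasCode _ (force (evC envc w) fun r => mulF (envc i) r)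
    rw [force_eq, List.map_cons, List.prod_cons]
    exact (h i List.mem_cons_self).mul (hasCode_evC w fun j hj => h j (List.mem_cons_of_mem _ hj))

/-- The generators of the common centraliser, followed by the two involutions. -/
noncomputable def srcEl (i : ℕ) : HS :=
  if i < 4 then wEl (gsW.getD i []) else if i = 4 then Zh else if i = 5 then Xh else 1

/-- The codes of the generators. -/
def gsC : List ℕ := [17965121, 21270625, 29626689, 22450369]

theorem gsC_eq : ∀ i < 4, gsC.getD i oneCode = wCode (gsW.getD i []) := by decide +kernel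

/-- The code of the first long-root element. -/
def xC : ℕ := 18092097

theorem xC_eq : wCode xW = xC := by decide +kernel

/-- The codes of the generators, continued by the two involutions. -/
noncomputable def srcC (i : ℕ) : ℕ := envC gsC sCode xC i

theorem hasCode_Xh : HasCode Xh xC := xC_eq ▸ hasCode_wEl xW

theorem d1_ok : centOK xC d1L d1K = true := by decide +kernel

theorem enum_D1 : Enum (fun x => x * Xh = Xh * x) d1L := enum_cent hasCode_Xh d1_ok

theorem hasCode_srcEl (i : ℕ) : HasCode (srcEl i) (srcC i) := by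
  unfold srcEl srcC envC
  split_ifs with h4
  · rw [gsC_eq i h4]; exact hasCode_wEl _
  · exact Zh_code
  · exact hasCode_Xh
  · exact HasCode.one

theorem gs_ok : ((List.range 4).all fun i => force (gsC.getD i oneCode) fun c =>
    Nat.beq (mulF c c) oneCode && !Nat.beq c oneCode && Nat.beq (mulF c xC) (mulF xC c)) = true := by
  decide +kernel

theorem gs_spec {i : ℕ} (hi : i < 4) :
    srcEl i * srcEl i = 1 ∧ srcEl i ≠ 1 ∧ srcEl i * Xh = Xh * srcEl i := by
  have h := List.all_eq_true.mp gs_ok i (List.mem_range.mpr hi)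
  have hc : HasCode (srcEl i) (gsC.getD i oneCode) := by
    have := hasCode_srcEl i
    rwa [srcC, envC, if_pos hi] at this
  simp only [force_eq, Bool.and_eq_true, Bool.not_eq_true', ← Bool.not_eq_true] at h
  refine ⟨((hc.mul hc).eq_iff HasCode.one).mpr (Nat.eq_of_beq_eq_true h.1.1), fun e => h.1.2 ?_,
    ((hc.mul hasCode_Xh).eq_iff (hasCode_Xh.mul hc)).mpr (Nat.eq_of_beq_eq_true h.2)⟩
  exact Nat.beq_eq.mpr (hc.eq (e ▸ HasCode.one))

namespace Swap

variable (D : Swap G)

/-- The exchanging element carries `x` to `y`. -/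
def Maps (x y : HS) : Prop := D.s * D.φ x * D.s⁻¹ = D.φ y

theorem maps_Zh : D.Maps Zh Xh := by rw [Maps, D.map_Zh]; exact D.s_z

theorem maps_Xh : D.Maps Xh Zh := by rw [Maps, D.map_Zh]; exact D.s_x

variable {D}

theorem Maps.mul {x y x' y' : HS} (h : D.Maps x y) (h' : D.Maps x' y') : D.Maps (x * x') (y * y') := by
  rw [Maps, map_mul, map_mul, ← h, ← h']; group

theorem Maps.one : D.Maps 1 1 := by rw [Maps, map_one, mul_one, mul_inv_cancel]

theorem Maps.unique {x y y' : HS} (h : D.Maps x y) (h' : D.Maps x y') : y = y' := D.inj (h.symm.trans h')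

theorem Maps.injective {x x' y : HS} (h : D.Maps x y) (h' : D.Maps x' y) : x = x' := by
  have e : D.s * D.φ x * D.s⁻¹ = D.s * D.φ x' * D.s⁻¹ := h.trans h'.symm
  exact D.inj (mul_left_cancel (mul_right_cancel e))

theorem exists_maps {x : HS} (hx : x * Xh = Xh * x) : ∃ y, D.Maps x y ∧ y * Xh = Xh * y := by
  have h1 := Emb.comm_conj (g := D.s) (show D.φ x * D.φ Xh = D.φ Xh * D.φ x by rw [← map_mul, hx, map_mul])
  rw [D.s_x] at h1
  obtain ⟨y, hy⟩ := (D.mem_range _).mp h1
  refine ⟨y, hy.symm, D.inj ?_⟩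
  have h2 := Emb.comm_conj (g := D.s) (D.comm_z x)
  rw [D.s_z, ← hy] at h2
  rw [map_mul, map_mul, h2]

theorem maps_word {a b : ℕ → HS} : ∀ w : List ℕ, (∀ i ∈ w, D.Maps (a i) (b i)) →
    D.Maps (w.map a).prod (w.map b).prod
  | [], _ => Maps.one
  | i :: w, h => (h i List.mem_cons_self).mul (maps_word w fun j hj => h j (List.mem_cons_of_mem _ hj))

/-- The exchanging element multiplied by two elements of the common centraliser. -/
noncomputable def adjust (D : Swap G) {a c : HS} (ha : a * Xh = Xh * a) (hc : c * Xh = Xh * c) : Swap G where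
  toEmb := D.toEmb
  s := D.φ a * D.s * D.φ c
  s_z := by
    calc D.φ a * D.s * D.φ c * D.z * (D.φ a * D.s * D.φ c)⁻¹ =
        D.φ a * (D.s * (D.φ c * D.z * (D.φ c)⁻¹) * D.s⁻¹) * (D.φ a)⁻¹ := by group
      _ = _ := by
        rw [D.comm_z, mul_inv_cancel_right, D.s_z, ← map_inv, ← map_mul, ← map_mul, ha, mul_inv_cancel_right]
  s_x := by
    calc D.φ a * D.s * D.φ c * D.φ Xh * (D.φ a * D.s * D.φ c)⁻¹ =
        D.φ a * (D.s * (D.φ c * D.φ Xh * (D.φ c)⁻¹) * D.s⁻¹) * (D.φ a)⁻¹ := by group
      _ = _ := by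
        rw [← map_inv D.φ c, ← map_mul, ← map_mul, hc, mul_inv_cancel_right, D.s_x, D.comm_z, mul_inv_cancel_right]

theorem adjust_maps {a c : HS} (ha : a * Xh = Xh * a) (hc : c * Xh = Xh * c) {x y : HS}
    (h : D.Maps (c * x * c⁻¹) y) : (D.adjust ha hc).Maps x (a * y * a⁻¹) := by
  show D.φ a * D.s * D.φ c * D.φ x * (D.φ a * D.s * D.φ c)⁻¹ = D.φ (a * y * a⁻¹)
  rw [map_mul, map_mul, map_inv, ← h, map_mul, map_mul, map_inv]
  group

/-- The first generators go to the elements with the given codes. -/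
def Pref (D : Swap G) (p : List ℕ) : Prop := ∀ i < p.length, ∃ y, D.Maps (srcEl i) y ∧ HasCode y (p.getD i oneCode)

end Swap

/-- The target code of a letter. -/
noncomputable def tgtC (p : List ℕ) : ℕ → ℕ := envC p xC sCode

/-- A test gives the same answer on the generators and on their images. -/
noncomputable def testOK (p : List ℕ) (w : List ℕ) : Bool :=
  Nat.beq (evC srcC w) oneCode == Nat.beq (evC (tgtC p) w) oneCode

namespace Swap

variable {D : Swap G}

theorem maps_env {p : List ℕ} (hp : D.Pref p) {w : List ℕ} (hw : ∀ i ∈ w, i < p.length ∨ i = 4 ∨ i = 5)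
    (hlen : p.length ≤ 4) : ∃ y, D.Maps (w.map srcEl).prod y ∧ HasCode y (evC (tgtC p) w) := by
  have h : ∀ i ∈ w, ∃ y, D.Maps (srcEl i) y ∧ HasCode y (tgtC p i) := by
    intro i hi
    rcases hw i hi with hi' | rfl | rfl
    · obtain ⟨y, h1, h2⟩ := hp i hi'
      exact ⟨y, h1, by rwa [tgtC, envC, if_pos (by omega)]⟩
    · exact ⟨Xh, D.maps_Zh, hasCode_Xh⟩
    · exact ⟨Zh, D.maps_Xh, Zh_code⟩
  choose! f hf hf' using h
  exact ⟨(w.map f).prod, maps_word w hf, hasCode_evC w hf'⟩

theorem test_sound {p : List ℕ} (hp : D.Pref p) {w : List ℕ} (hw : ∀ i ∈ w, i < p.length ∨ i = 4 ∨ i = 5)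
    (hlen : p.length ≤ 4) : testOK p w = true := by
  obtain ⟨y, hy, hc⟩ := maps_env hp hw hlen
  have hs : HasCode (w.map srcEl).prod (evC srcC w) := hasCode_evC w fun i _ => hasCode_srcEl i
  have key : (w.map srcEl).prod = 1 ↔ y = 1 := ⟨fun h => (h ▸ hy).unique Maps.one, fun h => (h ▸ hy).injective Maps.one⟩
  rw [hs.eq_iff HasCode.one, hc.eq_iff HasCode.one] at key
  rw [testOK, beq_iff_eq, Bool.eq_iff_iff, Nat.beq_eq, Nat.beq_eq]
  exact key

end Swap

/-- The prefixes of a level. -/
def sigLvl (i : ℕ) : List (List ℕ) := [sigLvl0, sigLvl1, sigLvl2, sigLvl3, sigLvl4].getD i []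

theorem sigLvl_ok : ((List.range 5).all fun i => (sigLvl i).all fun p => p.all fun c => Nat.blt c (2 ^ 25)) = true := by
  decide +kernel

theorem sigLvl_lt (i : ℕ) (hi : i < 5) (n : ℕ) (hn : n < (sigLvl i).length) (a : ℕ) :
    ((sigLvl i).getD n []).getD a oneCode < 2 ^ 25 := by
  have h := List.all_eq_true.mp (List.all_eq_true.mp sigLvl_ok i (List.mem_range.mpr hi)) _ (getD_mem hn [])
  by_cases ha : a < ((sigLvl i).getD n []).length
  · exact blt_iff.mp (List.all_eq_true.mp h _ (getD_mem ha oneCode))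
  · rw [List.getD_eq_default _ _ (not_lt.mp ha)]; exact oneCode_lt

/-- The branches of a level. -/
def sigEnt (i : ℕ) : List (List (ℕ × ℕ × ℕ)) := [sigEnt0, sigEnt1, sigEnt2, sigEnt3].getD i []

/-- The check of one node. -/
noncomputable def nodeOK (i : ℕ) (p : List ℕ) (E : List (ℕ × ℕ × ℕ)) : Bool :=
  Nat.beq p.length i &&
    (((d1InvC.filter fun m => (sigTests.getD i []).all (testOK (p ++ [m.2]))).map Prod.fst) == E.map Prod.fst) &&
    E.all fun e => force (codeN e.1) fun cy => force (codeN e.2.1) fun ch =>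
      let q := (sigLvl (i + 1)).getD e.2.2 []
      Nat.blt e.2.2 (sigLvl (i + 1)).length && Nat.beq q.length (i + 1) &&
      Nat.beq (mulF ch xC) (mulF xC ch) &&
      ((List.range i).all fun a => Nat.beq (p.getD a oneCode) (q.getD a oneCode) &&
        Nat.beq (mulF ch (p.getD a oneCode)) (mulF (p.getD a oneCode) ch)) &&
      Nat.beq (mulF ch (q.getD i oneCode)) (mulF cy ch)

/-- The check of a segment of the nodes of a level. -/
noncomputable def segOK (i lo len : ℕ) : Bool :=
  (((sigLvl i).zip (sigEnt i)).drop lo).take len |>.all fun pe => nodeOK i pe.1 pe.2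

theorem lens_ok : ∀ i < 4, (sigEnt i).length = (sigLvl i).length := by decide +kernel

theorem seg0_ok : segOK 0 0 1 = true ∧ segOK 1 0 15 = true := by decide +kernel

theorem seg2a_ok : segOK 2 0 55 = true := by decide +kernel

theorem seg2b_ok : segOK 2 55 55 = true := by decide +kernel

theorem seg2c_ok : segOK 2 110 55 = true := by decide +kernel

theorem seg2d_ok : segOK 2 165 55 = true := by decide +kernel

theorem seg3_ok : segOK 3 0 64 = true := by decide +kernel

theorem lvl_lens : sigLvl0.length = 1 ∧ sigLvl1.length = 15 ∧ sigLvl2.length = 212 ∧ sigLvl3.length = 64 := by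
  decide +kernel

theorem node_mem {i : ℕ} (hi : i < 4) {n : ℕ} (hn : n < (sigLvl i).length) :
    nodeOK i ((sigLvl i).getD n []) ((sigEnt i).getD n []) = true := by
  have hlen := lens_ok i hi
  have key : ∀ lo len, segOK i lo len = true → lo ≤ n → n < lo + len →
      nodeOK i ((sigLvl i).getD n []) ((sigEnt i).getD n []) = true := by
    intro lo len h h1 h2
    have := List.all_eq_true.mp h _ (List.getElem_mem (l := (((sigLvl i).zip (sigEnt i)).drop lo).take len)
      (n := n - lo) (by simp only [List.length_take, List.length_drop, List.length_zip]; omega))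
    simp only [List.getElem_take, List.getElem_drop, List.getElem_zip, show lo + (n - lo) = n by omega] at this
    rwa [List.getD_eq_getElem _ _ hn, List.getD_eq_getElem _ _ (hlen.symm ▸ hn)]
  obtain ⟨l0, l1, l2, l3⟩ := lvl_lens
  interval_cases i
  · replace hn : n < sigLvl0.length := hn
    exact key 0 1 seg0_ok.1 (by omega) (by omega)
  · replace hn : n < sigLvl1.length := hn
    exact key 0 15 seg0_ok.2 (by omega) (by omega)
  · replace hn : n < sigLvl2.length := hn
    rcases Nat.lt_or_ge n 55 with h | h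
    · exact key 0 55 seg2a_ok (by omega) (by omega)
    rcases Nat.lt_or_ge n 110 with h | h
    · exact key 55 55 seg2b_ok (by omega) (by omega)
    rcases Nat.lt_or_ge n 165 with h | h
    · exact key 110 55 seg2c_ok (by omega) (by omega)
    · exact key 165 55 seg2d_ok (by omega) (by omega)
  · replace hn : n < sigLvl3.length := hn
    exact key 0 64 seg3_ok (by omega) (by omega)

theorem d1InvC_ok : (d1InvC.map Prod.fst == d1Inv && d1InvC.all fun m => Nat.beq (codeN m.1) m.2) = true := by
  decide +kernel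

theorem tests_ok : ((List.range 4).all fun i => (sigTests.getD i []).all fun w => w.all fun a =>
    Nat.blt a (i + 1) || Nat.beq a 4 || Nat.beq a 5) = true := by decide +kernel

theorem d1Inv_ok : (d1L.filter (fun m => force (codeN m) fun c =>
    Nat.beq (mulF c c) oneCode && !Nat.beq c oneCode) == d1Inv) = true := by decide +kernel

theorem mem_d1Inv {y : HS} (hy : y * Xh = Xh * y) (h2 : y * y = 1) (h1 : y ≠ 1) :
    ∃ m ∈ d1Inv, eltN m = y := by
  have h := enum_D1.filter (fun x => x * x = 1 ∧ x ≠ 1)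
    (fun c => Nat.beq (mulF c c) oneCode && !Nat.beq c oneCode) fun x c hx => by
      rw [Bool.and_eq_true, Bool.not_eq_true', ← Bool.not_eq_true, Nat.beq_eq, Nat.beq_eq,
        (hx.mul hx).eq_iff HasCode.one, Ne, hx.eq_iff HasCode.one]
  obtain ⟨n, hn, e⟩ := (h.mem y).mp ⟨hy, h2, h1⟩
  have hd := d1Inv_ok
  simp only [force_eq, beq_iff_eq] at hd
  exact ⟨n, hd ▸ hn, e⟩

theorem lvl_step {i : ℕ} (hi : i < 4) :
    ∀ D : Swap G, (∃ n < (sigLvl i).length, D.Pref ((sigLvl i).getD n [])) →
      ∃ D' : Swap G, ∃ n < (sigLvl (i + 1)).length, D'.Pref ((sigLvl (i + 1)).getD n []) ∧ D'.toEmb = D.toEmb := by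
  rintro D ⟨n, hn, hp⟩
  have h := node_mem hi hn
  simp only [nodeOK, force_eq, Bool.and_eq_true, beq_iff_eq, List.all_eq_true, List.mem_range] at h
  set p := (sigLvl i).getD n []
  obtain ⟨⟨hlen, hfilt⟩, hent⟩ := h
  replace hlen := Nat.eq_of_beq_eq_true hlen
  obtain ⟨g2, g1, gx⟩ := gs_spec hi
  obtain ⟨y, hy, hyx⟩ := D.exists_maps gx
  have hy2 : y * y = 1 := (g2 ▸ hy.mul hy).unique Swap.Maps.one
  have hy1 : y ≠ 1 := fun e => g1 ((e ▸ hy).injective Swap.Maps.one)
  obtain ⟨m, hm, rfl⟩ := mem_d1Inv hyx hy2 hy1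
  have hp' : D.Pref (p ++ [codeN m]) := by
    intro a ha
    rw [List.length_append, List.length_singleton] at ha
    rcases Nat.lt_or_ge a p.length with hlt | hge
    · rw [List.getD_append _ _ _ _ hlt]; exact hp a hlt
    · obtain rfl : a = p.length := by omega
      rw [List.getD_append_right _ _ _ _ le_rfl, Nat.sub_self]
      exact ⟨eltN m, hlen ▸ hy, hasCode_eltN m⟩
  have hmem : m ∈ ((sigEnt i).getD n []).map Prod.fst := by
    rw [← hfilt]
    have hC := d1InvC_ok
    simp only [Bool.and_eq_true, beq_iff_eq, List.all_eq_true] at hC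
    rw [← hC.1] at hm
    obtain ⟨⟨m', c'⟩, hm2, rfl⟩ := List.mem_map.mp hm
    refine List.mem_map.mpr ⟨_, List.mem_filter.mpr ⟨hm2, List.all_eq_true.mpr fun w hw => ?_⟩, rfl⟩
    rw [← Nat.eq_of_beq_eq_true (hC.2 _ hm2)]
    refine Swap.test_sound hp' ?_ ?_
    · intro a ha
      have := List.all_eq_true.mp (List.all_eq_true.mp (List.all_eq_true.mp tests_ok i (List.mem_range.mpr hi))
        w hw) a ha
      simp only [Bool.or_eq_true, blt_iff, Nat.beq_eq] at this
      simp only [List.length_append, List.length_singleton, hlen]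
      omega
    · simp only [List.length_append, List.length_singleton, hlen]; omega
  obtain ⟨e, he, rfl⟩ := List.mem_map.mp hmem
  obtain ⟨⟨⟨⟨hlt, hq⟩, hhx⟩, hold⟩, hnew⟩ := hent e he
  set q := (sigLvl (i + 1)).getD e.2.2 []
  set h := eltN e.2.1
  have hc : HasCode h (codeN e.2.1) := hasCode_eltN _
  have hh : h * Xh = Xh * h :=
    ((hc.mul hasCode_Xh).eq_iff (hasCode_Xh.mul hc)).mpr (Nat.eq_of_beq_eq_true hhx)
  have hh' : h⁻¹ * Xh = Xh * h⁻¹ := by
    rw [eq_comm, eq_inv_mul_iff_mul_eq, ← mul_assoc, hh, mul_inv_cancel_right]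
  refine ⟨D.adjust hh' (show (1 : HS) * Xh = Xh * 1 by group), e.2.2, blt_iff.mp hlt, ?_, rfl⟩
  intro a ha
  rw [Nat.eq_of_beq_eq_true hq] at ha
  rcases Nat.lt_or_ge a i with hai | hai
  · obtain ⟨x, hx, hxc⟩ := hp a (by omega)
    have ha' := hold a hai
    have hcomm : h * x = x * h := ((hc.mul hxc).eq_iff (hxc.mul hc)).mpr (Nat.eq_of_beq_eq_true ha'.2)
    refine ⟨x, ?_, Nat.eq_of_beq_eq_true ha'.1 ▸ hxc⟩
    have := Swap.adjust_maps hh' (show (1 : HS) * Xh = Xh * 1 by group) (x := srcEl a) (y := x) (by simpa using hx)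
    rwa [inv_inv, mul_assoc, ← hcomm, inv_mul_cancel_left] at this
  · obtain rfl : a = i := by omega
    obtain ⟨x, hxc⟩ : ∃ x, HasCode x (q.getD a oneCode) := by
      refine ⟨h⁻¹ * eltN e.1 * h, ?_⟩
      obtain ⟨p', hp'⟩ := elt_surjective (h⁻¹ * eltN e.1 * h)
      have h1 : HasCode (h⁻¹ * eltN e.1 * h) (prodF p'.1 p'.2) := hp' ▸ hasCode_elt p'
      have h2 := (hc.mul h1).eq (show HasCode (h * (h⁻¹ * eltN e.1 * h)) (mulF (codeN e.1) (codeN e.2.1)) by
        rw [← mul_assoc, mul_inv_cancel_left]; exact (hasCode_eltN e.1).mul hc)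
      rw [← Nat.eq_of_beq_eq_true hnew] at h2
      refine ⟨?_, ?_⟩
      · have h3 := congrArg mat h2
        rw [← mat_mulF, ← mat_mulF, ← hc.1] at h3
        have h4 := congrArg (mx h⁻¹ * ·) h3
        simp only [← Matrix.mul_assoc, ← mx_mul, inv_mul_cancel, mx_one, show mat oneCode = 1 from mat_one,
          Matrix.one_mul] at h4
        rw [h1.1, h4]
      · exact sigLvl_lt (a + 1) (by omega) e.2.2 (blt_iff.mp hlt) a
    have hx : x = h⁻¹ * eltN e.1 * h := by
      have h2 := ((hc.mul hxc).eq_iff ((hasCode_eltN e.1).mul hc)).mpr (Nat.eq_of_beq_eq_true hnew)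
      rw [mul_assoc, eq_inv_mul_iff_mul_eq, h2]
    refine ⟨x, ?_, hxc⟩
    have := Swap.adjust_maps hh' (show (1 : HS) * Xh = Xh * 1 by group) (x := srcEl a) (y := eltN e.1)
      (by simpa using hy)
    rw [inv_inv] at this
    rwa [hx]

end CfsgLib.HeldRecog
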