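/-
Words of the images at the leaves of the search tree.
-/
import Mathlib.Data.Nat.Notation
import Mathlib.Data.List.Basic

set_option autoImplicit false
set_option maxRecDepth 100000

namespace CfsgLib.HeldRecog

/-- Words of the images of the leaves. -/
def leafWords : List (List (List ℕ)) := [[[0, 1, 2, 3, 2, 0], [0, 2, 3, 0, 3, 2, 0, 1, 3], [2], [0, 2, 0, 3, 0, 2, 0, 5]], [[0, 1, 2, 3, 2, 0], [1, 4], [2], [0, 2, 0, 3, 0, 2, 0, 5]], [[0, 1, 2, 3, 2, 0], [1, 2, 3, 2, 3, 5], [2], [0, 2, 0, 3, 0, 2, 0, 5]], [[0, 1, 2, 3, 2, 0], [0, 3, 0, 2, 0, 2, 3, 0, 1], [2], [0, 2, 0, 3, 0, 2, 0, 5]], [[3, 2, 0, 2, 3], [0, 2, 3, 0, 3, 2, 0, 1, 3], [2, 4], [1, 3, 5]], [[3, 2, 0, 2, 3], [1, 4], [2, 4], [0, 2, 0, 3, 0, 2, 0, 1]], [[3, 2, 0, 2, 3], [1, 2, 3, 2,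 3, 5], [2, 4], [0, 3, 2, 0, 2, 3, 0, 1]], [[3, 2, 0, 2, 3], [0, 3, 0, 2, 0, 2, 3, 0, 1], [2, 4], [1, 2, 3, 2, 4]], [[0, 2, 0, 3, 0, 2, 0], [2, 0, 1, 2, 0, 3, 2, 3], [0, 2, 0, 4], [0, 1, 3, 0, 4]], [[0, 2, 0, 3, 0, 2, 0], [0, 1, 0, 4], [0, 2, 0, 4], [1, 2, 0, 3, 0, 1, 2]], [[0, 2, 0, 3, 0, 2, 0], [0, 1, 2, 3, 2, 3, 0, 5], [0, 2, 0, 4], [1, 3, 2, 0, 2, 1, 3]], [[0, 2, 0, 3, 0, 2, 0], [1, 3, 2, 0, 1, 2, 0, 3], [0, 2, 0, 4], [0, 1, 2, 3, 2, 0, 5]], [[3, 5], [2, 0, 1, 2, 0, 3, 2, 3], [0, 2, 0, 4], [0, 1, 0, 3, 0, 3]], [[3, 5], [0, 1, 0, 4], [0, 2, 0, 4], [1, 2, 0, 3, 0, 1, 2, 5]], [[3, 5], [0, 1, 2, 3, 2, 3, 0, 5], [0, 2, 0, 4], [1, 3, 2, 0, 1, 2, 3, 4]], [[3, 5], [1, 3, 2, 0, 1, 2, 0, 3], [0, 2, 0, 4], [0, 1, 2, 3, 2, 0]]]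

/-- Words of the normalised images. -/
def imgWords : List (List (List ℕ)) := [[[0], [1], [1, 3, 2, 1, 3], [2, 3, 2]], [[0, 3, 0, 2, 3, 2, 3, 0, 3], [2, 1, 3, 2, 3], [1, 3, 2, 1, 3], [2, 3, 2]], [[3, 0, 2, 3, 2, 0, 3], [1], [3, 2, 3, 4], [1, 2, 3, 2, 5]], [[3, 0, 2, 3, 2, 0, 3], [1, 2, 3, 2, 3, 5], [3, 2, 3, 4], [0, 1, 3, 2, 0, 2, 1, 3, 0]]]

end CfsgLib.HeldRecog
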