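/-
The exchanging element normalised: an involution inducing one of four automorphisms.
-/
import Cfsg.Agent.Lib.HeldRecog.Sigma
import Cfsg.Agent.Lib.HeldRecog.SigmaWords

set_option autoImplicit false
set_option maxRecDepth 100000

namespace CfsgLib.HeldRecog

open CfsgLib.CosetEnum CfsgLib.HeCent

variable {G : Type*} [Group G]

/-- A word has letters below four or is one of the two involutions. -/
def letters6 (w : List ℕ) : Bool := w.all fun a => Nat.blt a 4 || Nat.beq a 4 || Nat.beq a 5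

namespace Swap

variable {D : Swap G}

theorem maps_word6 {p : List ℕ} (hp : D.Pref p) (hlen : p.length = 4) {w : List ℕ} (hw : letters6 w = true) :
    ∃ y, D.Maps (w.map srcEl).prod y ∧ HasCode y (evC (tgtC p) w) := by
  refine maps_env hp (fun i hi => ?_) hlen.le
  have := List.all_eq_true.mp hw i hi
  simp only [Bool.or_eq_true, blt_iff, Nat.beq_eq] at this
  omega

theorem exists_sq (D : Swap G) : ∃ d : HS, d * Xh = Xh * d ∧ D.φ d = D.s * D.s := by
  have h : D.s * D.s * D.z = D.z * (D.s * D.s) := by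
    calc D.s * D.s * D.z = D.s * (D.s * D.z * D.s⁻¹) * D.s⁻¹ * (D.s * D.s) := by group
      _ = _ := by rw [D.s_z, D.s_x]
  obtain ⟨d, hd⟩ := (D.mem_range _).mp h
  refine ⟨d, D.inj ?_, hd⟩
  rw [map_mul, map_mul, hd]
  calc D.s * D.s * D.φ Xh = D.s * (D.s * D.φ Xh * D.s⁻¹) * D.s⁻¹ * (D.s * D.s) := by group
    _ = _ := by rw [D.s_x, D.s_z]

theorem sq_maps {d x y y' : HS} (hd : D.φ d = D.s * D.s) (h : D.Maps x y) (h' : D.Maps y y') :
    d * x = y' * d := by
  refine D.inj ?_
  rw [map_mul, map_mul, hd, ← h', ← h]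
  group

theorem sq_fixed {d : HS} (hd : D.φ d = D.s * D.s) : D.Maps d d := by
  rw [Maps, hd]; group

end Swap

/-- The test of an inner square at a leaf. -/
noncomputable def sqTest (p : List ℕ) (W : List (List ℕ)) (c : ℕ) : Bool :=
  (List.range 4).all fun i => Nat.beq (mulF c (gsC.getD i oneCode)) (mulF (evC (tgtC p) (W.getD i [])) c)

/-- The check of a dead leaf. -/
noncomputable def deadOK (q : ℕ) : Bool :=
  let p := sigLvl4.getD q []
  let W := leafWords.getD q []
  Nat.beq p.length 4 &&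
    ((List.range 4).all fun i => letters6 (W.getD i []) && Nat.beq (evC srcC (W.getD i [])) (p.getD i oneCode)) &&
    d1L.all fun n => force (codeN n) fun c => !sqTest p W c

theorem dead_ok : sigDead.all deadOK = true := by decide +kernel

theorem sqTest_of {D : Swap G} {p : List ℕ} (hp : D.Pref p) (hlen : p.length = 4) {W : List (List ℕ)}
    (hW : ∀ i < 4, letters6 (W.getD i []) = true ∧ evC srcC (W.getD i []) = p.getD i oneCode)
    {d : HS} {c : ℕ} (hc : HasCode d c) (hd : D.φ d = D.s * D.s) : sqTest p W c = true := by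
  simp only [sqTest, List.all_eq_true, List.mem_range]
  intro i hi
  obtain ⟨hl, he⟩ := hW i hi
  obtain ⟨y, hy, hyc⟩ := hp i (hlen.symm ▸ hi)
  obtain ⟨y', hy', hyc'⟩ := Swap.maps_word6 hp hlen hl
  have hw : HasCode ((W.getD i []).map srcEl).prod (evC srcC (W.getD i [])) :=
    hasCode_evC _ fun j _ => hasCode_srcEl j
  rw [he] at hw
  rw [hw.unique hyc] at hy'
  have hs : HasCode (srcEl i) (gsC.getD i oneCode) := by
    have := hasCode_srcEl i
    rwa [srcC, envC, if_pos hi] at this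
  exact Nat.beq_eq.mpr (((hc.mul hs).eq_iff (hyc'.mul hc)).mp (Swap.sq_maps hd hy hy'))

theorem not_dead {D : Swap G} {q : ℕ} (hq : q ∈ sigDead) (hp : D.Pref (sigLvl4.getD q [])) : False := by
  have h := List.all_eq_true.mp dead_ok q hq
  simp only [deadOK, Bool.and_eq_true, List.all_eq_true, List.mem_range, Nat.beq_eq] at h
  obtain ⟨⟨hlen, hW⟩, hall⟩ := h
  obtain ⟨d, hdx, hd⟩ := D.exists_sq
  obtain ⟨c, hc, hf⟩ := enum_D1.all (f := fun c => !sqTest (sigLvl4.getD q []) (leafWords.getD q []) c)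
    (List.all_eq_true.mpr fun n hn => by simpa [force_eq] using hall n hn) hdx
  rw [Bool.not_eq_true'] at hf
  rw [sqTest_of hp hlen hW hc hd] at hf
  exact Bool.noConfusion hf

/-- The check of a surviving leaf. -/
noncomputable def keepOK (k : ℕ) : Bool :=
  let e := sigKeep.getD k (0, 0, 0, [])
  let p := sigLvl4.getD e.1 []
  let f := sigImg.getD k []
  let W := imgWords.getD k []
  force (codeN e.2.1) fun a => force (codeN e.2.2.1) fun c =>
    Nat.beq p.length 4 && Nat.beq f.length 4 &&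
    Nat.beq (mulF a xC) (mulF xC a) && Nat.beq (mulF c xC) (mulF xC c) &&
    ((List.range 4).all fun i => letters6 (e.2.2.2.getD i []) &&
      Nat.beq (mulF c (gsC.getD i oneCode)) (mulF (evC srcC (e.2.2.2.getD i [])) c) &&
      Nat.blt (f.getD i oneCode) (2 ^ 25) &&
      Nat.beq (mulF a (evC (tgtC p) (e.2.2.2.getD i []))) (mulF (f.getD i oneCode) a)) &&
    ((List.range 4).all fun i => letters6 (W.getD i []) && Nat.beq (evC srcC (W.getD i [])) (f.getD i oneCode) &&
      Nat.beq (evC (tgtC f) (W.getD i [])) (gsC.getD i oneCode)) &&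
    d1L.all fun n => force (codeN n) fun d => !sqTest f W d ||
      (Nat.beq d oneCode || Nat.beq d sCode || Nat.beq d xC || Nat.beq d (mulF sCode xC))

theorem keep_ok : ((List.range 4).all keepOK) = true := by decide +kernel

theorem leaves_ok : ((List.range sigLvl4.length).all fun q =>
    sigDead.contains q || (List.range 4).any fun k => Nat.beq (sigKeep.getD k (0, 0, 0, [])).1 q) = true := by
  decide +kernel

theorem hasCode_of_conj {a y : HS} {ca cy d : ℕ} (ha : HasCode a ca) (hy : HasCode y cy) (hd : d < 2 ^ 25)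
    (h : mulF ca cy = mulF d ca) : HasCode (a * y * a⁻¹) d := by
  refine ⟨?_, hd⟩
  have h3 := congrArg mat h
  rw [← mat_mulF, ← mat_mulF, ← ha.1, ← hy.1] at h3
  rw [mx_mul, mx_mul, h3, Matrix.mul_assoc, ← mx_mul, mul_inv_cancel, mx_one,
    show mat oneCode = 1 from mat_one, Matrix.mul_one]

/-- The exchanging element may be taken to be an involution inducing one of the four automorphisms. -/
theorem exists_normal (D : Swap G) :
    ∃ (D' : Swap G) (k : ℕ), k < 4 ∧ D'.Pref (sigImg.getD k []) ∧ D'.toEmb = D.toEmb ∧ D'.s * D'.s = 1 := by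
  obtain ⟨D1, n, hn, h1, hemb⟩ : ∃ D' : Swap G, ∃ n < (sigLvl 4).length,
      D'.Pref ((sigLvl 4).getD n []) ∧ D'.toEmb = D.toEmb := by
    obtain ⟨D1, n1, l1, p1, e1⟩ := lvl_step (i := 0) (by norm_num) D
      ⟨0, show 0 < sigLvl0.length from Nat.zero_lt_one, fun i hi => absurd hi (Nat.not_lt_zero i)⟩
    obtain ⟨D2, n2, l2, p2, e2⟩ := lvl_step (i := 1) (by norm_num) D1 ⟨n1, l1, p1⟩
    obtain ⟨D3, n3, l3, p3, e3⟩ := lvl_step (i := 2) (by norm_num) D2 ⟨n2, l2, p2⟩
    obtain ⟨D4, n4, l4, p4, e4⟩ := lvl_step (i := 3) (by norm_num) D3 ⟨n3, l3, p3⟩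
    exact ⟨D4, n4, l4, p4, e4.trans (e3.trans (e2.trans e1))⟩
  have hl := List.all_eq_true.mp leaves_ok n (List.mem_range.mpr hn)
  simp only [Bool.or_eq_true, List.contains_iff_mem, List.any_eq_true, List.mem_range, Nat.beq_eq] at hl
  rcases hl with hq | ⟨k, hk, hkn⟩
  · exact (not_dead hq h1).elim
  have h := List.all_eq_true.mp keep_ok k (List.mem_range.mpr hk)
  simp only [keepOK, force_eq, Bool.and_eq_true, List.all_eq_true, List.mem_range, Nat.beq_eq, hkn, blt_iff] at h
  set e := sigKeep.getD k (0, 0, 0, [])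
  set p := sigLvl4.getD n []
  set f := sigImg.getD k []
  obtain ⟨⟨⟨⟨⟨⟨hplen, hflen⟩, hax⟩, hcx⟩, hc1⟩, hc2⟩, hc3⟩ := h
  have ha := hasCode_eltN e.2.1
  have hc := hasCode_eltN e.2.2.1
  have hax' : eltN e.2.1 * Xh = Xh * eltN e.2.1 := ((ha.mul hasCode_Xh).eq_iff (hasCode_Xh.mul ha)).mpr hax
  have hcx' : eltN e.2.2.1 * Xh = Xh * eltN e.2.2.1 := ((hc.mul hasCode_Xh).eq_iff (hasCode_Xh.mul hc)).mpr hcx
  set D2 := D1.adjust hax' hcx'
  have hsrc : ∀ i < 4, HasCode (srcEl i) (gsC.getD i oneCode) := fun i hi => by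
    have := hasCode_srcEl i
    rwa [srcC, envC, if_pos hi] at this
  have h2 : D2.Pref f := by
    intro i hi
    rw [hflen] at hi
    obtain ⟨⟨⟨hl6, hcg⟩, hflt⟩, hay⟩ := hc1 i hi
    obtain ⟨y, hy, hyc⟩ := Swap.maps_word6 h1 hplen hl6
    have hw : HasCode ((e.2.2.2.getD i []).map srcEl).prod (evC srcC (e.2.2.2.getD i [])) :=
      hasCode_evC _ fun j _ => hasCode_srcEl j
    have hconj : eltN e.2.2.1 * srcEl i * (eltN e.2.2.1)⁻¹ = ((e.2.2.2.getD i []).map srcEl).prod := by
      rw [mul_inv_eq_iff_eq_mul]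
      exact ((hc.mul (hsrc i hi)).eq_iff (hw.mul hc)).mpr hcg
    rw [← hconj] at hy
    exact ⟨_, Swap.adjust_maps hax' hcx' hy, hasCode_of_conj ha hyc hflt hay⟩
  obtain ⟨d, hdx, hd⟩ := D2.exists_sq
  obtain ⟨c, hdc, hcd⟩ := enum_D1.all
    (f := fun c => !sqTest f (imgWords.getD k []) c ||
      (Nat.beq c oneCode || Nat.beq c sCode || Nat.beq c xC || Nat.beq c (mulF sCode xC)))
    (List.all_eq_true.mpr fun m hm => by
      simp only [Bool.or_eq_true, Nat.beq_eq]; simpa only [Bool.or_eq_true, Nat.beq_eq] using hc3 m hm) hdx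
  rw [sqTest_of h2 hflen (fun i hi => ⟨(hc2 i hi).1.1, (hc2 i hi).1.2⟩) hdc hd] at hcd
  simp only [Bool.not_true, Bool.false_or, Bool.or_eq_true, Nat.beq_eq] at hcd
  have hfix := Swap.sq_fixed hd
  rcases hcd with ((h' | h') | h') | h'
  · refine ⟨D2, k, hk, h2, hemb, ?_⟩
    rw [← hd, (hdc.eq_iff HasCode.one).mpr h', map_one]
  · rw [(hdc.eq_iff Zh_code).mpr h'] at hfix
    have := hfix.unique D2.maps_Zh
    exact absurd (Zh_code.eq (this ▸ hasCode_Xh)) (by decide)
  · rw [(hdc.eq_iff hasCode_Xh).mpr h'] at hfix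
    have := hfix.unique D2.maps_Xh
    exact absurd (Zh_code.eq (this ▸ hasCode_Xh)) (by decide)
  · have hd' : d = Zh * Xh := (hdc.eq_iff (Zh_code.mul hasCode_Xh)).mpr h'
    refine ⟨D2.adjust (a := 1) (c := Zh) (by group) (Zh_comm Xh).symm, k, hk, ?_, hemb, ?_⟩
    · intro i hi
      obtain ⟨y, hy, hyc⟩ := h2 i hi
      refine ⟨y, ?_, hyc⟩
      have := Swap.adjust_maps (D := D2) (a := 1) (c := Zh) (by group) (Zh_comm Xh).symm (x := srcEl i) (y := y)
        (by rwa [← Zh_comm, mul_inv_cancel_right])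
      simpa using this
    · show D2.φ 1 * D2.s * D2.φ Zh * (D2.φ 1 * D2.s * D2.φ Zh) = 1
      rw [map_one, one_mul, D2.map_Zh]
      calc D2.s * D2.z * (D2.s * D2.z) = (D2.s * D2.z * D2.s⁻¹) * (D2.s * D2.s) * D2.z := by group
        _ = 1 := by
          rw [D2.s_z, ← hd, hd', map_mul, D2.map_Zh, ← mul_assoc, D2.comm_z, mul_assoc D2.z, ← map_mul,
            show Xh * Xh = 1 from wEl_append xW xW ▸ wEl_one (w := xW ++ xW) (by decide +kernel), map_one, mul_one,
            D2.z_sq]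

end CfsgLib.HeldRecog
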