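/-
Words in a normaliser and the exchanging element acting on an elementary abelian subgroup.
-/
import Cfsg.Agent.Lib.HeldRecog.Normal
import Cfsg.Agent.Lib.HeldRecog.LocalData

set_option autoImplicit false
set_option maxRecDepth 100000

namespace CfsgLib.HeldRecog

open CfsgLib.CosetEnum CfsgLib.HeCent

/-- An exchanging involution inducing a given normal automorphism. -/
structure Ctx (G : Type*) [Group G] (k : ℕ) extends Swap G where
  sq : s * s = 1
  pref : Swap.Pref toSwap (sigImg.getD k [])

variable {G : Type*} [Group G] {k : ℕ}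

namespace Ctx

variable (D : Ctx G k)

/-- The five letters: four generators of the centraliser and the exchanging element. -/
noncomputable def τ (i : ℕ) : G := if i < 4 then D.φ (gen i) else if i = 4 then D.s else 1

theorem τ_sq (i : ℕ) : D.τ i * D.τ i = 1 := by
  unfold τ
  split_ifs
  · rw [← map_mul, gen_sq, map_one]
  · exact D.sq
  · exact one_mul 1

/-- The element of a word. -/
noncomputable def ev (w : List ℕ) : G := (w.map D.τ).prod

theorem ev_of_lt : ∀ {w : List ℕ}, (∀ i ∈ w, i < 4) → D.ev w = D.φ (wEl w)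
  | [], _ => by simp [ev, wEl]
  | i :: w, h => by
    rw [ev, List.map_cons, List.prod_cons, τ, if_pos (h i List.mem_cons_self),
      show wEl (i :: w) = gen i * wEl w by simp [wEl], map_mul]
    exact congrArg _ (ev_of_lt fun j hj => h j (List.mem_cons_of_mem _ hj))

/-- The letters of the local subgroup. -/
noncomputable def μ (i : ℕ) : G := if i < 4 then D.φ (wEl (vW.getD i [])) else if i = 4 then D.s else 1

/-- The element of a local word. -/
noncomputable def evM (w : List ℕ) : G := (w.map D.μ).prod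

theorem evM_append (v w : List ℕ) : D.evM (v ++ w) = D.evM v * D.evM w := by
  simp [evM, List.map_append, List.prod_append]

theorem μ_s : D.μ 4 = D.s := by rw [μ, if_neg (by norm_num), if_pos rfl]

end Ctx

theorem vW_sq : ∀ i < 4, oneW (vW.getD i [] ++ vW.getD i []) = true := by decide +kernel

namespace Ctx

variable (D : Ctx G k)

theorem μ_sq (i : ℕ) : D.μ i * D.μ i = 1 := by
  unfold μ
  split_ifs with h4
  · rw [← map_mul, ← wEl_append, wEl_one (vW_sq i h4), map_one]
  · exact D.sq
  · exact one_mul 1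

theorem evM_reverse : ∀ w : List ℕ, D.evM w.reverse = (D.evM w)⁻¹
  | [] => by simp [evM]
  | i :: w => by
    rw [List.reverse_cons, evM_append, evM_reverse w, show D.evM (i :: w) = D.μ i * D.evM w by simp [evM],
      show D.evM [i] = D.μ i by simp [evM], mul_inv_rev, inv_eq_of_mul_eq_one_right (D.μ_sq i)]

end Ctx

/-- A word in the generators of the normaliser, rewritten in the generators of the centraliser. -/
def vSub (w : List ℕ) : List ℕ := w.flatMap fun i => vW.getD i []

theorem evM_vSub (D : Ctx G k) : ∀ w : List ℕ, (∀ i ∈ w, i < 4) → D.evM w = D.φ (wEl (vSub w))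
  | [], _ => by simp [Ctx.evM, vSub, wEl]
  | i :: w, h => by
    rw [show D.evM (i :: w) = D.μ i * D.evM w by simp [Ctx.evM], evM_vSub D w fun j hj => h j (List.mem_cons_of_mem _ hj),
      Ctx.μ, if_pos (h i List.mem_cons_self), ← map_mul, ← wEl_append]
    rfl

/-- Removal of repeated adjacent letters. -/
def reduW : List ℕ → List ℕ
  | [] => []
  | i :: w => match reduW w with
    | [] => [i]
    | j :: u => if i = j then u else i :: j :: u

/-- The elements of the elementary subgroup. -/
noncomputable def el0 (e : ℕ) : HS := wEl (vSub (elW.getD e []))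

/-- The checks of the elementary subgroup. -/
noncomputable def elOK : Bool :=
  Nat.beq elC.length 64 && Nat.beq elW.length 64 &&
    (List.range 64).all fun e => (elW.getD e []).all (fun i => Nat.blt i 4) &&
      Nat.beq (wCode (vSub (elW.getD e []))) (elC.getD e 0) && letters6 (elE.getD e []) &&
      Nat.beq (evC srcC (elE.getD e [])) (elC.getD e 0) && Nat.beq (mulF (elC.getD e 0) xC) (mulF xC (elC.getD e 0)) &&
      Nat.beq (evC (tgtC (sigImg.getD 0 [])) (elE.getD e [])) (elC.getD ((pgT.getD 4 []).getD e 0) 0) &&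
      ((List.range 5).all fun i => Nat.blt ((pgT.getD i []).getD e 0) 64) &&
      (List.range 4).all fun i => force (wCode (vW.getD i [])) fun v =>
        Nat.beq (mulF v (elC.getD e 0)) (mulF (elC.getD ((pgT.getD i []).getD e 0) 0) v)

theorem el_ok : elOK = true := by decide +kernel

theorem el_zero : Nat.beq (elC.getD 0 0) oneCode = true := by decide +kernel

theorem hasCode_el0 {e : ℕ} (he : e < 64) : HasCode (el0 e) (elC.getD e 0) := by
  have h := el_ok
  simp only [elOK, Bool.and_eq_true, List.all_eq_true, List.mem_range] at h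
  rw [← Nat.eq_of_beq_eq_true (h.2 e he).1.1.1.1.1.1.2]
  exact hasCode_wEl _

theorem el0_zero : el0 0 = 1 :=
  ((hasCode_el0 (by norm_num)).eq_iff HasCode.one).mpr (Nat.eq_of_beq_eq_true el_zero)

theorem pg_lt {i : ℕ} (hi : i < 5) {e : ℕ} (he : e < 64) : (pgT.getD i []).getD e 0 < 64 := by
  have h := el_ok
  simp only [elOK, Bool.and_eq_true, List.all_eq_true, List.mem_range, blt_iff] at h
  exact (h.2 e he).1.2 i hi

/-- The action of a word on the indices of the elementary subgroup. -/
noncomputable def permW (w : List ℕ) (e : ℕ) : ℕ :=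
  List.rec e (fun i _ ih => force ih fun r => (pgT.getD i []).getD r 0) w

theorem permW_cons (i : ℕ) (w : List ℕ) (e : ℕ) : permW (i :: w) e = (pgT.getD i []).getD (permW w e) 0 := by
  show force (permW w e) (fun r => (pgT.getD i []).getD r 0) = _
  rw [force_eq]

theorem act_word (D : Ctx G 0) : ∀ w : List ℕ, (∀ i ∈ w, i < 5) → ∀ e < 64,
    permW w e < 64 ∧ D.evM w * D.φ (el0 e) * (D.evM w)⁻¹ = D.φ (el0 (permW w e))
  | [], _, e, he => ⟨he, by simp [Ctx.evM]; rfl⟩
  | i :: w, h, e, he => by
    obtain ⟨hlt, ih⟩ := act_word D w (fun j hj => h j (List.mem_cons_of_mem _ hj)) e he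
    have hi := h i List.mem_cons_self
    rw [permW_cons]
    refine ⟨pg_lt hi hlt, ?_⟩
    rw [show D.evM (i :: w) = D.μ i * D.evM w by simp [Ctx.evM], mul_inv_rev]
    calc D.μ i * D.evM w * D.φ (el0 e) * ((D.evM w)⁻¹ * (D.μ i)⁻¹) =
        D.μ i * (D.evM w * D.φ (el0 e) * (D.evM w)⁻¹) * (D.μ i)⁻¹ := by group
      _ = D.μ i * D.φ (el0 (permW w e)) * (D.μ i)⁻¹ := by rw [ih]
      _ = _ := by
        have hh := el_ok
        simp only [elOK, force_eq, Bool.and_eq_true, List.all_eq_true, List.mem_range, Nat.beq_eq] at hh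
        obtain ⟨⟨⟨⟨⟨⟨⟨-, -⟩, h6⟩, hsrc⟩, -⟩, htgt⟩, -⟩, hv⟩ := hh.2 _ hlt
        generalize permW w e = a at hlt h6 hsrc htgt hv ⊢
        have hb := pg_lt hi hlt
        by_cases h4 : i < 4
        · rw [Ctx.μ, if_pos h4, ← map_inv, ← map_mul, ← map_mul]
          refine congrArg _ ?_
          rw [mul_inv_eq_iff_eq_mul]
          exact (((hasCode_wEl _).mul (hasCode_el0 hlt)).eq_iff ((hasCode_el0 hb).mul (hasCode_wEl _))).mpr (hv i h4)
        · obtain rfl : i = 4 := by omega
          rw [D.μ_s]
          obtain ⟨y, hy, hyc⟩ := Swap.maps_word6 D.pref rfl h6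
          have hw : HasCode ((elE.getD a []).map srcEl).prod (evC srcC (elE.getD a [])) :=
            hasCode_evC _ fun j _ => hasCode_srcEl j
          rw [hw.unique (hsrc ▸ hasCode_el0 hlt)] at hy
          rw [hyc.unique (htgt ▸ hasCode_el0 hb)] at hy
          exact hy

/-- Elements of the common centraliser centralising the elementary subgroup belong to it. -/
noncomputable def selfCentOK : Bool :=
  d1L.all fun n => force (codeN n) fun c =>
    !(elC.all fun d => Nat.beq (mulF c d) (mulF d c)) || elC.contains c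

theorem selfCent_ok : selfCentOK = true := by decide +kernel

theorem zx_mem : elC.contains sCode = true ∧ elC.contains xC = true := by decide +kernel

theorem exists_el0 {c : ℕ} (h : elC.contains c = true) {x : HS} (hx : HasCode x c) : ∃ e < 64, el0 e = x := by
  rw [List.contains_iff_mem] at h
  obtain ⟨e, he, rfl⟩ := List.getElem_of_mem h
  have hh := el_ok
  simp only [elOK, Bool.and_eq_true, Nat.beq_eq] at hh
  have he' : e < 64 := hh.1.1 ▸ he
  exact ⟨e, he', (List.getD_eq_getElem _ 0 he ▸ hasCode_el0 he').unique hx⟩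

/-- A word acting trivially on the elementary subgroup lies in it. -/
theorem mem_of_trivial (D : Ctx G 0) {w : List ℕ} (hw : ∀ i ∈ w, i < 5) (hp : ∀ e < 64, permW w e = e) :
    ∃ e < 64, D.evM w = D.φ (el0 e) := by
  have hc : ∀ e < 64, D.evM w * D.φ (el0 e) = D.φ (el0 e) * D.evM w := fun e he => by
    obtain ⟨-, h⟩ := act_word D w hw e he
    rw [hp e he, mul_inv_eq_iff_eq_mul] at h
    exact h
  obtain ⟨ez, hez, hz⟩ := exists_el0 zx_mem.1 Zh_code
  obtain ⟨ex, hex, hx⟩ := exists_el0 zx_mem.2 hasCode_Xh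
  obtain ⟨x, hx'⟩ := (D.mem_range _).mp (show D.evM w * D.z = D.z * D.evM w by
    have := hc ez hez; rwa [hz, D.map_Zh] at this)
  have hcx : ∀ e < 64, x * el0 e = el0 e * x := fun e he => D.inj (by rw [map_mul, map_mul, hx', hc e he])
  obtain ⟨c, hxc, hsc⟩ := enum_D1.all
    (f := fun c => !(elC.all fun d => Nat.beq (mulF c d) (mulF d c)) || elC.contains c)
    (by have := selfCent_ok; simp only [selfCentOK, force_eq] at this; exact this) (hx ▸ hcx ex hex)
  rw [Bool.or_eq_true, Bool.not_eq_true'] at hsc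
  rcases hsc with hsc | hsc
  · exfalso
    rw [List.all_eq_false] at hsc
    obtain ⟨d, hd, hne⟩ := hsc
    obtain ⟨e, he, rfl⟩ := List.getElem_of_mem hd
    have hh := el_ok
    simp only [elOK, Bool.and_eq_true, Nat.beq_eq] at hh
    have he' : e < 64 := hh.1.1 ▸ he
    have hec := hasCode_el0 he'
    rw [List.getD_eq_getElem _ 0 he] at hec
    exact hne (Nat.beq_eq.mpr ((hxc.mul hec).eq (hcx e he' ▸ hec.mul hxc)))
  · obtain ⟨e, he, hex'⟩ := exists_el0 hsc hxc
    exact ⟨e, he, by rw [hex', hx']⟩

/-- The power of a word. -/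
def powW : ℕ → List ℕ → List ℕ
  | 0, _ => []
  | n + 1, w => w ++ powW n w

theorem evM_powW (D : Ctx G k) : ∀ (n : ℕ) (w : List ℕ), D.evM (powW n w) = D.evM w ^ n
  | 0, w => by simp [powW, Ctx.evM]
  | n + 1, w => by rw [powW, D.evM_append, evM_powW D n w, pow_succ']

/-- The check of a branching word. -/
noncomputable def fixOK (u : List ℕ) (n : ℕ) (fx : List ℕ) : Bool :=
  u.all (fun i => Nat.blt i 5) && (List.range 64).all fun e =>
    Nat.beq (permW (powW n u) e) e && (fx.contains e || !Nat.beq (permW u e) e)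

theorem letters_powW {u : List ℕ} (hu : ∀ i ∈ u, i < 5) : ∀ n, ∀ i ∈ powW n u, i < 5
  | 0, _, h => absurd h List.not_mem_nil
  | n + 1, i, h => (List.mem_append.mp h).elim (hu i) (letters_powW hu n i)

theorem el0_inj {a b : ℕ} (ha : a < 64) (hb : b < 64) (h : el0 a = el0 b) : elC.getD a 0 = elC.getD b 0 :=
  (hasCode_el0 ha).eq (h ▸ hasCode_el0 hb)

theorem elC_nodup : ∀ a < 64, ∀ b < 64, elC.getD a 0 = elC.getD b 0 → a = b := by decide +kernel

/-- A power of a word acting trivially is one of the elements fixed by the word. -/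
theorem exists_fix (D : Ctx G 0) {u : List ℕ} {n : ℕ} {fx : List ℕ} (h : fixOK u n fx = true) :
    ∃ e ∈ fx, e < 64 ∧ D.evM u ^ n = D.φ (el0 e) := by
  simp only [fixOK, Bool.and_eq_true, List.all_eq_true, List.mem_range, blt_iff, Nat.beq_eq] at h
  obtain ⟨hu, hall⟩ := h
  obtain ⟨e, he, hpow⟩ := mem_of_trivial D (letters_powW hu n) fun a ha => (hall a ha).1
  rw [evM_powW] at hpow
  refine ⟨e, ?_, he, hpow⟩
  obtain ⟨hlt, hact⟩ := act_word D u hu e he
  rw [← hpow, show D.evM u * D.evM u ^ n * (D.evM u)⁻¹ = D.evM u ^ n by group] at hact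
  rw [hpow] at hact
  have hfix := elC_nodup _ he _ hlt (el0_inj he hlt (D.inj hact))
  rcases Bool.or_eq_true _ _ |>.mp (hall e he).2 with h1 | h1
  · exact List.contains_iff_mem.mp h1
  · rw [Bool.not_eq_true', ← hfix] at h1
    simp at h1

/-- The word has been freely and cyclically reduced to the second one. -/
def crEq (w r : List ℕ) : Bool :=
  (List.range (w.length + 1)).any fun n => reduW ((reduW w).rotate n) == r

theorem evM_reduW (D : Ctx G k) : ∀ w : List ℕ, D.evM (reduW w) = D.evM w
  | [] => rfl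
  | i :: w => by
    have ih := evM_reduW D w
    rw [show D.evM (i :: w) = D.μ i * D.evM w by simp [Ctx.evM], ← ih]
    rw [reduW]
    split
    · next h => simp [h, Ctx.evM]
    · next j u h =>
      split
      · next hij =>
        subst hij
        rw [h, show D.evM (i :: u) = D.μ i * D.evM u by simp [Ctx.evM], ← mul_assoc, D.μ_sq, one_mul]
      · rw [h]; simp [Ctx.evM]

theorem evM_crEq (D : Ctx G k) {w r : List ℕ} (h : crEq w r = true) (h1 : D.evM w = 1) : D.evM r = 1 := by
  simp only [crEq, List.any_eq_true, beq_iff_eq] at h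
  obtain ⟨n, -, rfl⟩ := h
  rw [evM_reduW, Ctx.evM, List.map_rotate]
  exact prod_rotate_eq_one _ _ (show D.evM (reduW w) = 1 by rw [evM_reduW, h1])

end CfsgLib.HeldRecog
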