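/-
The eight cases for two branching words in the local subgroup; six of them are impossible.
-/
import Cfsg.Agent.Lib.HeldRecog.Local
import Cfsg.Agent.Lib.HeldRecog.BranchData
import Cfsg.Agent.Lib.HeldRecog.B0_0.Main
import Cfsg.Agent.Lib.HeldRecog.B0_19.Main
import Cfsg.Agent.Lib.HeldRecog.B28_0.Main
import Cfsg.Agent.Lib.HeldRecog.B28_19.Main
import Cfsg.Agent.Lib.HeldRecog.B39_0.Main
import Cfsg.Agent.Lib.HeldRecog.B39_19.Main
import Cfsg.Agent.Lib.HeldRecog.B59_0.Main
import Cfsg.Agent.Lib.HeldRecog.B59_19.Main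

set_option autoImplicit false
set_option maxRecDepth 100000

namespace CfsgLib.HeldRecog

open CfsgLib.CosetEnum CfsgLib.HeCent

/-- The first branching word with its exponent. -/
def amb0 : List ℕ × ℕ × List ℕ := ambD.getD 0 ([], 0, [])

/-- The second branching word with its exponent. -/
def amb1 : List ℕ × ℕ × List ℕ := ambD.getD 1 ([], 0, [])

/-- The powers of the two branching words have the given values. -/
def InBranch {G : Type*} [Group G] (D : Ctx G 0) (e0 e4 : ℕ) : Prop :=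
  D.evM amb0.1 ^ amb0.2.1 = D.φ (el0 e0) ∧ D.evM amb1.1 ^ amb1.2.1 = D.φ (el0 e4)

/-- The unreduced relator with a given origin. -/
noncomputable def rawRel : ℕ × ℕ × List ℕ × ℕ → List ℕ
  | (0, _, _, _) => []
  | (1, _, w, _) => w
  | (2, q, _, _) => 4 :: ((ndE.getD q ([], [], [])).2.1 ++ 4 :: (ndE.getD q ([], [], [])).2.2.reverse)
  | (_, e, u, n) => powW n u ++ (elW.getD e []).reverse

/-- The origin is valid in a branch. -/
noncomputable def provOK (e0 e4 : ℕ) : ℕ × ℕ × List ℕ × ℕ → Bool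
  | (0, _, _, _) => true
  | (1, _, w, _) => w.all (fun i => Nat.blt i 4) && oneW (vSub w)
  | (2, q, _, _) =>
    letters6 (ndE.getD q ([], [], [])).1 && (ndE.getD q ([], [], [])).2.1.all (fun i => Nat.blt i 4) &&
      (ndE.getD q ([], [], [])).2.2.all (fun i => Nat.blt i 4) &&
      Nat.beq (evC srcC (ndE.getD q ([], [], [])).1) (wCode (vSub (ndE.getD q ([], [], [])).2.1)) &&
      Nat.beq (evC (tgtC (sigImg.getD 0 [])) (ndE.getD q ([], [], [])).1) (wCode (vSub (ndE.getD q ([], [], [])).2.2))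
  | (_, e, u, n) => Nat.blt e 64 && ((Nat.beq e 0 && fixOK u n [0]) ||
      (u == amb0.1 && Nat.beq n amb0.2.1 && Nat.beq e e0) || (u == amb1.1 && Nat.beq n amb1.2.1 && Nat.beq e e4))

/-- The check of the relators of a branch. -/
noncomputable def relsOK (e0 e4 : ℕ) (R : List (List ℕ)) (P : List (ℕ × ℕ × List ℕ × ℕ)) : Bool :=
  Nat.beq P.length R.length && (List.range R.length).all fun i =>
    provOK e0 e4 (P.getD i (0, 0, [], 0)) &&
      match P.getD i (0, 0, [], 0) with
      | (0, _, _, _) => R.getD i [] == [i, i]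
      | p => crEq (rawRel p) (R.getD i [])

section

variable {G : Type*} [Group G] (D : Ctx G 0) {e0 e4 : ℕ}

theorem raw_one (hb : InBranch D e0 e4) : ∀ p, provOK e0 e4 p = true → D.evM (rawRel p) = 1
  | (0, _, _, _), _ => by simp [rawRel, Ctx.evM]
  | (1, _, w, _), h => by
    simp only [provOK, Bool.and_eq_true, List.all_eq_true, blt_iff] at h
    show D.evM w = 1
    rw [evM_vSub D w h.1, wEl_one h.2, map_one]
  | (2, q, _, _), h => by
    simp only [provOK, Bool.and_eq_true, List.all_eq_true, blt_iff, Nat.beq_eq] at h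
    obtain ⟨⟨⟨⟨h6, ha⟩, hb'⟩, hs⟩, ht⟩ := h
    set env := (ndE.getD q ([], [], [])).1
    set a := (ndE.getD q ([], [], [])).2.1
    set b := (ndE.getD q ([], [], [])).2.2
    show D.evM (4 :: (a ++ 4 :: b.reverse)) = 1
    obtain ⟨y, hy, hyc⟩ := Swap.maps_word6 D.pref rfl h6
    have hw : HasCode (env.map srcEl).prod (evC srcC env) := hasCode_evC _ fun j _ => hasCode_srcEl j
    rw [hw.unique (hs ▸ hasCode_wEl (vSub a)), hyc.unique (ht ▸ hasCode_wEl (vSub b))] at hy
    have e : D.evM (4 :: (a ++ 4 :: b.reverse)) = D.s * (D.evM a * (D.s * (D.evM b)⁻¹)) := by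
      rw [show D.evM (4 :: (a ++ 4 :: b.reverse)) = D.μ 4 * D.evM (a ++ 4 :: b.reverse) by simp [Ctx.evM],
        D.evM_append, show D.evM (4 :: b.reverse) = D.μ 4 * D.evM b.reverse by simp [Ctx.evM], D.evM_reverse, D.μ_s]
    rw [e, evM_vSub D a ha, evM_vSub D b hb', ← hy, inv_eq_of_mul_eq_one_right D.sq]
    group
  | (_ + 3, e, u, n), h => by
    simp only [provOK, Bool.and_eq_true, Bool.or_eq_true, blt_iff, Nat.beq_eq, beq_iff_eq] at h
    obtain ⟨he, h⟩ := h
    show D.evM (powW n u ++ (elW.getD e []).reverse) = 1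
    have hel : D.evM (elW.getD e []) = D.φ (el0 e) := by
      refine evM_vSub D _ ?_
      have hh := el_ok
      simp only [elOK, Bool.and_eq_true, List.all_eq_true, List.mem_range, blt_iff] at hh
      exact (hh.2 e he).1.1.1.1.1.1.1
    rw [D.evM_append, D.evM_reverse, evM_powW, hel, mul_inv_eq_one]
    rcases h with (⟨rfl, hf⟩ | ⟨⟨rfl, rfl⟩, rfl⟩) | ⟨⟨rfl, rfl⟩, rfl⟩
    · obtain ⟨a, ha, -, hpow⟩ := exists_fix D hf
      rw [hpow, List.mem_singleton.mp ha]
    · exact hb.1
    · exact hb.2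

theorem rels_one (hb : InBranch D e0 e4) {R : List (List ℕ)} {P : List (ℕ × ℕ × List ℕ × ℕ)}
    (h : relsOK e0 e4 R P = true) : ∀ r ∈ R, D.evM r = 1 := by
  intro r hr
  obtain ⟨i, hi, rfl⟩ := List.getElem_of_mem hr
  simp only [relsOK, Bool.and_eq_true, List.all_eq_true, List.mem_range] at h
  obtain ⟨hp, hm⟩ := h.2 i hi
  rw [List.getD_eq_getElem _ _ hi] at hm
  generalize P.getD i (0, 0, [], 0) = p at hp hm
  match p, hp, hm with
  | (0, _, _, _), _, hm =>
    rw [beq_iff_eq.mp hm]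
    simp [Ctx.evM, D.μ_sq]
  | (n + 1, a, b, c), hp, hm => exact evM_crEq D hm (raw_one D hb _ hp)

end

variable {G : Type} [Group G] (D : Ctx G 0)

theorem evM_run (C : Sheet) (hk : C.D.k = 5) (hrel : ∀ r ∈ C.rels, D.evM r = 1) (w : List ℕ)
    (hw : (w.all fun x => Nat.blt x 5) = true) (h : runT C.T C.D.k w 0 = 0) : D.evM w ∈ wordsSub D.μ C.hw :=
  C.mem_of_run D.μ D.μ_sq (by rw [hk]; simp [Ctx.μ]) hrel w (by rwa [hk]) h

/-- The two first generators of the normaliser generate a group of order six. -/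
def sub2W : List (List ℕ) := [[], [0], [1], [0, 1], [1, 0], [0, 1, 0]]

theorem sub2_closed : ∀ i < 2, ∀ w ∈ sub2W, ∃ w' ∈ sub2W, wCode (vSub w') = wCode (vSub (i :: w)) := by
  decide +kernel

theorem sub2_out : ∀ w ∈ sub2W, wCode (vSub w) ≠ wCode (vSub [3, 0, 3]) := by decide +kernel

theorem sub2W_lt : ∀ w ∈ sub2W, ∀ j ∈ w, j < 4 := by decide

theorem sub2_mul {i : ℕ} (hi : i < 2) {g : G} (h : ∃ w ∈ sub2W, g = D.φ (wEl (vSub w))) :
    ∃ w ∈ sub2W, D.μ i * g = D.φ (wEl (vSub w)) := by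
  obtain ⟨w, hw, rfl⟩ := h
  obtain ⟨w', hw', e⟩ := sub2_closed i hi w hw
  refine ⟨w', hw', ?_⟩
  rw [(hasCode_wEl (vSub w')).unique (e ▸ hasCode_wEl (vSub (i :: w))),
    Ctx.μ, if_pos (by omega), ← map_mul, ← wEl_append]
  rfl

theorem not_mem_sub2 : D.evM [3, 0, 3] ∉ wordsSub D.μ [[0], [1]] := by
  intro h
  have key : ∀ g ∈ wordsSub D.μ [[0], [1]], ∃ w ∈ sub2W, g = D.φ (wEl (vSub w)) := by
    intro g hg
    induction hg using Subgroup.closure_induction_left with
    | one => exact ⟨[], List.mem_cons_self, (map_one D.φ).symm⟩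
    | mul_left x hx y _ ih =>
      obtain ⟨u, hu, rfl⟩ := hx
      rcases List.mem_cons.mp hu with rfl | hu
      · simpa using sub2_mul D (i := 0) (by norm_num) ih
      · rw [List.mem_singleton] at hu
        subst hu
        simpa using sub2_mul D (i := 1) (by norm_num) ih
    | inv_mul_cancel x hx y _ ih =>
      obtain ⟨u, hu, rfl⟩ := hx
      rcases List.mem_cons.mp hu with rfl | hu
      · simpa [inv_eq_of_mul_eq_one_right (D.μ_sq 0)] using sub2_mul D (i := 0) (by norm_num) ih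
      · rw [List.mem_singleton] at hu
        subst hu
        simpa [inv_eq_of_mul_eq_one_right (D.μ_sq 1)] using sub2_mul D (i := 1) (by norm_num) ih
  obtain ⟨w, hw, e⟩ := key _ h
  rw [evM_vSub D [3, 0, 3] (by decide)] at e
  exact sub2_out w hw ((hasCode_wEl (vSub w)).eq (D.inj e ▸ hasCode_wEl (vSub [3, 0, 3])))

theorem rels0_0 : relsOK 0 0 B0_0.rels provB0_0 = true := by decide +kernel
theorem rels0_19 : relsOK 0 19 B0_19.rels provB0_19 = true := by decide +kernel
theorem rels28_0 : relsOK 28 0 B28_0.rels provB28_0 = true := by decide +kernel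
theorem rels28_19 : relsOK 28 19 B28_19.rels provB28_19 = true := by decide +kernel
theorem rels39_0 : relsOK 39 0 B39_0.rels provB39_0 = true := by decide +kernel
theorem rels39_19 : relsOK 39 19 B39_19.rels provB39_19 = true := by decide +kernel
theorem rels59_0 : relsOK 59 0 B59_0.rels provB59_0 = true := by decide +kernel
theorem rels59_19 : relsOK 59 19 B59_19.rels provB59_19 = true := by decide +kernel

theorem amb_ok : fixOK amb0.1 amb0.2.1 amb0.2.2 = true ∧ fixOK amb1.1 amb1.2.1 amb1.2.2 = true ∧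
    amb0.2.2 = [0, 28, 39, 59] ∧ amb1.2.2 = [0, 19] := by decide +kernel

theorem dead_branch {e0 e4 : ℕ} (hb : InBranch D e0 e4) (C : Sheet) (hk : C.D.k = 5) (hw : C.hw = [[0], [1]])
    {P : List (ℕ × ℕ × List ℕ × ℕ)} (hr : relsOK e0 e4 C.rels P = true) (h : runT C.T C.D.k [3, 0, 3] 0 = 0) :
    False :=
  not_mem_sub2 D (hw ▸ evM_run D C hk (rels_one D hb hr) [3, 0, 3] (by decide) h)

/-- Only two branches are possible. -/
theorem branch_cases : InBranch D 59 19 ∨ InBranch D 59 0 := by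
  obtain ⟨a0, a1, h0, h1⟩ := amb_ok
  obtain ⟨e0, he0, -, p0⟩ := exists_fix D a0
  obtain ⟨e4, he4, -, p1⟩ := exists_fix D a1
  have hb : InBranch D e0 e4 := ⟨p0, p1⟩
  rw [h0] at he0
  rw [h1] at he4
  fin_cases he0 <;> fin_cases he4
  · exact (dead_branch D hb B0_0.sheet rfl rfl rels0_0 (by decide +kernel)).elim
  · exact (dead_branch D hb B0_19.sheet rfl rfl rels0_19 (by decide +kernel)).elim
  · exact (dead_branch D hb B28_0.sheet rfl rfl rels28_0 (by decide +kernel)).elim
  · exact (dead_branch D hb B28_19.sheet rfl rfl rels28_19 (by decide +kernel)).elim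
  · exact (dead_branch D hb B39_0.sheet rfl rfl rels39_0 (by decide +kernel)).elim
  · exact (dead_branch D hb B39_19.sheet rfl rfl rels39_19 (by decide +kernel)).elim
  · exact Or.inr hb
  · exact Or.inl hb

end CfsgLib.HeldRecog
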