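/-
Data for the enumeration leading to the Held group.
-/
import Mathlib.Data.Nat.Notation
import Mathlib.Data.List.Basic

set_option autoImplicit false
set_option maxRecDepth 100000

namespace CfsgLib.HeldRecog

/-- Origins of the relators. -/
def heProv : List (ℕ × List ℕ × List ℕ × List (List ℕ × List ℕ)) := [(0, [], [], []),
  (0, [], [], []),
  (0, [], [], []),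
  (0, [], [], []),
  (0, [], [], []),
  (1, [1, 2, 1, 2], [], []),
  (1, [2, 3, 2, 3], [], []),
  (1, [2, 3, 1, 2, 1, 3], [], []),
  (1, [0, 3, 0, 3, 0, 3, 0, 3], [], []),
  (1, [2, 3, 1, 3, 2, 3, 1, 3], [], []),
  (1, [1, 2, 3, 1, 3, 1, 3, 1, 3, 2], [], []),
  (1, [0, 1, 3, 1, 0, 1, 3, 1, 0, 1, 3, 1], [], []),
  (1, [0, 2, 0, 2, 0, 3, 0, 2, 0, 2, 0, 3], [], []),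
  (1, [0, 1, 0, 2, 3, 1, 3, 0, 1, 0, 3, 1, 3, 2], [], []),
  (3, [], [], [([1, 2, 0, 3, 1, 0, 3], [1, 3, 2, 0, 3, 1, 3]), ([3, 0, 1, 3, 0, 1, 2], [3, 1, 3, 0, 2, 3, 1])]),
  (3, [], [], [([2, 1, 0, 3, 1, 0, 3], [1, 3, 2, 0, 3, 1, 3]), ([3, 0, 1, 3, 0, 1, 2], [3, 1, 3, 0, 2, 3, 1])]),
  (3, [], [], [([1, 2, 0, 3, 1, 0, 3], [1, 3, 2, 0, 3, 1, 3]), ([3, 0, 1, 3, 0, 2, 1], [3, 1, 3, 0, 2, 3, 1])]),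
  (3, [], [], [([1, 2, 3, 1, 0, 3], [0, 1, 2, 0, 3, 1, 2, 0, 3, 1]), ([3, 1, 3, 0, 1, 2, 3, 0, 3], [3, 1, 0, 2, 3, 1])]),
  (3, [], [], [([2, 1, 3, 1, 0, 3], [0, 1, 2, 0, 3, 1, 2, 0, 3, 1]), ([3, 1, 3, 0, 1, 2, 3, 0, 3], [3, 1, 0, 2, 3, 1])]),
  (3, [], [], [([3, 0, 3, 1, 2, 0, 3, 1, 3], [1, 3, 2, 0, 1, 3]), ([3, 0, 1, 3, 1, 2], [0, 1, 3, 2, 0, 1, 2, 0, 3, 1])]),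
  (3, [], [], [([3, 0, 3, 1, 2, 0, 3, 1, 3], [1, 3, 2, 0, 1, 3]), ([3, 0, 1, 3, 2, 1], [0, 1, 3, 2, 0, 1, 2, 0, 3, 1])]),
  (1, [2, 3, 1, 0, 3, 0, 1, 2, 3, 2, 1, 0, 2, 0, 3, 2, 0, 1], [], []),
  (3, [], [], [([0, 3, 0, 1, 3, 0, 3, 0, 3], [0, 2, 3, 1, 3, 2, 0]), ([0, 3, 0, 1, 0, 3, 0], [0, 2, 3, 1, 3, 2, 0])]),
  (3, [], [], [([1, 2, 3, 1, 3], [0, 1, 0, 3, 2, 3, 0, 1, 2, 0]), ([2, 1, 3, 1, 3], [0, 1, 0, 3, 2, 3, 0, 1, 2, 0]), ([1, 2, 3, 1, 3], [0, 1, 0, 3, 2, 3, 0, 1, 2, 0])]),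
  (3, [], [], [([1, 2, 3, 1, 3], [0, 1, 0, 3, 2, 3, 0, 1, 2, 0]), ([3, 1, 3, 2, 1], [0, 1, 0, 3, 2, 3, 0, 1, 2, 0]), ([1, 2, 3, 1, 3], [0, 1, 0, 3, 2, 3, 0, 1, 2, 0])]),
  (3, [], [], [([2, 1, 3, 1, 3], [0, 1, 0, 3, 2, 3, 0, 1, 2, 0]), ([2, 1, 3, 1, 3], [0, 1, 0, 3, 2, 3, 0, 1, 2, 0]), ([1, 2, 3, 1, 3], [0, 1, 0, 3, 2, 3, 0, 1, 2, 0])]),
  (3, [], [], [([2, 1, 3, 1, 3], [0, 1, 0, 3, 2, 3, 0, 1, 2, 0]), ([3, 1, 3, 2, 1], [0, 1, 0, 3, 2, 3, 0, 1, 2, 0]), ([1, 2, 3, 1, 3], [0, 1, 0, 3, 2, 3, 0, 1, 2, 0])]),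
  (3, [], [], [([3, 1, 3, 2, 1], [0, 1, 0, 3, 2, 3, 0, 1, 2, 0]), ([2, 1, 3, 1, 3], [0, 1, 0, 3, 2, 3, 0, 1, 2, 0]), ([1, 2, 3, 1, 3], [0, 1, 0, 3, 2, 3, 0, 1, 2, 0])]),
  (1, [2, 0, 1, 3, 0, 3, 1, 3, 0, 2, 0, 2, 1, 0, 1, 3, 2, 0, 3], [], []),
  (3, [], [], [([2, 1, 3, 1, 0, 3], [0, 1, 2, 0, 3, 1, 2, 0, 3, 1]), ([3, 1, 3, 0, 1, 2, 0, 3, 0, 3, 0], [3, 1, 0, 2, 3, 1])]),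
  (3, [], [], [([3, 0, 1, 3, 1, 2], [0, 1, 3, 2, 0, 1, 2, 0, 3, 1]), ([0, 3, 0, 3, 0, 1, 2, 0, 3, 1, 3], [1, 3, 2, 0, 1, 3])]),
  (3, [], [], [([3, 0, 1, 3, 2, 1], [0, 1, 3, 2, 0, 1, 2, 0, 3, 1]), ([0, 3, 0, 3, 0, 1, 2, 0, 3, 1, 3], [1, 3, 2, 0, 1, 3])]),
  (3, [], [], [([3, 1, 3, 1, 2, 3, 0, 3], [0, 1, 2, 0, 3, 1, 2, 0, 3, 1]), ([3, 1, 3, 0, 1, 2, 3, 0, 3], [3, 1, 0, 2, 3, 1])]),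
  (3, [], [], [([3, 1, 3, 2, 1, 3, 0, 3], [0, 1, 2, 0, 3, 1, 2, 0, 3, 1]), ([3, 1, 3, 0, 1, 2, 3, 0, 3], [3, 1, 0, 2, 3, 1])]),
  (3, [], [], [([1, 2, 0], [3, 1, 2, 0]), ([1, 2], [0, 2, 3, 0, 1, 0, 3, 2, 0]), ([3, 0, 3, 0], [1, 0, 2, 0, 1, 3, 2, 3, 0, 2]), ([2, 1], [0, 2, 3, 0, 1, 0, 3, 2, 0]), ([0, 1, 2], [0, 1, 2, 3])]),
  (3, [], [], [([1, 2, 0], [3, 1, 2, 0]), ([2, 1], [0, 2, 3, 0, 1, 0, 3, 2, 0]), ([3, 0, 3, 0], [1, 0, 2, 0, 1, 3, 2, 3, 0, 2]), ([1, 2], [0, 2, 3, 0, 1, 0, 3, 2, 0]), ([0, 1, 2], [0, 1, 2, 3])]),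
  (3, [], [], [([1, 2, 0], [3, 1, 2, 0]), ([2, 1], [0, 2, 3, 0, 1, 0, 3, 2, 0]), ([3, 0, 3, 0], [1, 0, 2, 0, 1, 3, 2, 3, 0, 2]), ([2, 1], [0, 2, 3, 0, 1, 0, 3, 2, 0]), ([0, 1, 2], [0, 1, 2, 3])]),
  (3, [], [], [([2, 1, 0], [3, 1, 2, 0]), ([2, 1], [0, 2, 3, 0, 1, 0, 3, 2, 0]), ([0, 3, 0, 3], [1, 0, 2, 0, 1, 3, 2, 3, 0, 2]), ([1, 2], [0, 2, 3, 0, 1, 0, 3, 2, 0]), ([0, 1, 2], [0, 1, 2, 3])]),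
  (3, [], [], [([3, 1, 3, 1, 2, 3, 0, 3], [0, 1, 2, 0, 3, 1, 2, 0, 3, 1]), ([3, 1, 3, 0, 2, 1, 3, 0, 3], [3, 1, 0, 2, 3, 1])]),
  (3, [], [], [([3, 1, 3, 2, 1, 3, 0, 3], [0, 1, 2, 0, 3, 1, 2, 0, 3, 1]), ([3, 1, 3, 0, 2, 1, 3, 0, 3], [3, 1, 0, 2, 3, 1])]),
  (3, [], [], [([1, 2, 0], [3, 1, 2, 0]), ([1, 2], [0, 2, 3, 0, 1, 0, 3, 2, 0]), ([0, 3, 0, 3], [1, 0, 2, 0, 1, 3, 2, 3, 0, 2]), ([2, 1], [0, 2, 3, 0, 1, 0, 3, 2, 0]), ([0, 2, 1], [0, 1, 2, 3])]),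
  (1, [1, 3, 1, 0, 3, 1, 0, 1, 0, 1, 2, 0, 2, 1, 0, 1, 0, 1, 3, 0], [], []),
  (3, [], [], [([1, 2, 0, 3, 1, 0, 3], [1, 3, 2, 0, 3, 1, 3]), ([3, 0, 1, 0, 3, 0, 3, 0, 3, 1, 2], [3, 1, 3, 0, 2, 3, 1])]),
  (3, [], [], [([0, 2, 1, 3, 0, 1, 0, 3, 1, 2, 0], [0, 2, 3, 1, 3, 2, 0]), ([0, 3, 0, 1, 0, 3, 0], [0, 2, 3, 1, 3, 2, 0])]),
  (3, [], [], [([3, 0, 3, 0, 3, 1, 3, 0, 3, 0, 3], [0, 2, 3, 1, 3, 2, 0]), ([0, 3, 0, 1, 0, 3, 0], [0, 2, 3, 1, 3, 2, 0])]),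
  (3, [], [], [([0], [1, 0, 2, 0, 1, 3, 2, 3, 0, 3, 2]), ([1, 2, 3, 0, 1, 0, 3], [0, 1, 2, 0, 1, 3, 2, 0, 1, 3]), ([0], [1, 0, 2, 0, 1, 3, 2, 3, 0, 3, 2]), ([3, 0, 1, 0, 3, 1, 2], [0, 1, 2, 0, 1, 3, 2, 0, 1, 3])]),
  (3, [], [], [([0], [1, 0, 2, 0, 1, 3, 2, 3, 0, 3, 2]), ([2, 1, 3, 0, 1, 0, 3], [0, 1, 2, 0, 1, 3, 2, 0, 1, 3]), ([0], [1, 0, 2, 0, 1, 3, 2, 3, 0, 3, 2]), ([3, 0, 1, 0, 3, 1, 2], [0, 1, 2, 0, 1, 3, 2, 0, 1, 3])]),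
  (3, [], [], [([0], [1, 0, 2, 0, 1, 3, 2, 3, 0, 3, 2]), ([3, 0, 1, 0, 3, 1, 2], [0, 1, 2, 0, 1, 3, 2, 0, 1, 3]), ([0], [1, 0, 2, 0, 1, 3, 2, 3, 0, 3, 2]), ([3, 0, 1, 0, 3, 1, 2], [0, 1, 2, 0, 1, 3, 2, 0, 1, 3])]),
  (3, [], [], [([0], [1, 0, 2, 0, 1, 3, 2, 3, 0, 3, 2]), ([3, 0, 1, 0, 3, 2, 1], [0, 1, 2, 0, 1, 3, 2, 0, 1, 3]), ([0], [1, 0, 2, 0, 1, 3, 2, 3, 0, 3, 2]), ([3, 0, 1, 0, 3, 1, 2], [0, 1, 2, 0, 1, 3, 2, 0, 1, 3])]),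
  (3, [], [], [([0], [1, 0, 2, 0, 1, 3, 2, 3, 0, 3, 2]), ([1, 2, 3, 0, 1, 0, 3], [0, 1, 2, 0, 1, 3, 2, 0, 1, 3]), ([0], [1, 0, 2, 0, 1, 3, 2, 3, 0, 3, 2]), ([3, 0, 1, 0, 3, 2, 1], [0, 1, 2, 0, 1, 3, 2, 0, 1, 3])]),
  (3, [], [], [([0], [1, 0, 2, 0, 1, 3, 2, 3, 0, 3, 2]), ([3, 0, 1, 0, 3, 2, 1], [0, 1, 2, 0, 1, 3, 2, 0, 1, 3]), ([0], [1, 0, 2, 0, 1, 3, 2, 3, 0, 3, 2]), ([3, 0, 1, 0, 3, 2, 1], [0, 1, 2, 0, 1, 3, 2, 0, 1, 3])]),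
  (3, [], [], [([3, 1, 0, 1, 3, 0, 1, 2, 0], [1, 2, 3, 0, 1, 2]), ([0, 1, 2, 0, 1, 2, 0, 1, 2], [0, 1, 2, 0, 1, 2, 0, 3, 2, 3, 1])]),
  (3, [], [], [([3, 1, 0, 1, 3, 0, 2, 1, 0], [1, 2, 3, 0, 1, 2]), ([0, 1, 2, 0, 1, 2, 0, 1, 2], [0, 1, 2, 0, 1, 2, 0, 3, 2, 3, 1])]),
  (3, [], [], [([3, 1, 0, 1, 3, 0, 1, 2, 0], [1, 2, 3, 0, 1, 2]), ([0, 1, 2, 0, 1, 2, 0, 2, 1], [0, 1, 2, 0, 1, 2, 0, 3, 2, 3, 1])]),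
  (3, [], [], [([3, 1, 0, 1, 3, 0, 2, 1, 0], [1, 2, 3, 0, 1, 2]), ([0, 1, 2, 0, 1, 2, 0, 2, 1], [0, 1, 2, 0, 1, 2, 0, 3, 2, 3, 1])]),
  (3, [], [], [([0, 1, 2, 0, 3, 1, 0, 1, 3], [1, 2, 0, 3, 1, 2]), ([1, 2, 0, 1, 2, 0, 1, 2, 0], [0, 1, 2, 0, 1, 3, 2, 3, 0, 1, 2])]),
  (3, [], [], [([0, 1, 2, 0, 3, 1, 0, 1, 3], [1, 2, 0, 3, 1, 2]), ([2, 1, 0, 1, 2, 0, 1, 2, 0], [0, 1, 2, 0, 1, 3, 2, 3, 0, 1, 2])]),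
  (3, [], [], [([0, 2, 1, 0, 3, 1, 0, 1, 3], [1, 2, 0, 3, 1, 2]), ([1, 2, 0, 1, 2, 0, 1, 2, 0], [0, 1, 2, 0, 1, 3, 2, 3, 0, 1, 2])]),
  (3, [], [], [([0, 2, 1, 0, 3, 1, 0, 1, 3], [1, 2, 0, 3, 1, 2]), ([2, 1, 0, 1, 2, 0, 1, 2, 0], [0, 1, 2, 0, 1, 3, 2, 3, 0, 1, 2])]),
  (3, [], [], [([3, 1, 0, 1, 3, 0, 2, 1, 0], [1, 2, 3, 0, 1, 2]), ([0, 2, 1, 0, 1, 2, 0, 1, 2], [0, 1, 2, 0, 1, 2, 0, 3, 2, 3, 1])]),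
  (3, [], [], [([3, 1, 0, 1, 3, 0, 1, 2, 0], [1, 2, 3, 0, 1, 2]), ([0, 1, 2, 0, 2, 1, 0, 2, 1], [0, 1, 2, 0, 1, 2, 0, 3, 2, 3, 1])]),
  (3, [], [], [([0, 1, 2, 0], [1, 3, 2, 3, 0, 3, 2, 3, 1]), ([0, 1, 2, 0], [1, 3, 2, 3, 0, 3, 2, 3, 1]), ([0, 2, 1, 0], [1, 3, 2, 3, 0, 3, 2, 3, 1]), ([0, 1, 2, 0], [1, 3, 2, 3, 0, 3, 2, 3, 1])]),
  (3, [], [], [([0, 1, 2, 0], [1, 3, 2, 3, 0, 3, 2, 3, 1]), ([0, 2, 1, 0], [1, 3, 2, 3, 0, 3, 2, 3, 1]), ([0, 2, 1, 0], [1, 3, 2, 3, 0, 3, 2, 3, 1]), ([0, 1, 2, 0], [1, 3, 2, 3, 0, 3, 2, 3, 1])]),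
  (3, [], [], [([3, 1, 3, 0, 3, 1, 3], [2, 0, 1, 2, 3, 0, 2, 3]), ([3, 0, 3, 1, 2, 0, 1, 2, 3, 0, 3], [0, 2, 3, 1, 0, 3])]),
  (3, [], [], [([3, 1, 3, 0, 3, 1, 3], [2, 0, 1, 2, 3, 0, 2, 3]), ([3, 0, 3, 2, 1, 0, 1, 2, 3, 0, 3], [0, 2, 3, 1, 0, 3])]),
  (3, [], [], [([3, 0, 3], [2, 3, 2]), ([1, 2, 0, 3, 1, 3], [2, 0, 1, 3, 0, 3]), ([0, 1, 2, 3, 1, 0, 3, 0], [1, 0, 2, 3, 0, 3, 1, 3, 2])]),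
  (3, [], [], [([3, 0, 3], [2, 3, 2]), ([2, 1, 0, 3, 1, 3], [2, 0, 1, 3, 0, 3]), ([0, 1, 2, 3, 1, 0, 3, 0], [1, 0, 2, 3, 0, 3, 1, 3, 2])]),
  (3, [], [], [([1, 2, 0, 3, 1, 0, 3], [1, 3, 2, 0, 3, 1, 3]), ([0, 3, 0, 3, 0, 3, 1, 3, 0, 1, 2], [3, 1, 3, 0, 2, 3, 1])]),
  (3, [], [], [([1, 2, 0, 3, 1, 3, 0, 3, 0, 3, 0], [1, 3, 2, 0, 3, 1, 3]), ([3, 0, 1, 3, 0, 1, 2], [3, 1, 3, 0, 2, 3, 1])]),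
  (3, [], [], [([2, 1, 0, 3, 1, 0, 3], [1, 3, 2, 0, 3, 1, 3]), ([0, 3, 0, 3, 0, 3, 1, 3, 0, 1, 2], [3, 1, 3, 0, 2, 3, 1])]),
  (3, [], [], [([3, 0, 3], [2, 3, 2]), ([0, 3, 0, 1, 3, 1, 2, 0], [1, 0, 3, 2, 3, 0, 1, 3, 2]), ([3, 1, 3, 0, 1, 2], [3, 0, 3, 1, 0, 2])]),
  (3, [], [], [([3, 0, 3], [2, 3, 2]), ([1, 2, 0, 1, 2], [0, 3, 2, 3, 1, 3, 0, 3]), ([3, 0, 3], [2, 3, 2]), ([2, 1, 0, 1, 2], [0, 3, 2, 3, 1, 3, 0, 3])]),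
  (3, [], [], [([3, 0, 3], [2, 3, 2]), ([1, 2, 0, 2, 1], [0, 3, 2, 3, 1, 3, 0, 3]), ([3, 0, 3], [2, 3, 2]), ([1, 2, 0, 1, 2], [0, 3, 2, 3, 1, 3, 0, 3])]),
  (3, [], [], [([3, 0, 3], [2, 3, 2]), ([1, 2, 0, 2, 1], [0, 3, 2, 3, 1, 3, 0, 3]), ([3, 0, 3], [2, 3, 2]), ([2, 1, 0, 1, 2], [0, 3, 2, 3, 1, 3, 0, 3])]),
  (3, [], [], [([3, 0, 3], [2, 3, 2]), ([2, 1, 0, 2, 1], [0, 3, 2, 3, 1, 3, 0, 3]), ([3, 0, 3], [2, 3, 2]), ([1, 2, 0, 1, 2], [0, 3, 2, 3, 1, 3, 0, 3])]),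
  (3, [], [], [([3, 1, 3, 0], [2, 0, 1, 3, 2, 0, 1, 3, 2]), ([0], [1, 0, 2, 0, 1, 3, 2, 3, 0, 3, 2]), ([0, 3, 1, 3], [2, 3, 1, 0, 2, 3, 1, 0, 2]), ([1, 2, 0], [3, 1, 2, 0]), ([0, 1, 2], [0, 1, 2, 3])]),
  (3, [], [], [([3, 1, 3, 0], [2, 0, 1, 3, 2, 0, 1, 3, 2]), ([0], [1, 0, 2, 0, 1, 3, 2, 3, 0, 3, 2]), ([0, 3, 1, 3], [2, 3, 1, 0, 2, 3, 1, 0, 2]), ([2, 1, 0], [3, 1, 2, 0]), ([0, 1, 2], [0, 1, 2, 3])]),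
  (3, [], [], [([1, 2, 0, 3, 1, 3, 0, 3, 0, 3, 0], [1, 3, 2, 0, 3, 1, 3]), ([3, 0, 1, 3, 0, 2, 1], [3, 1, 3, 0, 2, 3, 1])]),
  (3, [], [], [([3, 0, 3, 0, 3, 1, 0, 3, 0], [0, 2, 3, 1, 3, 2, 0]), ([0, 3, 0, 1, 3, 0, 3, 0, 3], [0, 2, 3, 1, 3, 2, 0])]),
  (3, [], [], [([3, 1, 3, 0, 2, 1], [3, 0, 3, 1, 0, 2]), ([3, 0, 3], [2, 3, 2]), ([0, 3, 0, 1, 3, 1, 2, 0], [1, 0, 3, 2, 3, 0, 1, 3, 2])]),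
  (3, [], [], [([3, 0, 3, 1, 2, 3, 0, 1, 3], [0, 1, 2, 0, 1, 2, 0, 3, 1, 3]), ([3, 0, 3, 1, 2, 3, 0, 1, 3], [0, 1, 2, 0, 1, 2, 0, 3, 1, 3])]),
  (3, [], [], [([3, 0, 3, 1, 2, 3, 0, 1, 3], [0, 1, 2, 0, 1, 2, 0, 3, 1, 3]), ([3, 0, 3, 2, 1, 3, 0, 1, 3], [0, 1, 2, 0, 1, 2, 0, 3, 1, 3])]),
  (3, [], [], [([3, 0, 3, 2, 1, 3, 0, 1, 3], [0, 1, 2, 0, 1, 2, 0, 3, 1, 3]), ([3, 0, 3, 2, 1, 3, 0, 1, 3], [0, 1, 2, 0, 1, 2, 0, 3, 1, 3])]),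
  (3, [], [], [([3, 1, 0, 3, 1, 2, 3, 0, 3], [0, 1, 2, 0, 1, 2, 0, 3, 1, 3]), ([3, 0, 3, 1, 2, 3, 0, 1, 3], [0, 1, 2, 0, 1, 2, 0, 3, 1, 3])]),
  (3, [], [], [([3, 1, 0, 3, 1, 2, 3, 0, 3], [0, 1, 2, 0, 1, 2, 0, 3, 1, 3]), ([3, 0, 3, 2, 1, 3, 0, 1, 3], [0, 1, 2, 0, 1, 2, 0, 3, 1, 3])]),
  (3, [], [], [([3, 1, 0, 3, 2, 1, 3, 0, 3], [0, 1, 2, 0, 1, 2, 0, 3, 1, 3]), ([3, 0, 3, 1, 2, 3, 0, 1, 3], [0, 1, 2, 0, 1, 2, 0, 3, 1, 3])]),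
  (3, [], [], [([3, 1, 3, 0, 3, 1, 3], [2, 0, 1, 2, 3, 0, 2, 3]), ([3, 0, 3, 1, 2, 0, 2, 1, 3, 0, 3], [0, 2, 3, 1, 0, 3])]),
  (3, [], [], [([3, 1, 3, 0], [2, 0, 1, 3, 2, 0, 1, 3, 2]), ([0], [1, 0, 2, 0, 1, 3, 2, 3, 0, 3, 2]), ([0, 3, 1, 3], [2, 3, 1, 0, 2, 3, 1, 0, 2]), ([1, 2, 0], [3, 1, 2, 0]), ([0, 2, 1], [0, 1, 2, 3])]),
  (3, [], [], [([0], [1, 0, 2, 0, 1, 3, 2, 3, 0, 3, 2]), ([0], [1, 0, 2, 0, 1, 3, 2, 3, 0, 3, 2]), ([0], [1, 0, 2, 0, 1, 3, 2, 3, 0, 3, 2]), ([0, 3, 0, 3], [1, 0, 2, 0, 1, 3, 2, 3, 0, 2]), ([3, 0, 3], [2, 3, 2]), ([0, 3, 0, 3], [1, 0, 2, 0, 1, 3, 2, 3, 0, 2])]),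
  (3, [], [], [([0], [1, 0, 2, 0, 1, 3, 2, 3, 0, 3, 2]), ([0], [1, 0, 2, 0, 1, 3, 2, 3, 0, 3, 2]), ([0], [1, 0, 2, 0, 1, 3, 2, 3, 0, 3, 2]), ([3, 0, 3, 0], [1, 0, 2, 0, 1, 3, 2, 3, 0, 2]), ([3, 0, 3], [2, 3, 2]), ([0, 3, 0, 3], [1, 0, 2, 0, 1, 3, 2, 3, 0, 2])]),
  (3, [], [], [([3, 0, 3], [2, 3, 2]), ([3, 0, 3, 0], [1, 0, 2, 0, 1, 3, 2, 3, 0, 2]), ([0], [1, 0, 2, 0, 1, 3, 2, 3, 0, 3, 2]), ([0], [1, 0, 2, 0, 1, 3, 2, 3, 0, 3, 2]), ([0], [1, 0, 2, 0, 1, 3, 2, 3, 0, 3, 2]), ([0, 3, 0, 3], [1, 0, 2, 0, 1, 3, 2, 3, 0, 2])]),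
  (3, [], [], [([0], [1, 0, 2, 0, 1, 3, 2, 3, 0, 3, 2]), ([3, 0, 3], [2, 3, 2]), ([3, 0, 3], [2, 3, 2]), ([0], [1, 0, 2, 0, 1, 3, 2, 3, 0, 3, 2]), ([3, 0, 3], [2, 3, 2]), ([3, 0, 3], [2, 3, 2])]),
  (3, [], [], [([3, 1, 3, 1, 2, 3, 0, 3], [0, 1, 2, 0, 3, 1, 2, 0, 3, 1]), ([3, 1, 3, 0, 1, 2, 0, 3, 0, 3, 0], [3, 1, 0, 2, 3, 1])]),
  (3, [], [], [([3, 1, 3, 2, 1, 3, 0, 3], [0, 1, 2, 0, 3, 1, 2, 0, 3, 1]), ([3, 1, 3, 0, 1, 2, 0, 3, 0, 3, 0], [3, 1, 0, 2, 3, 1])]),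
  (3, [], [], [([3, 0, 3, 1, 2, 3, 1, 3], [0, 1, 3, 2, 0, 1, 2, 0, 3, 1]), ([0, 3, 0, 3, 0, 1, 2, 0, 3, 1, 3], [1, 3, 2, 0, 1, 3])]),
  (3, [], [], [([3, 0, 3, 2, 1, 3, 1, 3], [0, 1, 3, 2, 0, 1, 2, 0, 3, 1]), ([0, 3, 0, 3, 0, 1, 2, 0, 3, 1, 3], [1, 3, 2, 0, 1, 3])]),
  (3, [], [], [([1, 2, 0, 1, 2], [0, 3, 2, 3, 1, 3, 0, 3]), ([2, 1, 0, 3, 1, 0, 1, 3, 0, 1, 2, 3, 0, 3], [1, 0, 2, 3, 2, 0, 1])]),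
  (2, [1, 0, 2, 3, 0, 2, 0, 1, 2], [2, 0, 1, 2, 0, 3, 0, 1, 2, 0, 2], []),
  (2, [0, 1, 0, 1, 0, 1, 0, 1], [0, 1, 3, 0, 1, 0, 1, 2, 0, 1, 0, 1, 3, 0], []),
  (1, [2, 0, 1, 3, 0, 3, 1, 0, 1, 0, 3, 0, 2, 1, 0, 3, 0, 1, 0, 2, 1, 0, 3, 1, 0], [], []),
  (2, [0, 3, 0, 1, 0, 1, 0, 2, 0, 1, 3, 0], [0, 3, 0, 1, 0, 1, 0, 2, 0, 1, 3, 0], []),
  (2, [1, 3, 0, 1, 2, 0, 3, 0, 1, 0, 2, 0, 1, 3], [0, 3, 0, 1, 0, 2, 0, 1, 0, 3, 0], []),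
  (2, [0, 3, 0, 1, 0, 2, 0, 1, 3, 0, 2, 0, 3], [0, 3, 0, 1, 0, 2, 0, 1, 3, 0, 2, 0, 3], [])]

/-- Words of the five letters in the Held group. -/
def heW : List (List ℕ) := [[4, 3, 5, 3, 4, 0, 1, 0], [1, 2, 6, 3, 2, 1, 3, 5, 6, 3, 5, 2, 3, 6, 5, 3, 1, 2, 3, 6, 2, 1], [2, 4, 5, 3, 2, 1, 3, 2, 6, 3, 4, 5, 3, 6, 2, 3, 1, 2, 3, 5, 4, 2, 3], [5, 6, 3, 2, 3, 6, 5, 3, 2, 3, 2, 3, 4, 1, 2, 3, 6, 5, 3, 2, 3, 5], [0, 2, 3, 4, 3, 5, 3, 2, 1, 3, 2, 3, 5, 3, 1, 2, 3, 1, 2, 3, 5, 3, 4, 3, 2, 0]]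

/-- Paths of the four generators. -/
def hePath : List (List ℕ) := [[7, 6, 7, 7, 7, 6, 7, 5, 1, 7, 6], [6, 7, 7, 6, 7, 7, 7, 7, 6, 7, 0, 7, 6, 3, 0], [7, 7, 6, 7, 7, 7, 1, 7, 3, 7, 0], [7, 6, 2, 5, 7, 7, 6, 0]]

/-- The seven generators of the Held group in the five letters. -/
def heBack : List (List ℕ) := [[3, 0, 2, 0, 4, 0, 1, 0, 4, 3], [1, 2, 4, 1, 0, 2, 0, 1, 4, 2, 1], [1, 0, 4, 0, 4, 3, 4, 0, 3, 1, 0, 4, 1, 4, 0, 3, 4, 2], [0, 1, 0, 1, 0, 1, 0, 1], [4, 3, 4, 3, 4, 1, 2, 4, 3, 1, 4, 1, 0, 4, 0, 4, 3], [0, 4, 2, 4, 2, 4, 1, 0, 4, 2, 0, 4, 0, 1, 4, 1, 4, 3, 0], [3, 4, 2, 4, 2, 0, 4, 0, 1, 4, 2, 1, 4, 0, 2, 4, 2]]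

/-- Conjugators of the elementary subgroup. -/
def eOrb : List (List ℕ) := [[], [1], [3], [2, 3], [0, 2], [1, 0, 1], [0, 3, 1]]

/-- Separating elements for the conjugators. -/
def eSep : List (List ℕ) := [[0, 1, 1, 1, 1, 1, 1], [1, 0, 1, 1, 1, 1, 1], [1, 1, 0, 1, 1, 1, 1], [1, 1, 1, 0, 1, 1, 1], [1, 1, 1, 1, 0, 1, 1], [1, 1, 1, 1, 1, 0, 1], [1, 1, 1, 1, 1, 1, 0]]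

/-- The words of the subgroup in the generators of the normaliser. -/
def heHwV : List (List ℕ) :=
  [[1, 0, 2, 0, 1, 3, 2, 3, 0, 3, 2], [0, 2, 3, 0, 1, 0, 3, 2, 0], [2, 3, 2], [0, 3, 0, 1, 0, 3, 0]]

end CfsgLib.HeldRecog
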