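/-
The Held group as an example: the centraliser, an exchanging involution and the branch it belongs to.
-/
import Cfsg.Agent.Lib.HeldRecog.Branch
import Cfsg.Agent.Lib.HeldRecog.HeTopData

set_option autoImplicit false
set_option maxRecDepth 100000

namespace CfsgLib.HeldRecog

open CfsgLib.CosetEnum CfsgLib.HeCent

/-- The copy of the centraliser in the presented Held group. -/
noncomputable def heEmb : Emb presHe.Grp where
  z := dd
  φ := Cd.subtype.comp psi.symm.toMonoidHom
  inj := Cd.subtype_injective.comp psi.symm.injective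
  mem_range g := by
    constructor
    · intro h
      refine ⟨psi ⟨g, mem_Cd.mpr h⟩, ?_⟩
      show ((psi.symm (psi ⟨g, mem_Cd.mpr h⟩) : Cd) : presHe.Grp) = g
      rw [MulEquiv.symm_apply_apply]
    · rintro ⟨x, rfl⟩
      exact mem_Cd.mp (psi.symm x).2
  map_Zh := by
    have hd : dd ∈ Cd := mem_Cd.mpr rfl
    have h1 : (⟨dd, hd⟩ : Cd) ≠ 1 := fun h => el_ne (w := [3]) (v := []) (by decide) (by decide) (by decide +kernel)
      (congrArg Subtype.val h)
    have h2 : psi ⟨dd, hd⟩ = Zh := by
      refine eq_Zh_of_central (fun y => ?_) fun h => h1 (psi.injective (h.trans (map_one psi).symm))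
      obtain ⟨x, rfl⟩ := psi.surjective y
      rw [← map_mul, ← map_mul]
      exact congrArg psi (Subtype.ext (mem_Cd.mp x.2).symm)
    show ((psi.symm Zh : Cd) : presHe.Grp) = dd
    rw [← h2, MulEquiv.symm_apply_apply]

/-- The word in the seven generators of a word in the five letters. -/
def heSub (w : List ℕ) : List ℕ := w.reverse.flatMap fun i => heW.getD i []

/-- The checks of the five letters. -/
noncomputable def heLetOK : Bool :=
  (List.range 5).all (fun i => okWord (heW.getD i [])) &&
    ((List.range 4).all fun i => (hePath.getD i []).all (fun g => Nat.blt g 8) &&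
      Nat.beq (pathCode (hePath.getD i [])) (gcode i) && sameEl (pathWord (hePath.getD i [])) (heW.getD i [])) &&
    sameEl (heW.getD 4 [] ++ heW.getD 4 []) [] &&
    sameEl (heSub ([4] ++ zW ++ [4])) (heSub xW) && sameEl (heSub ([4] ++ xW ++ [4])) (heSub zW)

theorem heLet_ok : heLetOK = true := by decide +kernel

theorem heW_ok {i : ℕ} (hi : i < 5) : okWord (heW.getD i []) = true := by
  have h := heLet_ok
  simp only [heLetOK, Bool.and_eq_true, List.all_eq_true, List.mem_range] at h
  exact h.1.1.1.1 i hi

theorem heEmb_gen {i : ℕ} (hi : i < 4) : heEmb.φ (gen i) = el (heW.getD i []) := by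
  have h := heLet_ok
  simp only [heLetOK, Bool.and_eq_true, List.all_eq_true, List.mem_range, blt_iff, Nat.beq_eq] at h
  obtain ⟨⟨hp, hc⟩, hs⟩ := h.1.1.1.2 i hi
  obtain ⟨hm, hM⟩ := path_spec _ hp
  have hx : psi.symm (gen i) = ⟨_, hm⟩ := by
    rw [MulEquiv.symm_apply_eq]
    refine mx_injective ?_
    rw [(hasCode_gen i).1, ← hc]
    exact hM.symm
  show ((psi.symm (gen i) : Cd) : presHe.Grp) = _
  rw [hx]
  exact el_eq hs

theorem el_heSub_z : ∀ w : List ℕ, (∀ i ∈ w, i < 4) → el (heSub w) = heEmb.φ (wEl w)
  | [], _ => by rw [show heSub [] = [] from rfl, el_nil]; exact (map_one heEmb.φ).symm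
  | i :: w, h => by
    rw [show heSub (i :: w) = heSub w ++ heW.getD i [] by simp [heSub, List.flatMap_append], el_append,
      el_heSub_z w fun j hj => h j (List.mem_cons_of_mem _ hj), ← heEmb_gen (h i List.mem_cons_self), ← map_mul]
    rfl

/-- The exchanging element. -/
noncomputable def heS : presHe.Grp := el (heW.getD 4 [])

theorem heS_sq : heS * heS = 1 := by
  have h := heLet_ok
  simp only [heLetOK, Bool.and_eq_true] at h
  rw [heS, ← el_append, el_eq h.1.1.2, el_nil]

theorem el_heSub_conj (w : List ℕ) : el (heSub ([4] ++ w ++ [4])) = heS * el (heSub w) * heS := by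
  rw [show heSub ([4] ++ w ++ [4]) = heW.getD 4 [] ++ (heSub w ++ heW.getD 4 []) by
    simp [heSub, List.flatMap_append], el_append, el_append]
  rfl

/-- The Held group with the exchanging involution. -/
noncomputable def heSwap : Swap presHe.Grp where
  toEmb := heEmb
  s := heS
  s_z := by
    have h := heLet_ok
    simp only [heLetOK, Bool.and_eq_true] at h
    have e := el_eq h.1.2
    rw [el_heSub_conj, el_heSub_z zW (by decide), el_heSub_z xW (by decide)] at e
    rw [inv_eq_of_mul_eq_one_right heS_sq, ← heEmb.map_Zh]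
    exact e
  s_x := by
    have h := heLet_ok
    simp only [heLetOK, Bool.and_eq_true] at h
    have e := el_eq h.2
    rw [el_heSub_conj, el_heSub_z zW (by decide), el_heSub_z xW (by decide)] at e
    rw [inv_eq_of_mul_eq_one_right heS_sq, ← heEmb.map_Zh]
    exact e

/-- The check of the automorphism. -/
noncomputable def hePrefOK : Bool :=
  (List.range 4).all fun i => letters6 ((imgWords.getD 0 []).getD i []) &&
    sameEl (heSub ([4] ++ gsW.getD i [] ++ [4]))
      (heSub (((imgWords.getD 0 []).getD i []).flatMap fun a => ([gsW.getD 0 [], gsW.getD 1 [], gsW.getD 2 [],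
        gsW.getD 3 [], zW, xW].getD a [])))

theorem hePref_ok : hePrefOK = true := by decide +kernel

theorem gsW_lt : ∀ i < 4, ∀ a ∈ gsW.getD i [], a < 4 := by decide +kernel

theorem env_lt : ∀ j < 6,
    ∀ a ∈ [gsW.getD 0 [], gsW.getD 1 [], gsW.getD 2 [], gsW.getD 3 [], zW, xW].getD j [], a < 4 := by decide +kernel

theorem srcEl_eq : ∀ j < 6,
    srcEl j = wEl ([gsW.getD 0 [], gsW.getD 1 [], gsW.getD 2 [], gsW.getD 3 [], zW, xW].getD j []) := by
  intro j hj
  interval_cases j <;> rfl

theorem img_word {w : List ℕ} (hw : letters6 w = true) :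
    (∀ a ∈ w.flatMap (fun j => [gsW.getD 0 [], gsW.getD 1 [], gsW.getD 2 [], gsW.getD 3 [], zW, xW].getD j []), a < 4) ∧
    (w.map srcEl).prod =
      wEl (w.flatMap fun j => [gsW.getD 0 [], gsW.getD 1 [], gsW.getD 2 [], gsW.getD 3 [], zW, xW].getD j []) := by
  induction w with
  | nil => exact ⟨fun a ha => absurd ha List.not_mem_nil, rfl⟩
  | cons j w ih =>
    simp only [letters6, List.all_cons, Bool.and_eq_true, Bool.or_eq_true, blt_iff, Nat.beq_eq] at hw
    obtain ⟨i1, i2⟩ := ih hw.2
    have hj : j < 6 := by omega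
    refine ⟨fun a ha => ?_, ?_⟩
    · rw [List.flatMap_cons, List.mem_append] at ha
      exact ha.elim (env_lt j hj a) (i1 a)
    · rw [List.map_cons, List.prod_cons, i2, srcEl_eq j hj, ← wEl_append, List.flatMap_cons]

theorem img_code : ∀ i < 4, evC srcC ((imgWords.getD 0 []).getD i []) = (sigImg.getD 0 []).getD i oneCode := by
  decide +kernel

theorem img_len : (sigImg.getD 0 []).length = 4 := by decide +kernel

/-- The Held group as an instance of the first automorphism. -/
noncomputable def heCtx : Ctx presHe.Grp 0 where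
  toSwap := heSwap
  sq := heS_sq
  pref := by
    intro i hi
    rw [img_len] at hi
    have h := List.all_eq_true.mp hePref_ok i (List.mem_range.mpr hi)
    simp only [Bool.and_eq_true] at h
    obtain ⟨hl, he⟩ := h
    obtain ⟨hlt, hprod⟩ := img_word hl
    refine ⟨_, ?_, img_code i hi ▸ hasCode_evC _ fun j _ => hasCode_srcEl j⟩
    show heS * heEmb.φ (srcEl i) * heS⁻¹ = heEmb.φ (((imgWords.getD 0 []).getD i []).map srcEl).prod
    have e := el_eq he
    rw [el_heSub_conj, el_heSub_z _ (gsW_lt i hi), el_heSub_z _ hlt, ← hprod] at e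
    rw [inv_eq_of_mul_eq_one_right heS_sq]
    refine Eq.trans ?_ e
    rw [srcEl, if_pos hi]

/-- A local word as a word in the five letters. -/
def mSub (w : List ℕ) : List ℕ := w.flatMap fun i => if i < 4 then vW.getD i [] else [4]

theorem vW_lt : ∀ i < 4, ∀ a ∈ vW.getD i [], a < 4 := by decide +kernel

theorem el_mSub : ∀ w : List ℕ, (∀ i ∈ w, i < 5) → el (heSub (mSub w)) = heCtx.evM w
  | [], _ => by rw [show heSub (mSub []) = [] from rfl, el_nil]; simp [Ctx.evM]
  | i :: w, h => by
    rw [show mSub (i :: w) = (if i < 4 then vW.getD i [] else [4]) ++ mSub w from List.flatMap_cons,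
      show ∀ a b : List ℕ, heSub (a ++ b) = heSub b ++ heSub a from fun a b => by
        simp [heSub, List.flatMap_append], el_append,
      el_mSub w fun j hj => h j (List.mem_cons_of_mem _ hj),
      show heCtx.evM (i :: w) = heCtx.μ i * heCtx.evM w by simp [Ctx.evM]]
    congr 1
    have hi := h i List.mem_cons_self
    by_cases h4 : i < 4
    · rw [if_pos h4, Ctx.μ, if_pos h4, el_heSub_z _ (vW_lt i h4)]
      rfl
    · rw [if_neg h4, Ctx.μ, if_neg h4, if_pos (by omega)]
      simp [heSub]
      rfl

/-- The check of the branch. -/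
noncomputable def heBranchOK : Bool :=
  amb0.1.all (fun i => Nat.blt i 5) && amb1.1.all (fun i => Nat.blt i 5) &&
    (elW.getD 59 []).all (fun i => Nat.blt i 4) && (elW.getD 19 []).all (fun i => Nat.blt i 4) &&
    sameEl (heSub (mSub (powW amb0.2.1 amb0.1))) (heSub (mSub (elW.getD 59 []))) &&
    sameEl (heSub (mSub (powW amb1.2.1 amb1.1))) (heSub (mSub (elW.getD 19 [])))

theorem heBranch_ok : heBranchOK = true := by decide +kernel

theorem he_branch : InBranch heCtx 59 19 := by
  have h := heBranch_ok
  simp only [heBranchOK, Bool.and_eq_true, List.all_eq_true, blt_iff] at h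
  obtain ⟨⟨⟨⟨⟨a0, a1⟩, l59⟩, l19⟩, e0⟩, e1⟩ := h
  constructor
  · have e := el_eq e0
    rw [el_mSub _ (letters_powW a0 _), el_mSub _ (fun i hi => Nat.lt_succ_of_lt (l59 i hi)), evM_powW,
      evM_vSub heCtx _ l59] at e
    exact e
  · have e := el_eq e1
    rw [el_mSub _ (letters_powW a1 _), el_mSub _ (fun i hi => Nat.lt_succ_of_lt (l19 i hi)), evM_powW,
      evM_vSub heCtx _ l19] at e
    exact e

theorem el_heSub : ∀ w : List ℕ, (∀ i ∈ w, i < 5) → el (heSub w) = heCtx.ev w
  | [], _ => by rw [show heSub [] = [] from rfl, el_nil]; simp [Ctx.ev]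
  | i :: w, h => by
    rw [show heSub (i :: w) = heSub w ++ heW.getD i [] by simp [heSub, List.flatMap_append], el_append,
      el_heSub w fun j hj => h j (List.mem_cons_of_mem _ hj),
      show heCtx.ev (i :: w) = heCtx.τ i * heCtx.ev w by simp [Ctx.ev]]
    congr 1
    have hi := h i List.mem_cons_self
    by_cases h4 : i < 4
    · rw [Ctx.τ, if_pos h4]; exact (heEmb_gen h4).symm
    · obtain rfl : i = 4 := by omega
      rw [Ctx.τ, if_neg h4, if_pos rfl]; rfl

/-- The check that the seven generators are words in the five letters. -/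
noncomputable def heBackOK : Bool :=
  (List.range 7).all fun j => (heBack.getD j []).all (fun i => Nat.blt i 5) && sameEl (heSub (heBack.getD j [])) [j]

theorem heBack_ok : heBackOK = true := by decide +kernel

theorem he_gen {j : ℕ} (hj : j < 7) : (∀ i ∈ heBack.getD j [], i < 5) ∧ el [j] = heCtx.ev (heBack.getD j []) := by
  have h := List.all_eq_true.mp heBack_ok j (List.mem_range.mpr hj)
  simp only [Bool.and_eq_true, List.all_eq_true, blt_iff] at h
  exact ⟨h.1, by rw [← el_heSub _ h.1, el_eq h.2]⟩

end CfsgLib.HeldRecog
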