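/-
The stabiliser of the elementary abelian subgroup in the centraliser has order at most 3072.
-/
import Cfsg.Agent.Lib.HeldRecog.Branch
import Cfsg.Agent.Lib.HeldRecog.HeTopData

set_option autoImplicit false
set_option maxRecDepth 100000

namespace CfsgLib.HeldRecog

open CfsgLib.CosetEnum CfsgLib.HeCent

/-- The elementary abelian subgroup as a set. -/
def elSet : Set HS := {x | ∃ e < 64, el0 e = x}

theorem finite_elSet : elSet.Finite := Set.toFinite _

/-- The stabiliser of the elementary abelian subgroup. -/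
def elStab : Subgroup HS where
  carrier := {x | (∀ y ∈ elSet, x * y * x⁻¹ ∈ elSet) ∧ ∀ y ∈ elSet, x⁻¹ * y * x ∈ elSet}
  one_mem' := ⟨fun y hy => by simpa using hy, fun y hy => by simpa using hy⟩
  mul_mem' := fun {a b} ha hb => ⟨fun y hy => by
      have := ha.1 _ (hb.1 y hy)
      rwa [show a * (b * y * b⁻¹) * a⁻¹ = a * b * y * (a * b)⁻¹ by group] at this,
    fun y hy => by
      have := hb.2 _ (ha.2 y hy)
      rwa [show b⁻¹ * (a⁻¹ * y * a) * b = (a * b)⁻¹ * y * (a * b) by group] at this⟩
  inv_mem' := fun {a} ha => ⟨fun y hy => by simpa using ha.2 y hy, fun y hy => by simpa using ha.1 y hy⟩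

/-- The check of the seven conjugates. -/
noncomputable def orbOK : Bool :=
  Nat.beq eOrb.length 7 && (List.range 7).all fun k => (List.range 7).all fun l => Nat.beq k l ||
    force ((eSep.getD k []).getD l 0) fun e => Nat.blt e 64 &&
      force (wCode ((eOrb.getD l []).reverse ++ (eOrb.getD k [] ++ (vSub (elW.getD e []) ++
        ((eOrb.getD k []).reverse ++ eOrb.getD l []))))) fun c => !elC.contains c

theorem orb_ok : orbOK = true := by decide +kernel

theorem card_elStab_le : Nat.card elStab ≤ 3072 := by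
  let y : Fin 7 → HS := fun k => wEl (eOrb.getD k.1 [])
  let f : Fin 7 × elStab → HS := fun p => y p.1 * p.2.1
  have hf : Function.Injective f := by
    rintro ⟨k, a⟩ ⟨l, b⟩ h
    simp only [f] at h
    by_cases hkl : k = l
    · subst hkl
      exact Prod.ext rfl (Subtype.ext (mul_left_cancel h))
    exfalso
    have hok := orb_ok
    simp only [orbOK, force_eq, Bool.and_eq_true, List.all_eq_true, List.mem_range, Bool.or_eq_true, Nat.beq_eq,
      blt_iff] at hok
    rcases hok.2 k k.2 l l.2 with h1 | ⟨he, hc⟩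
    · exact hkl (Fin.ext h1)
    set e := (eSep.getD k []).getD l 0
    set x := (y l)⁻¹ * (y k * (el0 e * ((y k)⁻¹ * y l))) with hx
    have hxc : HasCode x (wCode ((eOrb.getD l []).reverse ++ (eOrb.getD k [] ++ (vSub (elW.getD e []) ++
        ((eOrb.getD k []).reverse ++ eOrb.getD l []))))) := by
      have := hasCode_wEl ((eOrb.getD l []).reverse ++ (eOrb.getD k [] ++ (vSub (elW.getD e []) ++
        ((eOrb.getD k []).reverse ++ eOrb.getD l []))))
      simp only [wEl_append, wEl_reverse] at this
      exact this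
    have hmem : x ∈ elSet := by
      have hk : y k = y l * (b.1 * a.1⁻¹) := by rw [← mul_assoc, ← h, mul_inv_cancel_right]
      have e1 := (b * a⁻¹).2.1 _ ⟨e, he, rfl⟩
      rw [show x = (b.1 * a.1⁻¹) * el0 e * (b.1 * a.1⁻¹)⁻¹ by rw [hx, hk]; group]
      exact e1
    obtain ⟨a', ha', hax⟩ := hmem
    rw [Bool.not_eq_true', ← Bool.not_eq_true, List.contains_iff_mem] at hc
    refine hc ?_
    have heq := (hasCode_el0 ha').eq_iff hxc
    rw [← heq.mp hax]
    have hlen : elC.length = 64 := by decide
    exact getD_mem (hlen.symm ▸ ha') 0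
  have := Nat.card_le_card_of_injective f hf
  rw [Nat.card_prod, Nat.card_eq_fintype_card (α := Fin 7), Fintype.card_fin, card_HS] at this
  omega

theorem vW_mem_elStab : ∀ i < 4, wEl (vW.getD i []) ∈ elStab := by
  intro i hi
  have key : ∀ y ∈ elSet, wEl (vW.getD i []) * y * (wEl (vW.getD i []))⁻¹ ∈ elSet := by
    rintro y ⟨e, he, rfl⟩
    have hh := el_ok
    simp only [elOK, force_eq, Bool.and_eq_true, List.all_eq_true, List.mem_range, Nat.beq_eq] at hh
    refine ⟨_, pg_lt (Nat.lt_succ_of_lt hi) he, ?_⟩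
    rw [eq_mul_inv_iff_mul_eq]
    exact (((hasCode_el0 (pg_lt (Nat.lt_succ_of_lt hi) he)).mul (hasCode_wEl _)).eq_iff
      ((hasCode_wEl _).mul (hasCode_el0 he))).mpr ((hh.2 e he).2 i hi).symm
  refine ⟨key, fun y hy => ?_⟩
  have hinv : (wEl (vW.getD i []))⁻¹ = wEl (vW.getD i []) :=
    inv_eq_of_mul_eq_one_right (by rw [← wEl_append, wEl_one (vW_sq i hi)])
  have := key y hy
  rwa [hinv] at this ⊢

end CfsgLib.HeldRecog
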