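/-
The branch of the Held group: an embedding of the presented Held group.
-/
import Cfsg.Agent.Lib.HeldRecog.HeModel
import Cfsg.Agent.Lib.HeldRecog.Orbit
import Cfsg.Agent.Lib.HeldRecog.HeTop.Main

set_option autoImplicit false
set_option maxRecDepth 100000

namespace CfsgLib.HeldRecog

open CfsgLib.CosetEnum CfsgLib.HeCent

/-- The top word of a relator given by segments. -/
def topW (ps : List (List ℕ × List ℕ)) : List ℕ := ps.flatMap fun p => 4 :: p.1

/-- The local word of a relator given by segments. -/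
def locW (ps : List (List ℕ × List ℕ)) : List ℕ := ps.flatMap fun p => 4 :: p.2

/-- The check of the relators. -/
noncomputable def heRelOK (i : ℕ) : Bool :=
  let r := HeTop.rels.getD i []
  match heProv.getD i (0, [], [], []) with
  | (0, _, _, _) => r == [i, i]
  | (1, _, _, _) => r.all (fun a => Nat.blt a 4) && oneW r
  | (2, a, b, _) => a.all (fun x => Nat.blt x 4) && b.all (fun x => Nat.blt x 4) &&
      crEq (4 :: (a ++ 4 :: b.reverse)) r &&
      (((List.range 4).any fun g => Nat.beq (wCode a) (gsC.getD g oneCode) &&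
          Nat.beq (wCode b) ((sigImg.getD 0 []).getD g oneCode)) ||
        (Nat.beq (wCode a) sCode && Nat.beq (wCode b) xC))
  | (_, _, _, ps) => crEq (topW ps) r && (locW ps).all (fun x => Nat.blt x 5) &&
      ps.all (fun p => p.1.all (fun x => Nat.blt x 4) && p.2.all (fun x => Nat.blt x 4) &&
        Nat.beq (wCode p.1) (wCode (vSub p.2))) &&
      Nat.beq (runT B59_19.sheet.T B59_19.sheet.D.k (locW ps) 0) 0 && sameEl (heSub (topW ps)) []

theorem heRels_ok : ((List.range HeTop.rels.length).all heRelOK) = true := by decide +kernel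

/-- The check of the words generating the local subgroup. -/
noncomputable def heHwOK : Bool :=
  HeTop.hw == [[0], [1, 2], [3, 0, 3], [3, 1, 3], [4]] && (List.range 4).all fun i =>
    (heHwV.getD i []).all (fun x => Nat.blt x 4) &&
      Nat.beq (wCode (HeTop.hw.getD i [])) (wCode (vSub (heHwV.getD i [])))

theorem heHw_ok : heHwOK = true := by decide +kernel

variable {G : Type} [Group G]

theorem evM_crEq_top {k : ℕ} (D : Ctx G k) {w r : List ℕ} (h : crEq w r = true) (h1 : D.ev w = 1) : D.ev r = 1 := by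
  have hred : ∀ w : List ℕ, D.ev (reduW w) = D.ev w := by
    intro w
    induction w with
    | nil => rfl
    | cons i w ih =>
      rw [show D.ev (i :: w) = D.τ i * D.ev w by simp [Ctx.ev], ← ih, reduW]
      split
      · next h => simp [h, Ctx.ev]
      · next j u h =>
        split
        · next hij =>
          subst hij
          rw [h, show D.ev (i :: u) = D.τ i * D.ev u by simp [Ctx.ev], ← mul_assoc, D.τ_sq, one_mul]
        · rw [h]; simp [Ctx.ev]
  simp only [crEq, List.any_eq_true, beq_iff_eq] at h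
  obtain ⟨n, -, rfl⟩ := h
  rw [hred, Ctx.ev, List.map_rotate]
  exact prod_rotate_eq_one _ _ (show D.ev (reduW w) = 1 by rw [hred, h1])

variable (D : Ctx G 0)

/-- The letters in the product with the Held group. -/
noncomputable def pT (i : ℕ) : presHe.Grp × G := (heCtx.τ i, D.τ i)

/-- The local letters in the product with the Held group. -/
noncomputable def pM (i : ℕ) : presHe.Grp × G := (heCtx.μ i, D.μ i)

/-- The diagonal copy of the centraliser. -/
noncomputable def pPhi : HS →* presHe.Grp × G := heCtx.φ.prod D.φ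

theorem pT_sq (i : ℕ) : pT D i * pT D i = 1 := Prod.ext (heCtx.τ_sq i) (D.τ_sq i)

theorem pM_sq (i : ℕ) : pM D i * pM D i = 1 := Prod.ext (heCtx.μ_sq i) (D.μ_sq i)

theorem prod_pair {A B : Type} [Monoid A] [Monoid B] (a : ℕ → A) (b : ℕ → B) :
    ∀ w : List ℕ, (w.map fun i => (a i, b i)).prod = ((w.map a).prod, (w.map b).prod)
  | [] => rfl
  | i :: w => by
    rw [List.map_cons, List.prod_cons, prod_pair a b w]
    simp

theorem pM_loc : ∀ i < 4, pM D i = pPhi D (wEl (vW.getD i [])) := fun i hi =>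
  Prod.ext (show heCtx.μ i = _ by rw [Ctx.μ, if_pos hi]; rfl) (show D.μ i = _ by rw [Ctx.μ, if_pos hi]; rfl)

theorem wordsSub_loc_le :
    wordsSub (pM D) B59_19.sheet.hw ≤ elStab.map (pPhi D) := by
  refine (Subgroup.closure_le _).mpr ?_
  rintro g ⟨u, hu, rfl⟩
  have : ∃ i < 4, u = [i] := by
    have hu' : u ∈ ([[0], [1], [2], [3]] : List (List ℕ)) := hu
    fin_cases hu' <;> simp
  obtain ⟨i, hi, rfl⟩ := this
  refine ⟨_, vW_mem_elStab i hi, ?_⟩
  simp [pM_loc D i hi]

section

variable (hb : InBranch D 59 19)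
include hb

theorem pM_rel : ∀ r ∈ B59_19.sheet.rels, (r.map (pM D)).prod = 1 := by
  intro r hr
  rw [show (pM D) = fun i => (heCtx.μ i, D.μ i) from rfl, prod_pair]
  exact Prod.ext (rels_one heCtx he_branch rels59_19 r hr) (rels_one D hb rels59_19 r hr)

theorem loc_one {m : List ℕ} (hm : (m.all fun x => Nat.blt x 5) = true)
    (h : runT B59_19.sheet.T B59_19.sheet.D.k m 0 = 0) (h1 : heCtx.evM m = 1) : D.evM m = 1 := by
  have hmem := B59_19.sheet.mem_of_run (pM D) (pM_sq D)
    (show pM D 5 = 1 from Prod.ext (by simp [pM, Ctx.μ]) (by simp [pM, Ctx.μ])) (pM_rel D hb) m hm h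
  obtain ⟨x, -, hx⟩ := wordsSub_loc_le D hmem
  rw [show (pM D) = fun i => (heCtx.μ i, D.μ i) from rfl, prod_pair] at hx
  have h2 : heCtx.φ x = 1 := (congrArg Prod.fst hx).trans h1
  have h3 : D.φ x = D.evM m := congrArg Prod.snd hx
  rw [← map_one heCtx.φ] at h2
  rw [← h3, heCtx.inj h2, map_one]

theorem top_rel : ∀ r ∈ HeTop.rels, heCtx.ev r = 1 ∧ D.ev r = 1 := by
  intro r hr
  obtain ⟨i, hi, rfl⟩ := List.getElem_of_mem hr
  have h := List.all_eq_true.mp heRels_ok i (List.mem_range.mpr hi)
  rw [heRelOK, List.getD_eq_getElem _ _ hi] at h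
  generalize heProv.getD i (0, [], [], []) = p at h
  generalize HeTop.rels[i] = r at h
  obtain ⟨kind, a, b, ps⟩ := p
  rcases kind with _ | _ | _ | kind
  · simp only [beq_iff_eq] at h
    subst h
    constructor <;> simp [Ctx.ev, Ctx.τ_sq]
  · simp only [Bool.and_eq_true, List.all_eq_true, blt_iff] at h
    exact ⟨by rw [heCtx.ev_of_lt h.1, wEl_one h.2, map_one], by rw [D.ev_of_lt h.1, wEl_one h.2, map_one]⟩
  · simp only [Bool.and_eq_true, Bool.or_eq_true, List.all_eq_true, List.any_eq_true, List.mem_range, blt_iff,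
      Nat.beq_eq] at h
    obtain ⟨⟨⟨ha, hb'⟩, hcr⟩, hcase⟩ := h
    have key : ∀ {G' : Type} [Group G'] (E : Ctx G' 0), E.ev (4 :: (a ++ 4 :: b.reverse)) = 1 := by
      intro G' _ E
      have hmaps : E.toSwap.Maps (wEl a) (wEl b) := by
        rcases hcase with ⟨g, hg, e1, e2⟩ | ⟨e1, e2⟩
        · have hg' : g < (sigImg.getD 0 []).length := img_len.symm ▸ hg
          obtain ⟨y, hy, hyc⟩ := E.pref g hg'
          have hs := hasCode_srcEl g
          rw [srcC, envC, if_pos hg] at hs
          rw [(show HasCode (wEl a) (gsC.getD g oneCode) from e1 ▸ hasCode_wEl a).unique hs,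
            (show HasCode (wEl b) _ from e2 ▸ hasCode_wEl b).unique hyc]
          exact hy
        · rw [(show HasCode (wEl a) sCode from e1 ▸ hasCode_wEl a).unique Zh_code,
            (show HasCode (wEl b) xC from e2 ▸ hasCode_wEl b).unique hasCode_Xh]
          exact E.maps_Zh
      have e : E.ev (4 :: (a ++ 4 :: b.reverse)) = E.s * (E.φ (wEl a) * (E.s * (E.φ (wEl b))⁻¹)) := by
        rw [show E.ev (4 :: (a ++ 4 :: b.reverse)) = E.τ 4 * (E.ev a * (E.τ 4 * E.ev b.reverse)) by
          simp [Ctx.ev, List.prod_append], E.ev_of_lt ha,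
          E.ev_of_lt (fun x hx => hb' x (List.mem_reverse.mp hx)), wEl_reverse, map_inv, Ctx.τ,
          if_neg (by norm_num), if_pos rfl]
      rw [e, ← hmaps, inv_eq_of_mul_eq_one_right E.sq]
      group
    exact ⟨evM_crEq_top heCtx hcr (key heCtx), evM_crEq_top D hcr (key D)⟩
  · simp only [Bool.and_eq_true, List.all_eq_true, blt_iff, Nat.beq_eq] at h
    obtain ⟨⟨⟨⟨hcr, hl⟩, hps⟩, hrun⟩, hsame⟩ := h
    have key : ∀ {G' : Type} [Group G'] (E : Ctx G' 0), E.ev (topW ps) = E.evM (locW ps) := by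
      intro G' _ E
      clear hl hrun hsame hcr
      induction ps with
      | nil => simp [topW, locW, Ctx.ev, Ctx.evM]
      | cons p ps ih =>
        obtain ⟨⟨hp1, hp2⟩, hp3⟩ := hps p List.mem_cons_self
        rw [show topW (p :: ps) = 4 :: (p.1 ++ topW ps) from rfl, show locW (p :: ps) = 4 :: (p.2 ++ locW ps) from rfl,
          show E.ev (4 :: (p.1 ++ topW ps)) = E.τ 4 * (E.ev p.1 * E.ev (topW ps)) by simp [Ctx.ev, List.prod_append],
          show E.evM (4 :: (p.2 ++ locW ps)) = E.μ 4 * (E.evM p.2 * E.evM (locW ps)) by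
            simp [Ctx.evM, List.prod_append],
          ih fun q hq => hps q (List.mem_cons_of_mem _ hq), E.ev_of_lt hp1, evM_vSub E p.2 hp2,
          (hasCode_wEl p.1).unique (hp3 ▸ hasCode_wEl (vSub p.2)), Ctx.τ, if_neg (by norm_num), if_pos rfl, E.μ_s]
    have hlt : ∀ x ∈ topW ps, x < 5 := by
      intro x hx
      obtain ⟨p, hp, hxp⟩ := List.mem_flatMap.mp hx
      rcases List.mem_cons.mp hxp with rfl | hxp
      · norm_num
      · exact Nat.lt_succ_of_lt ((hps p hp).1.1 x hxp)
    have h1 : heCtx.ev (topW ps) = 1 := by rw [← el_heSub _ hlt, el_eq hsame, el_nil]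
    refine ⟨evM_crEq_top heCtx hcr h1, evM_crEq_top D hcr ?_⟩
    rw [key D]
    exact loc_one D hb (List.all_eq_true.mpr fun x hx => blt_iff.mpr (hl x hx)) hrun ((key heCtx).symm.trans h1)

theorem card_top : Finite (Subgroup.closure (pT D '' Set.Iio 5)) ∧
    Nat.card (Subgroup.closure (pT D '' Set.Iio 5)) ≤ 29155 * (45 * 3072) := by
  have hS := heHw_ok
  simp only [heHwOK, Bool.and_eq_true, beq_iff_eq, List.all_eq_true, List.mem_range, blt_iff, Nat.beq_eq] at hS
  obtain ⟨hhw, hwv⟩ := hS
  have hloc : Finite (wordsSub (pM D) B59_19.sheet.hw) ∧ Nat.card (wordsSub (pM D) B59_19.sheet.hw) ≤ 3072 := by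
    have hfin : Finite (elStab.map (pPhi D)) := Finite.of_equiv _ (elStab.equivMapOfInjective (pPhi D)
      (fun a b h => D.inj (congrArg Prod.snd h))).toEquiv
    refine ⟨Finite.of_injective _ (Subgroup.inclusion_injective (wordsSub_loc_le D)), ?_⟩
    refine (Nat.card_le_card_of_injective _ (Subgroup.inclusion_injective (wordsSub_loc_le D))).trans ?_
    rw [Subgroup.card_map_of_injective (f := pPhi D) (fun a b h => D.inj (congrArg Prod.snd h))]
    exact card_elStab_le
  have hk5 : B59_19.sheet.D.k = 5 := rfl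
  have hM := B59_19.sheet.card_le (pM D) (pM_sq D)
    (show pM D 5 = 1 from Prod.ext (by simp [pM, Ctx.μ]) (by simp [pM, Ctx.μ])) (pM_rel D hb)
    ((Subgroup.closure_le _).mpr (by
      rintro g ⟨u, hu, rfl⟩
      have hu' : u ∈ ([[0], [1], [2], [3]] : List (List ℕ)) := hu
      refine Subgroup.list_prod_mem _ fun x hx => ?_
      obtain ⟨i, hi, rfl⟩ := List.mem_map.mp hx
      refine Subgroup.subset_closure ⟨i, ?_, rfl⟩
      show i < 5
      fin_cases hu' <;> simp at hi <;> omega)) hloc
  rw [hk5] at hM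
  have hsub : wordsSub (pT D) HeTop.sheet.hw ≤ Subgroup.closure (pM D '' Set.Iio 5) := by
    refine (Subgroup.closure_le _).mpr ?_
    rintro g ⟨u, hu, rfl⟩
    have hu' : u ∈ ([[0], [1, 2], [3, 0, 3], [3, 1, 3], [4]] : List (List ℕ)) := hhw ▸ hu
    have key : ∀ i < 4, (∀ x ∈ HeTop.hw.getD i [], x < 4) →
        ((HeTop.hw.getD i []).map (pT D)).prod ∈ Subgroup.closure (pM D '' Set.Iio 5) := by
      intro i hi hlt
      obtain ⟨hl, hc⟩ := hwv i hi
      have e : ((HeTop.hw.getD i []).map (pT D)).prod = ((heHwV.getD i []).map (pM D)).prod := by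
        rw [show (pT D) = fun i => (heCtx.τ i, D.τ i) from rfl, show (pM D) = fun i => (heCtx.μ i, D.μ i) from rfl,
          prod_pair, prod_pair]
        refine Prod.ext ?_ ?_
        · show heCtx.ev _ = heCtx.evM _
          rw [heCtx.ev_of_lt hlt, evM_vSub heCtx _ hl, (show HasCode (wEl (HeTop.hw.getD i [])) (wCode (vSub (heHwV.getD i []))) from
            hc ▸ hasCode_wEl _).unique (hasCode_wEl _)]
        · show D.ev _ = D.evM _
          rw [D.ev_of_lt hlt, evM_vSub D _ hl, (show HasCode (wEl (HeTop.hw.getD i [])) (wCode (vSub (heHwV.getD i []))) from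
            hc ▸ hasCode_wEl _).unique (hasCode_wEl _)]
      rw [e]
      refine Subgroup.list_prod_mem _ fun x hx => ?_
      obtain ⟨j, hj, rfl⟩ := List.mem_map.mp hx
      exact Subgroup.subset_closure ⟨j, Nat.lt_succ_of_lt (hl j hj), rfl⟩
    fin_cases hu'
    · simpa [hhw] using key 0 (by norm_num) (by rw [hhw]; decide)
    · simpa [hhw] using key 1 (by norm_num) (by rw [hhw]; decide)
    · simpa [hhw] using key 2 (by norm_num) (by rw [hhw]; decide)
    · simpa [hhw] using key 3 (by norm_num) (by rw [hhw]; decide)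
    · have : pT D 4 = pM D 4 := by simp [pT, pM, Ctx.τ, Ctx.μ]
      simpa [this] using Subgroup.subset_closure (k := pM D '' Set.Iio 5) ⟨4, (by norm_num : (4 : ℕ) < 5), rfl⟩
  have := hM.1
  have hT := HeTop.sheet.card_le (pT D) (pT_sq D)
    (show pT D 5 = 1 from Prod.ext (by simp [pT, Ctx.τ]) (by simp [pT, Ctx.τ]))
    (fun r hr => by
      rw [show (pT D) = fun i => (heCtx.τ i, D.τ i) from rfl, prod_pair]
      exact Prod.ext (top_rel D hb r hr).1 (top_rel D hb r hr).2)
    ((Subgroup.closure_le _).mpr (by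
      rintro g ⟨u, hu, rfl⟩
      have hu' : u ∈ ([[0], [1, 2], [3, 0, 3], [3, 1, 3], [4]] : List (List ℕ)) := hhw ▸ hu
      refine Subgroup.list_prod_mem _ fun x hx => ?_
      obtain ⟨i, hi, rfl⟩ := List.mem_map.mp hx
      refine Subgroup.subset_closure ⟨i, ?_, rfl⟩
      show i < 5
      fin_cases hu' <;> simp at hi <;> omega))
    ⟨Finite.of_injective _ (Subgroup.inclusion_injective hsub),
      (Nat.card_le_card_of_injective _ (Subgroup.inclusion_injective hsub)).trans hM.2⟩
  exact hT

/-- The presented Held group embeds compatibly. -/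
theorem exists_heHom : ∃ θ : presHe.Grp →* G, Function.Injective θ ∧ θ.comp heEmb.φ = D.φ ∧ θ heS = D.s := by
  set T := Subgroup.closure (pT D '' Set.Iio 5)
  obtain ⟨hfin, hcard⟩ := card_top D hb
  let π : T →* presHe.Grp := (MonoidHom.fst _ _).comp T.subtype
  have hsurj : Function.Surjective π := by
    have hgen : ∀ j < 7, el [j] ∈ π.range := by
      intro j hj
      obtain ⟨hl, e⟩ := he_gen hj
      rw [e]
      refine Subgroup.list_prod_mem _ fun x hx => ?_
      obtain ⟨i, hi, rfl⟩ := List.mem_map.mp hx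
      exact ⟨⟨pT D i, Subgroup.subset_closure ⟨i, hl i hi, rfl⟩⟩, rfl⟩
    intro g
    have : Subgroup.closure (presHe.σ '' Set.Iio presHe.k) ≤ π.range := by
      rw [Subgroup.closure_le]
      rintro _ ⟨j, hj, rfl⟩
      have := hgen j hj
      simpa [el] using this
    exact this (presHe.gen_closure ▸ Subgroup.mem_top g)
  have hbij : Function.Bijective π :=
    (Nat.bijective_iff_surjective_and_card π).mpr ⟨hsurj, le_antisymm (hcard.trans_eq (by rw [card_grp]))
      (Nat.card_le_card_of_surjective π hsurj)⟩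
  let e := MulEquiv.ofBijective π hbij
  let θ : presHe.Grp →* G := ((MonoidHom.snd _ _).comp T.subtype).comp e.symm.toMonoidHom
  have hθ : ∀ t (ht : t ∈ T), θ t.1 = t.2 := by
    intro t ht
    show ((e.symm (π ⟨t, ht⟩)).1).2 = t.2
    rw [show e.symm (π ⟨t, ht⟩) = ⟨t, ht⟩ from e.symm_apply_apply ⟨t, ht⟩]
  have hgenτ : ∀ i < 5, θ (heCtx.τ i) = D.τ i := fun i hi => hθ (pT D i) (Subgroup.subset_closure ⟨i, hi, rfl⟩)
  have hs : θ heS = D.s := by
    show θ heCtx.s = D.s
    simpa [Ctx.τ] using hgenτ 4 (by norm_num)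
  have hφ : θ.comp heEmb.φ = D.φ := by
    refine MonoidHom.ext fun x => ?_
    obtain ⟨w, rfl⟩ := exists_word x
    induction w with
    | nil => simp [wEl]
    | cons i w ih =>
      rw [show wEl (i :: w) = gen i * wEl w by simp [wEl], map_mul, map_mul, ih]
      congr 1
      by_cases h4 : i < 4
      · show θ (heCtx.φ (gen i)) = D.φ (gen i)
        simpa [Ctx.τ, h4] using hgenτ i (by omega)
      · simp [gen, h4]
  refine ⟨θ, ?_, hφ, hs⟩
  have : IsSimpleGroup presHe.Grp := Cfsg.Agent.S1695.result.1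
  rw [← MonoidHom.ker_eq_bot_iff]
  refine (θ.normal_ker.eq_bot_or_eq_top).resolve_right fun htop => Zh_ne (D.inj ?_)
  rw [map_one, ← hφ]
  show θ (heEmb.φ Zh) = 1
  exact MonoidHom.mem_ker.mp (htop.symm ▸ Subgroup.mem_top _)

end

end CfsgLib.HeldRecog
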