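/-
A subgroup containing the centraliser and controlling the fusion of the central involution.
-/
import Cfsg.Agent.Lib.HeldRecog.Fusion
import Mathlib.GroupTheory.PGroup
import Mathlib.GroupTheory.GroupAction.ConjAct
import Mathlib.GroupTheory.Sylow

set_option autoImplicit false

namespace CfsgLib.HeldRecog

variable {G : Type*} [Group G]

/-- The element is conjugate to the central involution. -/
def Emb.IsZ (D : Emb G) (g : G) : Prop := ∃ h : G, h * D.z * h⁻¹ = g

/-- A subgroup containing the centraliser and controlling the fusion of the central involution. -/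
structure Top (G : Type*) [Group G] extends Emb G where
  /-- the subgroup -/
  G0 : Subgroup G
  φ_mem : ∀ x, φ x ∈ G0
  fus : ∀ x : HS, toEmb.IsZ (φ x) → ∃ g ∈ G0, g * z * g⁻¹ = φ x

theorem Emb.isZ_z (D : Emb G) : D.IsZ D.z := ⟨1, by group⟩

theorem Emb.isZ_conj (D : Emb G) {g : G} (h : D.IsZ g) (w : G) : D.IsZ (w * g * w⁻¹) := by
  obtain ⟨k, rfl⟩ := h
  exact ⟨w * k, by group⟩

theorem Emb.isZ_conj_iff (D : Emb G) {g : G} (w : G) : D.IsZ (w * g * w⁻¹) ↔ D.IsZ g :=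
  ⟨fun h => by simpa [mul_assoc] using D.isZ_conj h w⁻¹, fun h => D.isZ_conj h w⟩

theorem Emb.isZ_sq (D : Emb G) {g : G} (h : D.IsZ g) : g * g = 1 := by
  obtain ⟨k, rfl⟩ := h
  rw [show k * D.z * k⁻¹ * (k * D.z * k⁻¹) = k * (D.z * D.z) * k⁻¹ by group, D.z_sq]
  group

theorem Emb.z_ne (D : Emb G) : D.z ≠ 1 := fun h => Zh_ne (D.inj (by rw [map_one, D.map_Zh, h]))

theorem Emb.not_isZ_one (D : Emb G) : ¬ D.IsZ 1 := fun ⟨_, h⟩ => D.z_ne (conj_eq_one_iff.mp h)

theorem Emb.isZ_one_or (D : Emb G) {g : G} (h : D.IsZ g) : g ≠ 1 := fun e => D.not_isZ_one (e ▸ h)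

/-- Two involutions either are conjugate or centralise a third one in the dihedral group they generate. -/
theorem dihedral_cases [Finite G] {u x : G} (hu : u * u = 1) (hx : x * x = 1) :
    (∃ y : G, y * y = 1 ∧ y * u * y⁻¹ = x ∧ (∀ c, c * u = u * c → c * x = x * c → c * y = y * c) ∧
        ∃ w : G, w * u * w⁻¹ = y ∧ ∀ c, c * u = u * c → c * x = x * c → c * w = w * c) ∨
      ∃ i : G, i * i = 1 ∧ i ≠ 1 ∧ i * u = u * i ∧ i * x = x * i ∧
        (∀ c, c * u = u * c → c * x = x * c → c * i = i * c) ∧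
        ∃ a b : G, (∀ c, c * u = u * c → c * x = x * c → c * a = a * c ∧ c * b = b * c) ∧
          ((a * u * a⁻¹ = u * i ∧ b * x * b⁻¹ = x * i) ∨ (a * x * a⁻¹ = u * i ∧ b * u * b⁻¹ = x * i)) := by
  set r := u * x with hr
  have hui : u⁻¹ = u := inv_eq_of_mul_eq_one_right hu
  have hxi : x⁻¹ = x := inv_eq_of_mul_eq_one_right hx
  have hru : u * r * u⁻¹ = r⁻¹ := by rw [hr, mul_inv_rev, hxi, hui, ← mul_assoc u u x, hu, one_mul]
  have hz : ∀ n : ℤ, u * r ^ n = r ^ (-n) * u := by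
    intro n
    rw [zpow_neg, ← inv_zpow, ← hru, conj_zpow]
    group
  have hx' : x = u * r := by rw [hr, ← mul_assoc, hu, one_mul]
  have hc : ∀ c, c * u = u * c → c * x = x * c → ∀ n : ℤ, c * r ^ n = r ^ n * c := fun c h1 h2 n =>
    ((show Commute c u from h1).mul_right (show Commute c x from h2)).zpow_right n
  rcases Nat.even_or_odd' (orderOf r) with ⟨k, hk | hk⟩
  · right
    have hk0 : 0 < k := by have := orderOf_pos r; omega
    have hi2 : r ^ (k : ℤ) * r ^ (k : ℤ) = 1 := by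
      rw [← zpow_add, show ((k : ℤ) + k) = ((2 * k : ℕ) : ℤ) by push_cast; ring, zpow_natCast, ← hk,
        pow_orderOf_eq_one]
    have hi1 : r ^ (k : ℤ) ≠ 1 := by
      rw [zpow_natCast]
      exact pow_ne_one_of_lt_orderOf (by omega) (by omega)
    have hneg : r ^ (-(k : ℤ)) = r ^ (k : ℤ) := by
      rw [zpow_neg]; exact inv_eq_of_mul_eq_one_right hi2
    have hiu : r ^ (k : ℤ) * u = u * r ^ (k : ℤ) := by rw [hz, hneg]
    refine ⟨r ^ (k : ℤ), hi2, hi1, hiu, ?_, fun c h1 h2 => hc c h1 h2 k, ?_⟩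
    · rw [hx', ← mul_assoc, hiu, mul_assoc, mul_assoc, ← zpow_add_one, ← zpow_one_add, add_comm]
    · have key : ∀ (n m : ℤ), r ^ n * (u * r ^ m) * (r ^ n)⁻¹ = u * r ^ (m - 2 * n) := by
        intro n m
        rw [← mul_assoc, ← neg_neg n, ← hz, neg_neg, mul_assoc u, mul_assoc, ← zpow_neg, ← zpow_add,
          ← zpow_add]
        congr 2
        ring
      rcases Nat.even_or_odd' k with ⟨m, hm | hm⟩
      · refine ⟨r ^ (-(m : ℤ)), r ^ (-(m : ℤ)), fun c h1 h2 => ⟨hc c h1 h2 _, hc c h1 h2 _⟩, Or.inl ⟨?_, ?_⟩⟩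
        · have := key (-(m : ℤ)) 0
          rw [zpow_zero, mul_one] at this
          rw [this]; congr 2; subst hm; push_cast; ring
        · have := key (-(m : ℤ)) 1
          rw [zpow_one, ← hx'] at this
          rw [this, hx', mul_assoc, ← zpow_one_add]; congr 2; subst hm; push_cast; ring
      · refine ⟨r ^ (-(m : ℤ)), r ^ (-(m : ℤ) - 1), fun c h1 h2 => ⟨hc c h1 h2 _, hc c h1 h2 _⟩,
          Or.inr ⟨?_, ?_⟩⟩
        · have := key (-(m : ℤ)) 1
          rw [zpow_one, ← hx'] at this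
          rw [this]; congr 2; subst hm; push_cast; ring
        · have := key (-(m : ℤ) - 1) 0
          rw [zpow_zero, mul_one] at this
          rw [this, hx', mul_assoc, ← zpow_one_add]; congr 2; subst hm; push_cast; ring
  · left
    have h1 : r ^ (2 * (k : ℤ) + 1) = 1 := by
      rw [show (2 * (k : ℤ) + 1) = ((2 * k + 1 : ℕ) : ℤ) by push_cast; ring, zpow_natCast, ← hk,
        pow_orderOf_eq_one]
    have key : ∀ (n : ℤ), r ^ n * u * (r ^ n)⁻¹ = u * r ^ (-2 * n) := by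
      intro n
      rw [← neg_neg n, ← hz, neg_neg, mul_assoc, ← zpow_neg, ← zpow_add]
      congr 2
      ring
    have huc : ∀ n : ℤ, u * r ^ n * u = r ^ (-n) := fun n => by rw [hz, mul_assoc, hu, mul_one]
    have hy2 : u * r ^ (-(k : ℤ)) * (u * r ^ (-(k : ℤ))) = 1 := by
      rw [← mul_assoc, huc, ← zpow_add, neg_neg, add_neg_cancel, zpow_zero]
    refine ⟨u * r ^ (-(k : ℤ)), hy2, ?_, fun c h1' h2 => (show Commute c u from h1').mul_right (hc c h1' h2 _), ?_⟩
    · rw [inv_eq_of_mul_eq_one_right hy2, ← mul_assoc, mul_assoc (u * r ^ (-(k : ℤ))) u u, hu, mul_one,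
        mul_assoc, ← zpow_add, hx']
      congr 1
      calc r ^ (-(k : ℤ) + -(k : ℤ)) = r ^ (2 * (k : ℤ) + 1) * r ^ (-(k : ℤ) + -(k : ℤ)) := by rw [h1, one_mul]
        _ = r ^ (1 : ℤ) := by rw [← zpow_add]; congr 1; ring
        _ = r := zpow_one r
    · have hd : (2 * (k : ℤ) + 1) % 2 = 1 := by omega
      rcases Int.even_or_odd' (-(k : ℤ)) with ⟨j, hj | hj⟩
      · refine ⟨r ^ (-j), ?_, fun c h1' h2 => hc c h1' h2 _⟩
        rw [key]; congr 2; omega
      · refine ⟨r ^ (-(j + (k : ℤ) + 1)), ?_, fun c h1' h2 => hc c h1' h2 _⟩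
        rw [key, show -2 * -(j + (k : ℤ) + 1) = -(k : ℤ) + (2 * (k : ℤ) + 1) by omega, zpow_add, h1, mul_one]

/-- Counting the fixed points of a 2-subgroup acting by conjugation. -/
theorem conj_count {H : Type*} [Group H] [Finite H] {P : Subgroup H} (hP : IsPGroup 2 P) (S : H → Prop)
    (hS : ∀ g ∈ P, ∀ x, S x → S (g * x * g⁻¹)) :
    Nat.card {x // S x} % 2 = Nat.card {x // S x ∧ ∀ g ∈ P, g * x = x * g} % 2 := by
  let act : MulAction P {x // S x} :=
    { smul := fun g x => ⟨g.1 * x.1 * g.1⁻¹, hS g.1 g.2 x.1 x.2⟩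
      one_smul := fun x => Subtype.ext (by show ((1 : P) : H) * x.1 * ((1 : P) : H)⁻¹ = x.1; simp)
      mul_smul := fun g h x => Subtype.ext (by
        show ((g * h : P) : H) * x.1 * ((g * h : P) : H)⁻¹ = g.1 * (h.1 * x.1 * h.1⁻¹) * g.1⁻¹
        simp [mul_assoc]) }
  have h := hP.card_modEq_card_fixedPoints (α := {x // S x})
  have e : Nat.card (MulAction.fixedPoints P {x // S x}) = Nat.card {x // S x ∧ ∀ g ∈ P, g * x = x * g} :=
    Nat.card_congr
      { toFun := fun x => ⟨x.1.1, x.1.2, fun g hg => mul_inv_eq_iff_eq_mul.mp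
          (congrArg Subtype.val (x.2 ⟨g, hg⟩))⟩
        invFun := fun x => ⟨⟨x.1, x.2.1⟩, fun g => Subtype.ext (mul_inv_eq_iff_eq_mul.mpr (x.2.2 g.1 g.2))⟩
        left_inv := fun x => rfl
        right_inv := fun x => rfl }
  rw [e] at h
  exact h

theorem dvd_centSize {k : ℕ} (hk : k < 8) (h : 1024 ∣ centSize.getD k 0) : k = 6 := by
  interval_cases k <;> simp [centSize] at h ⊢

namespace Top

variable (D : Top G)

theorem z_mem : D.z ∈ D.G0 := D.map_Zh ▸ D.φ_mem Zh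

theorem comm_mem {g : G} (h : g * D.z = D.z * g) : g ∈ D.G0 := by
  obtain ⟨x, rfl⟩ := (D.mem_range g).mp h
  exact D.φ_mem x

variable [Finite G]

theorem finite_HS (D : Top G) : Finite HS := Finite.of_injective D.φ D.inj

/-- The conjugates of the central involution inside the centraliser form a set of odd size. -/
theorem odd_fusion : Nat.card {x : HS // D.IsZ (D.φ x)} % 2 = 1 := by
  have := D.finite_HS
  obtain ⟨P⟩ : Nonempty (Sylow 2 HS) := inferInstance
  rw [conj_count P.2 (fun x => D.IsZ (D.φ x)) (fun g _ x hx => by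
    rw [map_mul, map_mul, map_inv]; exact D.isZ_conj hx _)]
  have : Unique {x : HS // D.IsZ (D.φ x) ∧ ∀ g ∈ (P : Subgroup HS), g * x = x * g} := by
    refine ⟨⟨⟨Zh, by rw [D.map_Zh]; exact D.isZ_z, fun g _ => Zh_comm g⟩⟩, ?_⟩
    rintro ⟨x, hx, hc⟩
    refine Subtype.ext ?_
    show x = Zh
    have h2 : x * x = 1 := D.inj (by rw [map_mul, map_one]; exact D.isZ_sq hx)
    have h1 : x ≠ 1 := by rintro rfl; rw [map_one] at hx; exact D.not_isZ_one hx
    obtain ⟨k, hk, y, hy⟩ := inv_cases h2 h1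
    let K : Subgroup HS :=
      { carrier := {g | g * x = x * g}
        one_mem' := by simp
        mul_mem' := fun {a b} (ha : a * x = x * a) (hb : b * x = x * b) => show a * b * x = x * (a * b) by
          rw [mul_assoc, hb, ← mul_assoc, ha, mul_assoc]
        inv_mem' := fun {a} (ha : a * x = x * a) => show a⁻¹ * x = x * a⁻¹ from
          (show Commute a x from ha).inv_left }
    have hd : Nat.card (P : Subgroup HS) ∣ Nat.card K := Subgroup.card_dvd_of_le fun g hg => hc g hg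
    have hcK : Nat.card K = centSize.getD k 0 := by
      rw [← card_cent_rep hk, ← Emb.conj_comm_card hy]
      rfl
    have hP : 1024 ∣ Nat.card (P : Subgroup HS) := by
      refine Nat.Coprime.dvd_of_dvd_mul_right (n := (P : Subgroup HS).index) ?_ ?_
      · have h2' : Nat.Coprime 2 (P : Subgroup HS).index :=
          (Nat.Prime.coprime_iff_not_dvd Nat.prime_two).mpr P.not_dvd_index
        exact h2'.pow_left 10
      · rw [Subgroup.card_mul_index, card_HS]
        exact ⟨21, by norm_num⟩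
    obtain rfl := dvd_centSize hk (hcK ▸ hP.trans hd)
    rw [hy, rep_six, Zh_comm, mul_inv_cancel_right]
  rw [Nat.card_unique]

/-- The conjugates of the central involution under the subgroup form a set of odd size. -/
theorem odd_orbit : Nat.card {y : G // ∃ g ∈ D.G0, g * D.z * g⁻¹ = y} % 2 = 1 := by
  have hp : IsPGroup 2 (Subgroup.zpowers D.z) := IsPGroup.of_card (n := 1) (by
    rw [Nat.card_zpowers, orderOf_eq_prime (by rw [pow_two]; exact D.z_sq) D.z_ne, pow_one])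
  rw [conj_count hp _ (fun g hg x hx => by
    obtain ⟨k, hk, rfl⟩ := hx
    exact ⟨g * k, mul_mem (Subgroup.zpowers_le.mpr D.z_mem hg) hk, by group⟩), ← D.odd_fusion]
  refine congrArg (· % 2) (Nat.card_eq_of_bijective (fun x : {x : HS // D.IsZ (D.φ x)} =>
    (⟨D.φ x.1, D.fus x.1 x.2, fun g hg => ?_⟩ : {y : G // (∃ g ∈ D.G0, g * D.z * g⁻¹ = y) ∧
      ∀ g ∈ Subgroup.zpowers D.z, g * y = y * g})) ⟨fun a b h => Subtype.ext (D.inj (congrArg Subtype.val h)),
    fun t => ?_⟩).symm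
  · obtain ⟨n, rfl⟩ := hg
    exact ((show Commute (D.φ x.1) D.z from D.comm_z x.1).zpow_right n).symm
  · obtain ⟨x, hx⟩ := (D.mem_range t.1).mp (t.2.2 D.z (Subgroup.mem_zpowers _)).symm
    obtain ⟨g, -, hg⟩ := t.2.1
    exact ⟨⟨x, ⟨g, hg.trans hx.symm⟩⟩, Subtype.ext hx⟩

/-- A 2-subgroup of the subgroup centralises some conjugate of the central involution in it. -/
theorem exists_cent {P : Subgroup G} (hP : IsPGroup 2 P) (hle : P ≤ D.G0) :
    ∃ g ∈ D.G0, ∀ p ∈ P, p * (g * D.z * g⁻¹) = g * D.z * g⁻¹ * p := by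
  have h := conj_count hP (fun y => ∃ g ∈ D.G0, g * D.z * g⁻¹ = y) (fun g hg x hx => by
    obtain ⟨k, hk, rfl⟩ := hx
    exact ⟨g * k, mul_mem (hle hg) hk, by group⟩)
  rw [D.odd_orbit] at h
  obtain ⟨⟨y, ⟨g, hg, rfl⟩, hc⟩⟩ :
      Nonempty {y // (∃ g ∈ D.G0, g * D.z * g⁻¹ = y) ∧ ∀ p ∈ P, p * y = y * p} := by
    by_contra hne
    rw [not_nonempty_iff] at hne
    rw [Nat.card_of_isEmpty] at h
    simp at h
  exact ⟨g, hg, hc⟩

/-- An element carrying the central involution into the subgroup lies in it. -/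
theorem single_z {g : G} (h : g * D.z * g⁻¹ ∈ D.G0) : g ∈ D.G0 := by
  set y := g * D.z * g⁻¹ with hy
  have hy2 : y * y = 1 := D.isZ_sq ⟨g, rfl⟩
  obtain ⟨h', hh', hc⟩ := D.exists_cent (P := Subgroup.zpowers y) (IsPGroup.of_card (n := 1) (by
    rw [Nat.card_zpowers, orderOf_eq_prime (by rw [pow_two]; exact hy2) (D.isZ_one_or ⟨g, rfl⟩), pow_one]))
    (Subgroup.zpowers_le.mpr h)
  have e := Emb.comm_conj (g := h'⁻¹) (hc y (Subgroup.mem_zpowers y))
  rw [show h'⁻¹ * (h' * D.z * h'⁻¹) * h'⁻¹⁻¹ = D.z by group] at e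
  obtain ⟨x, hx⟩ := (D.mem_range _).mp e
  obtain ⟨k, hk, hkx⟩ := D.fus x ⟨h'⁻¹ * g, by rw [hx, hy]; group⟩
  have hm : (k⁻¹ * h'⁻¹ * g) * D.z = D.z * (k⁻¹ * h'⁻¹ * g) := by
    refine mul_inv_eq_iff_eq_mul.mp ?_
    calc k⁻¹ * h'⁻¹ * g * D.z * (k⁻¹ * h'⁻¹ * g)⁻¹ = k⁻¹ * (h'⁻¹ * y * h'⁻¹⁻¹) * k := by rw [hy]; group
      _ = k⁻¹ * (k * D.z * k⁻¹) * k := by rw [← hx, hkx]
      _ = D.z := by group
  have := mul_mem (mul_mem hh' hk) (D.comm_mem hm)
  rwa [show h' * k * (k⁻¹ * h'⁻¹ * g) = g by group] at this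

theorem single_isZ {y : G} (hy : D.IsZ y) (h : y ∈ D.G0) {l : G} (hl : l⁻¹ * y * l ∈ D.G0) : l ∈ D.G0 := by
  obtain ⟨g, rfl⟩ := hy
  have h1 := D.single_z h
  have h2 : l⁻¹ * g ∈ D.G0 := D.single_z (by
    rwa [show l⁻¹ * g * D.z * (l⁻¹ * g)⁻¹ = l⁻¹ * (g * D.z * g⁻¹) * l by group])
  have := mul_mem h1 (inv_mem h2)
  rwa [show g * (l⁻¹ * g)⁻¹ = l by group] at this

theorem cent_isZ {y : G} (hy : D.IsZ y) (h : y ∈ D.G0) {g : G} (hg : g * y = y * g) : g ∈ D.G0 :=
  D.single_isZ hy h (by rwa [mul_assoc, ← hg, ← mul_assoc, inv_mul_cancel, one_mul])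

end Top

end CfsgLib.HeldRecog
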