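/-
Criteria for the centraliser of a pure elementary subgroup to lie in the controlling subgroup.
-/
import Cfsg.Agent.Lib.HeldRecog.Top

set_option autoImplicit false

namespace CfsgLib.HeldRecog

variable {G : Type*} [Group G]

namespace Top

variable (D : Top G)

/-- An elementary abelian subgroup without conjugates of the central involution. -/
structure Pure (P : Subgroup G) : Prop where
  le : P ≤ D.G0
  sq : ∀ p ∈ P, p * p = 1
  no : ∀ p ∈ P, ¬ D.IsZ p

/-- The element centralises the subgroup. -/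
def Cn (P : Subgroup G) (w : G) : Prop := ∀ p ∈ P, w * p = p * w

/-- The conjugate of the subgroup lies in the controlling one. -/
def InAt (P : Subgroup G) (g : G) : Prop := ∀ p ∈ P, g⁻¹ * p * g ∈ D.G0

/-- The subgroup fixes a single coset. -/
def Single (P : Subgroup G) : Prop := ∀ g, D.InAt P g → g ∈ D.G0

/-- Every pure extension fixes a single coset. -/
def Next (P : Subgroup G) : Prop :=
  ∀ i ∈ D.G0, i * i = 1 → Cn P i → i ∉ P → (∀ p ∈ P, ¬ D.IsZ (i * p)) →
    ∀ g, D.InAt P g → g⁻¹ * i * g ∈ D.G0 → g ∈ D.G0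

variable {D} {P : Subgroup G}

theorem Cn.mul {a b : G} (ha : Cn P a) (hb : Cn P b) : Cn P (a * b) := fun p hp =>
  (show Commute a p from ha p hp).mul_left (show Commute b p from hb p hp)

theorem Cn.inv {a : G} (ha : Cn P a) : Cn P a⁻¹ := fun p hp => (show Commute a p from ha p hp).inv_left

theorem Cn.fix {a : G} (ha : Cn P a) {p : G} (hp : p ∈ P) : a * p * a⁻¹ = p :=
  mul_inv_eq_iff_eq_mul.mpr (ha p hp)

theorem Pure.inAt (h : D.Pure P) {l : G} (hl : Cn P l) : D.InAt P l := fun p hp => by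
  rw [mul_assoc, ← hl p hp, ← mul_assoc, inv_mul_cancel, one_mul]
  exact h.le hp

theorem Pure.cn (h : D.Pure P) {p : G} (hp : p ∈ P) : Cn P p := fun q hq => by
  have e := h.sq _ (mul_mem hp hq)
  have hi : (p * q)⁻¹ = p * q := inv_eq_of_mul_eq_one_right e
  rw [mul_inv_rev, inv_eq_of_mul_eq_one_right (h.sq p hp), inv_eq_of_mul_eq_one_right (h.sq q hq)] at hi
  exact hi.symm

/-- Conjugation by a centralising element does not change which translates are conjugates. -/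
theorem isZ_translate {w : G} (hw : Cn P w) {u p : G} (hp : p ∈ P) :
    D.IsZ (w * u * w⁻¹ * p) ↔ D.IsZ (u * p) := by
  rw [show w * u * w⁻¹ * p = w * (u * p) * w⁻¹ by
    conv_lhs => rw [← hw.fix hp]
    group]
  exact D.isZ_conj_iff w

variable [Finite G]

theorem Pure.isPGroup (h : D.Pure P) : IsPGroup 2 P := fun p => ⟨1, by
  refine Subtype.ext ?_
  rw [pow_one, pow_two]
  exact h.sq p.1 p.2⟩

theorem single_of_cent (h : D.Pure P) (hc : ∀ l, Cn P l → l ∈ D.G0) : D.Single P := by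
  intro g hg
  let Q : Subgroup G := P.map (MulAut.conj g⁻¹).toMonoidHom
  have hQ : Q ≤ D.G0 := by
    rintro _ ⟨p, hp, rfl⟩
    simpa using hg p hp
  obtain ⟨k, hk, hkc⟩ := D.exists_cent (P := Q) (h.isPGroup.map _) hQ
  have hu : Cn P (g * (k * D.z * k⁻¹) * g⁻¹) := by
    intro p hp
    have e := Emb.comm_conj (g := g) (hkc _ ⟨p, hp, rfl⟩)
    simp only [MulEquiv.coe_toMonoidHom, MulAut.conj_apply, inv_inv] at e
    rw [show g * (g⁻¹ * p * g) * g⁻¹ = p by group] at e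
    exact e.symm
  have h1 := hc _ hu
  rw [show g * (k * D.z * k⁻¹) * g⁻¹ = g * k * D.z * (g * k)⁻¹ by group] at h1
  have h2 := mul_mem (D.single_z h1) (inv_mem hk)
  rwa [mul_inv_cancel_right] at h2

/-- An involution commuting with the subgroup and fixed on both sides lies in it. -/
theorem mem_of_fixed (h : D.Pure P) (hn : D.Next P) {l i : G} (hl : Cn P l) (hlG : l ∉ D.G0)
    (hi : i * i = 1) (hiP : Cn P i) (hi0 : i ∈ D.G0) (hil : l⁻¹ * i * l ∈ D.G0) : i ∈ P := by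
  by_contra hni
  by_cases hz : ∃ p ∈ P, D.IsZ (i * p)
  · obtain ⟨p, hp, hz⟩ := hz
    refine hlG (D.single_isZ hz (mul_mem hi0 (h.le hp)) ?_)
    have := mul_mem hil (h.inAt hl p hp)
    rwa [show l⁻¹ * i * l * (l⁻¹ * p * l) = l⁻¹ * (i * p) * l by group] at this
  · push_neg at hz
    exact hlG (hn i hi0 hi hiP hni hz l (h.inAt hl) hil)

/-- A conjugate with no translate in the class and a pure extension. -/
theorem cent_of_ext (h : D.Pure P) (hn : D.Next P) {u c : G} (hu : D.IsZ u) (hu0 : u ∈ D.G0) (huP : Cn P u)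
    (hT : ∀ p ∈ P, p ≠ 1 → ¬ D.IsZ (u * p)) (hc : c * c = 1) (hc0 : c ∈ D.G0) (hcP : Cn P c) (hcn : c ∉ P)
    (hcz : ∀ p ∈ P, ¬ D.IsZ (c * p)) : ∀ l, Cn P l → l ∈ D.G0 := by
  intro l hl
  by_contra hlG
  set x := l * u * l⁻¹ with hx
  have hxP : Cn P x := (hl.mul huP).mul hl.inv
  have hxz : D.IsZ x := D.isZ_conj hu l
  rcases dihedral_cases hc (D.isZ_sq hxz) with ⟨y, -, hy, -⟩ | ⟨i, hi, hi1, hic, hix, hcent, a, b, hab, hcase⟩
  · have := hcz 1 P.one_mem
    rw [mul_one, ← D.isZ_conj_iff y, hy] at this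
    exact this hxz
  · have hiP : Cn P i := fun p hp => (hcent p (hcP p hp).symm (hxP p hp).symm).symm
    have hi0 : i ∈ D.G0 := hn c hc0 hc hcP hcn hcz i (h.inAt hiP) (by
      rw [mul_assoc, ← hic]
      rwa [← mul_assoc, inv_mul_cancel, one_mul])
    have hil : l⁻¹ * i * l ∈ D.G0 := by
      refine D.cent_isZ hu hu0 ?_
      have e := Emb.comm_conj (g := l⁻¹) hix
      rw [hx, show l⁻¹ * (l * u * l⁻¹) * l⁻¹⁻¹ = u by group, inv_inv] at e
      exact e
    have hmem := mem_of_fixed h hn hl hlG hi hiP hi0 hil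
    rcases hcase with ⟨-, hb⟩ | ⟨ha, -⟩
    · have := D.isZ_conj hxz b
      rw [hb, isZ_translate hl hmem] at this
      exact hT i hmem hi1 this
    · have := D.isZ_conj hxz a
      rw [ha] at this
      exact hcz i hmem this

/-- Two conjugates with disjoint sets of translates in the class, not conjugate in the subgroup. -/
theorem cent_of_pair (h : D.Pure P) (hn : D.Next P) {u v : G} (hu : D.IsZ u) (hu0 : u ∈ D.G0) (huP : Cn P u)
    (hv : D.IsZ v) (hv0 : v ∈ D.G0) (hvP : Cn P v)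
    (hT : ∀ p ∈ P, p ≠ 1 → D.IsZ (u * p) → ¬ D.IsZ (v * p))
    (hconj : ∀ w ∈ D.G0, Cn P w → w * u * w⁻¹ ≠ v) : ∀ l, Cn P l → l ∈ D.G0 := by
  intro l hl
  by_contra hlG
  set x := l * v * l⁻¹ with hx
  have hxP : Cn P x := (hl.mul hvP).mul hl.inv
  have hxz : D.IsZ x := D.isZ_conj hv l
  rcases dihedral_cases (D.isZ_sq hu) (D.isZ_sq hxz) with
    ⟨y, -, hy, hyc, -⟩ | ⟨i, hi, hi1, hiu, hix, hcent, a, b, hab, hcase⟩
  · have hyP : Cn P y := fun p hp => (hyc p (huP p hp).symm (hxP p hp).symm).symm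
    have e : l⁻¹ * y * u * (l⁻¹ * y)⁻¹ = v := by
      calc l⁻¹ * y * u * (l⁻¹ * y)⁻¹ = l⁻¹ * (y * u * y⁻¹) * l := by group
        _ = v := by rw [hy, hx]; group
    refine hconj (l⁻¹ * y) (D.single_isZ hv hv0 ?_) (hl.inv.mul hyP) e
    rw [← e, show (l⁻¹ * y)⁻¹ * (l⁻¹ * y * u * (l⁻¹ * y)⁻¹) * (l⁻¹ * y) = u by group]
    exact hu0
  · have hiP : Cn P i := fun p hp => (hcent p (huP p hp).symm (hxP p hp).symm).symm
    have hi0 : i ∈ D.G0 := D.cent_isZ hu hu0 hiu
    have hil : l⁻¹ * i * l ∈ D.G0 := by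
      refine D.cent_isZ hv hv0 ?_
      have e := Emb.comm_conj (g := l⁻¹) hix
      rw [hx, show l⁻¹ * (l * v * l⁻¹) * l⁻¹⁻¹ = v by group, inv_inv] at e
      exact e
    have hmem := mem_of_fixed h hn hl hlG hi hiP hi0 hil
    have key : D.IsZ (u * i) ∧ D.IsZ (x * i) := by
      rcases hcase with ⟨ha, hb⟩ | ⟨ha, hb⟩
      · exact ⟨ha ▸ D.isZ_conj hu a, hb ▸ D.isZ_conj hxz b⟩
      · exact ⟨ha ▸ D.isZ_conj hxz a, hb ▸ D.isZ_conj hu b⟩
    rw [isZ_translate hl hmem] at key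
    exact hT i hmem hi1 key.1 key.2

end Top

end CfsgLib.HeldRecog
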