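/-
Codes of elementary subgroups of the centraliser and their images in the group.
-/
import Cfsg.Agent.Lib.HeldRecog.Crit
import Cfsg.Agent.Lib.HeldRecog.InvData
import Cfsg.Agent.Lib.HeldRecog.Enum

set_option autoImplicit false
set_option maxRecDepth 100000

namespace CfsgLib.HeldRecog

open CfsgLib.CosetEnum CfsgLib.HeCent

/-- The class of an involution code, or 8 if it is not listed. -/
noncomputable def clsOf (c : ℕ) : ℕ :=
  List.rec 8 (fun e _ ih => cond (Nat.beq e.1 c) e.2.1 ih) (invT.getD (Nat.mod (Nat.div c 32) 64) [])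

/-- The check of one entry of the table of involutions. -/
noncomputable def invEntryOK (e : ℕ × ℕ × ℕ) : Bool :=
  Nat.blt e.2.1 8 && force (codeN e.2.2) fun n => Nat.beq (mulF n (clsCode e.2.1)) (mulF e.1 n) &&
    Nat.blt e.1 (2 ^ 25)

theorem invT_ok : (invT.all fun l => l.all invEntryOK) = true := by decide +kernel

/-- A listed code is that of a conjugate of the representative of its class. -/
theorem cls_elem {c : ℕ} (h : clsOf c < 8) : ∃ y : HS, HasCode (y * rep (clsOf c) * y⁻¹) c := by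
  have key : ∀ l : List (ℕ × ℕ × ℕ), (List.rec 8 (fun e _ ih => cond (Nat.beq e.1 c) e.2.1 ih) l : ℕ) < 8 →
      ∃ e ∈ l, e.1 = c ∧ e.2.1 = (List.rec 8 (fun e _ ih => cond (Nat.beq e.1 c) e.2.1 ih) l : ℕ) := by
    intro l
    induction l with
    | nil => intro h; exact absurd h (by simp)
    | cons e l ih =>
      intro hl
      by_cases he : e.1 = c
      · exact ⟨e, List.mem_cons_self, he, by simp [he]⟩
      · have hb : Nat.beq e.1 c = false := by
          rw [← Bool.not_eq_true]; exact fun h' => he (Nat.beq_eq.mp h')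
        simp only [hb, cond_false] at hl ⊢
        obtain ⟨e', he', h1, h2⟩ := ih hl
        exact ⟨e', List.mem_cons_of_mem _ he', h1, h2⟩
  obtain ⟨e, he, h1, h2⟩ := key _ h
  have hmem : ∃ l ∈ invT, e ∈ l := by
    by_cases hi : Nat.mod (Nat.div c 32) 64 < invT.length
    · exact ⟨_, getD_mem hi [], he⟩
    · rw [List.getD_eq_default _ _ (Nat.le_of_not_lt hi)] at he
      exact absurd he List.not_mem_nil
  obtain ⟨l, hl, hel⟩ := hmem
  have hok := List.all_eq_true.mp (List.all_eq_true.mp invT_ok l hl) e hel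
  simp only [invEntryOK, force_eq, Bool.and_eq_true, blt_iff, Nat.beq_eq] at hok
  obtain ⟨hk, hm, hc⟩ := hok
  have hkk : clsOf c = e.2.1 := h2.symm
  refine ⟨eltN e.2.2, ?_, h1 ▸ hc⟩
  rw [hkk, mx_mul, mx_mul, (hasCode_eltN _).1, (rep_hasCode hk).1, mat_mulF, hm, ← mat_mulF,
    Matrix.mul_assoc, ← (hasCode_eltN e.2.2).1, ← mx_mul, mul_inv_cancel, mx_one, show mat oneCode = 1 from mat_one, Matrix.mul_one, h1]

theorem inv_entry {x : HS} {c : ℕ} (hx : HasCode x c) (h : clsOf c < 8) :
    ∃ y : HS, x = y * rep (clsOf c) * y⁻¹ :=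
  (cls_elem h).imp fun _ hy => hx.unique hy

/-- The code is that of an element in one of the given classes. -/
noncomputable def isZb (zc : List ℕ) (c : ℕ) : Bool := force (clsOf c) fun k => zc.contains k

/-- The code is that of an element in one of the other classes. -/
noncomputable def isNb (zc : List ℕ) (c : ℕ) : Bool := force (clsOf c) fun k => Nat.blt k 8 && !zc.contains k

/-- The code is that of the identity or of an element in one of the other classes. -/
noncomputable def isPb (zc : List ℕ) (c : ℕ) : Bool := Nat.beq c oneCode || isNb zc c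

/-- The classes of the conjugates of the central involution inside the centraliser. -/
structure Case {G : Type*} [Group G] (D : Top G) (zc : List ℕ) : Prop where
  lt : ∀ k ∈ zc, k < 8
  six : 6 ∈ zc
  hz : ∀ k ∈ zc, D.IsZ (D.φ (rep k))
  hnz : ∀ k < 8, k ∉ zc → ¬ D.IsZ (D.φ (rep k))

variable {G : Type*} [Group G] {D : Top G} {zc : List ℕ}

theorem Case.isZb_sound (K : Case D zc) {x : HS} {c : ℕ} (hx : HasCode x c) (h : isZb zc c = true) :
    D.IsZ (D.φ x) := by
  rw [isZb, force_eq, List.contains_iff_mem] at h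
  obtain ⟨y, rfl⟩ := inv_entry hx (K.lt _ h)
  rw [map_mul, map_mul, map_inv]
  exact D.isZ_conj (K.hz _ h) _

theorem Case.isNb_sound (K : Case D zc) {x : HS} {c : ℕ} (hx : HasCode x c) (h : isNb zc c = true) :
    ¬ D.IsZ (D.φ x) := by
  rw [isNb, force_eq, Bool.and_eq_true, blt_iff, Bool.not_eq_true', ← Bool.not_eq_true,
    List.contains_iff_mem] at h
  obtain ⟨y, rfl⟩ := inv_entry hx h.1
  rw [map_mul, map_mul, map_inv, D.isZ_conj_iff]
  exact K.hnz _ h.1 h.2

theorem Case.isPb_sound (K : Case D zc) {x : HS} {c : ℕ} (hx : HasCode x c) (h : isPb zc c = true) :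
    ¬ D.IsZ (D.φ x) := by
  rw [isPb, Bool.or_eq_true] at h
  rcases h with h | h
  · rw [(hx.eq_iff HasCode.one).mpr (Nat.beq_eq.mp h), map_one]
    exact D.not_isZ_one
  · exact K.isNb_sound hx h

/-- The subgroup of a list of codes. -/
noncomputable def lSub (L : List ℕ) : Subgroup HS := Subgroup.closure {x | ∃ c ∈ L, HasCode x c}

/-- The list is that of an elementary subgroup with all elements in the other classes. -/
noncomputable def pureOK (zc : List ℕ) (L : List ℕ) : Bool :=
  L.contains oneCode && L.all fun a => isPb zc a && Nat.beq (mulF a a) oneCode &&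
    L.all fun b => L.contains (mulF a b)

/-- The image of the subgroup of a list of codes. -/
noncomputable def pSub (D : Top G) (L : List ℕ) : Subgroup G := (lSub L).map D.φ

theorem mem_lSub {L : List ℕ} (h : pureOK zc L = true) {x : HS} : x ∈ lSub L ↔ ∃ c ∈ L, HasCode x c := by
  simp only [pureOK, Bool.and_eq_true, List.all_eq_true, List.contains_iff_mem, Nat.beq_eq] at h
  refine ⟨fun hx => ?_, fun hx => Subgroup.subset_closure hx⟩
  induction hx using Subgroup.closure_induction with
  | mem x hx => exact hx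
  | one => exact ⟨_, h.1, HasCode.one⟩
  | mul x y _ _ hx hy =>
    obtain ⟨a, ha, hxa⟩ := hx
    obtain ⟨b, hb, hyb⟩ := hy
    exact ⟨_, (h.2 a ha).2 b hb, hxa.mul hyb⟩
  | inv x _ hx =>
    obtain ⟨a, ha, hxa⟩ := hx
    refine ⟨a, ha, ?_⟩
    rwa [inv_eq_of_mul_eq_one_right (((hxa.mul hxa).eq_iff HasCode.one).mpr (h.2 a ha).1.2)]

theorem mem_pSub {L : List ℕ} (h : pureOK zc L = true) {p : G} :
    p ∈ pSub D L ↔ ∃ x, (∃ c ∈ L, HasCode x c) ∧ D.φ x = p := by
  simp only [pSub, Subgroup.mem_map, mem_lSub h]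

theorem Case.pure_pSub (K : Case D zc) {L : List ℕ} (h : pureOK zc L = true) : D.Pure (pSub D L) := by
  have h' := h
  simp only [pureOK, Bool.and_eq_true, List.all_eq_true, Nat.beq_eq] at h'
  constructor
  · intro p hp
    obtain ⟨x, -, rfl⟩ := (mem_pSub h).mp hp
    exact D.φ_mem x
  · intro p hp
    obtain ⟨x, ⟨c, hc, hx⟩, rfl⟩ := (mem_pSub h).mp hp
    rw [← map_mul, ((hx.mul hx).eq_iff HasCode.one).mpr (h'.2 c hc).1.2, map_one]
  · intro p hp
    obtain ⟨x, ⟨c, hc, hx⟩, rfl⟩ := (mem_pSub h).mp hp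
    exact K.isPb_sound hx (h'.2 c hc).1.1

/-- The code commutes with all codes of the list. -/
noncomputable def commL (L : List ℕ) (c : ℕ) : Bool := L.all fun a => Nat.beq (mulF c a) (mulF a c)

theorem cn_of_commL {L : List ℕ} (h : pureOK zc L = true) {x : HS} {c : ℕ} (hx : HasCode x c)
    (hc : commL L c = true) : Top.Cn (pSub D L) (D.φ x) := by
  intro p hp
  obtain ⟨y, ⟨a, ha, hy⟩, rfl⟩ := (mem_pSub h).mp hp
  rw [← map_mul, ← map_mul, ((hx.mul hy).eq_iff (hy.mul hx)).mpr (Nat.eq_of_beq_eq_true (List.all_eq_true.mp hc a ha))]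

theorem commL_of_cn {L : List ℕ} (h : pureOK zc L = true) {x : HS} {c : ℕ} (hx : HasCode x c)
    (hc : Top.Cn (pSub D L) (D.φ x)) : commL L c = true := by
  refine List.all_eq_true.mpr fun a ha => Nat.beq_eq.mpr ?_
  have hp : (pureOK zc L) = true := h
  simp only [pureOK, Bool.and_eq_true, List.all_eq_true] at hp
  have hna := (hp.2 a ha).1.1
  obtain ⟨y, hy⟩ : ∃ y : HS, HasCode y a := by
    rw [isPb, Bool.or_eq_true] at hna
    rcases hna with hna | hna
    · exact ⟨1, Nat.beq_eq.mp hna ▸ HasCode.one⟩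
    · rw [isNb, force_eq, Bool.and_eq_true, blt_iff] at hna
      exact (cls_elem hna.1).elim fun _ hy => ⟨_, hy⟩
  refine (hx.mul hy).eq ?_
  rw [D.inj (show D.φ (x * y) = D.φ (y * x) by
    rw [map_mul, map_mul]; exact hc _ ((mem_pSub h).mpr ⟨y, ⟨a, ha, hy⟩, rfl⟩))]
  exact hy.mul hx

end CfsgLib.HeldRecog
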