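/-
Certificates that the controlling subgroup is everything.
-/
import Cfsg.Agent.Lib.HeldRecog.Codes

set_option autoImplicit false
set_option maxRecDepth 100000

namespace CfsgLib.HeldRecog

open CfsgLib.CosetEnum CfsgLib.HeCent

/-- A certified four-group: class, partner, kind and witnesses of the criterion, triples. -/
structure PairRow where
  /-- the class of the first element -/
  k : ℕ
  /-- the index of the second element -/
  y : ℕ
  /-- the criterion: extension, pair or external -/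
  kind : ℕ
  /-- the first witness -/
  u : ℕ
  /-- the second witness -/
  v : ℕ
  /-- the extensions with their witnesses -/
  trip : List (ℕ × ℕ × ℕ)

/-- The four-group of a row. -/
noncomputable def rowL (e : PairRow) : List ℕ :=
  force (clsCode e.k) fun r => force (codeN e.y) fun c => [oneCode, r, c, mulF r c]

/-- The extension of a four-group. -/
noncomputable def tripL (L : List ℕ) (w : ℕ) : List ℕ := L ++ L.map fun a => mulF a w

/-- The code is an involution extending the list purely. -/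
noncomputable def extB (zc : List ℕ) (L : List ℕ) (c : ℕ) : Bool :=
  Nat.beq (mulF c c) oneCode && !L.contains c && commL L c && L.all fun p => !isZb zc (mulF c p)

/-- The witnesses of the criterion with an extension. -/
noncomputable def extCritB (zc : List ℕ) (L : List ℕ) (u c : ℕ) : Bool :=
  isZb zc u && commL L u && (L.all fun p => Nat.beq p oneCode || isNb zc (mulF u p)) &&
    Nat.beq (mulF c c) oneCode && !L.contains c && commL L c && L.all fun p => isNb zc (mulF c p)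

/-- The witnesses of the criterion with two conjugates. -/
noncomputable def pairCritB (zc : List ℕ) (L : List ℕ) (u v : ℕ) : Bool :=
  isZb zc u && commL L u && isZb zc v && commL L v &&
    (L.all fun p => Nat.beq p oneCode || isNb zc (mulF u p) || isNb zc (mulF v p)) &&
    L.any fun p => (isZb zc (mulF u p) && isNb zc (mulF v p)) || (isNb zc (mulF u p) && isZb zc (mulF v p))

/-- The check of a row. -/
noncomputable def rowB (zc : List ℕ) (e : PairRow) : Bool :=
  Nat.blt e.k 8 && pureOK zc (rowL e) &&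
    (match e.kind with
    | 0 => extCritB zc (rowL e) (codeN e.u) (codeN e.v)
    | 1 => pairCritB zc (rowL e) (codeN e.u) (codeN e.v)
    | _ => true) &&
    ((centList e.k).all fun m => !extB zc (rowL e) (codeN m) || e.trip.any fun t => Nat.beq t.1 m) &&
    e.trip.all fun t => force (codeN t.1) fun w => pureOK zc (tripL (rowL e) w) && !(rowL e).contains w &&
      pairCritB zc (tripL (rowL e) w) (codeN t.2.1) (codeN t.2.2) &&
      e.trip.all fun t' => !extB zc (tripL (rowL e) w) (codeN t'.1)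

/-- The code is a second generator of a pure four-group. -/
noncomputable def partnerB (zc : List ℕ) (r c : ℕ) : Bool :=
  Nat.beq (mulF c c) oneCode && !Nat.beq c oneCode && !Nat.beq c r && !isZb zc c && !isZb zc (mulF r c)

/-- The check of the normalisation of the partners in a class. -/
noncomputable def normB (zc : List ℕ) (rows : List PairRow) (nrm : List (List (ℕ × ℕ × ℕ))) (k : ℕ) : Bool :=
  zc.contains k || force (clsCode k) fun r => (centList k).all fun m => force (codeN m) fun c =>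
    !partnerB zc r c || (nrm.getD k []).any fun t => Nat.beq t.1 m && Nat.blt t.2.1 rows.length &&
      force (codeN t.2.2) fun n => (rowL (rows.getD t.2.1 ⟨0, 0, 0, 0, 0, []⟩)).all fun q =>
        Nat.blt q (2 ^ 25) && [oneCode, r, c, mulF r c].any fun p => Nat.beq (mulF n q) (mulF p n)

/-- The check of a class. -/
noncomputable def oneB (zc : List ℕ) (one : List (ℕ × ℕ)) (k : ℕ) : Bool :=
  zc.contains k || force (clsCode k) fun r => pureOK zc [oneCode, r] &&
    extCritB zc [oneCode, r] (codeN (one.getD k (0, 0)).1) (codeN (one.getD k (0, 0)).2)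

namespace Case

variable {G : Type*} [Group G] [Finite G] {D : Top G} {zc : List ℕ}

theorem clsCode_ne : ∀ k < 8, clsCode k ≠ oneCode := by decide +kernel

theorem cent_ext (K : Case D zc) {L : List ℕ} {u c : ℕ} (hL : pureOK zc L = true)
    (hn : D.Next (pSub D L)) (h : extCritB zc L u c = true) {ux cx : HS} (hu : HasCode ux u) (hc : HasCode cx c) :
    ∀ l, Top.Cn (pSub D L) l → l ∈ D.G0 := by
  simp only [extCritB, Bool.and_eq_true, List.all_eq_true, Nat.beq_eq, Bool.or_eq_true, Bool.not_eq_true',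
    ← Bool.not_eq_true, List.contains_iff_mem] at h
  obtain ⟨⟨⟨⟨⟨⟨hz, hcu⟩, hT⟩, hc2⟩, hcn⟩, hcc⟩, hcz⟩ := h
  refine Top.cent_of_ext (K.pure_pSub hL) hn (K.isZb_sound hu hz) (D.φ_mem ux) (cn_of_commL hL hu hcu) ?_
    (c := D.φ cx) ?_ (D.φ_mem cx) (cn_of_commL hL hc hcc) ?_ ?_
  · intro p hp hp1
    obtain ⟨x, ⟨a, ha, hx⟩, rfl⟩ := (mem_pSub hL).mp hp
    rw [← map_mul]
    refine K.isNb_sound (hu.mul hx) ((hT a ha).resolve_left fun e => hp1 ?_)
    rw [(hx.eq_iff HasCode.one).mpr e, map_one]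
  · rw [← map_mul, ((hc.mul hc).eq_iff HasCode.one).mpr hc2, map_one]
  · intro hm
    obtain ⟨x, ⟨a, ha, hx⟩, e⟩ := (mem_pSub hL).mp hm
    exact hcn ((D.inj e ▸ hx).eq hc ▸ ha)
  · intro p hp
    obtain ⟨x, ⟨a, ha, hx⟩, rfl⟩ := (mem_pSub hL).mp hp
    rw [← map_mul]
    exact K.isNb_sound (hc.mul hx) (hcz a ha)

theorem cent_pair (K : Case D zc) {L : List ℕ} {u v : ℕ} (hL : pureOK zc L = true)
    (hn : D.Next (pSub D L)) (h : pairCritB zc L u v = true) {ux vx : HS} (hu : HasCode ux u) (hv : HasCode vx v) :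
    ∀ l, Top.Cn (pSub D L) l → l ∈ D.G0 := by
  simp only [pairCritB, Bool.and_eq_true, List.all_eq_true, List.any_eq_true, Nat.beq_eq, Bool.or_eq_true] at h
  obtain ⟨⟨⟨⟨⟨hzu, hcu⟩, hzv⟩, hcv⟩, hT⟩, hdiff⟩ := h
  refine Top.cent_of_pair (K.pure_pSub hL) hn (K.isZb_sound hu hzu) (D.φ_mem ux) (cn_of_commL hL hu hcu)
    (K.isZb_sound hv hzv) (D.φ_mem vx) (cn_of_commL hL hv hcv) ?_ ?_
  · intro p hp hp1 hz
    obtain ⟨x, ⟨a, ha, hx⟩, rfl⟩ := (mem_pSub hL).mp hp
    rw [← map_mul] at hz ⊢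
    rcases hT a ha with (e | e) | e
    · exact absurd (by rw [(hx.eq_iff HasCode.one).mpr e, map_one]) hp1
    · exact absurd hz (K.isNb_sound (hu.mul hx) e)
    · exact K.isNb_sound (hv.mul hx) e
  · intro w _ hw e
    obtain ⟨a, ha, hd⟩ := hdiff
    obtain ⟨x, hx⟩ : ∃ x : HS, HasCode x a := by
      have hh := hL
      simp only [pureOK, Bool.and_eq_true, List.all_eq_true] at hh
      have := (hh.2 a ha).1.1
      rw [isPb, Bool.or_eq_true] at this
      rcases this with ht | ht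
      · exact ⟨1, Nat.beq_eq.mp ht ▸ HasCode.one⟩
      · rw [isNb, force_eq, Bool.and_eq_true, blt_iff] at ht
        exact (cls_elem ht.1).elim fun _ hy => ⟨_, hy⟩
    have hiff := Top.isZ_translate (D := D) hw (u := D.φ ux) ((mem_pSub hL).mpr ⟨x, ⟨a, ha, hx⟩, rfl⟩)
    rw [e, ← map_mul, ← map_mul] at hiff
    rcases hd with ⟨d1, d2⟩ | ⟨d1, d2⟩
    · exact K.isNb_sound (hv.mul hx) d2 (hiff.mpr (K.isZb_sound (hu.mul hx) d1))
    · exact K.isNb_sound (hu.mul hx) d1 (hiff.mp (K.isZb_sound (hv.mul hx) d2))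

theorem isZb_false (K : Case D zc) {x : HS} {c : ℕ} (hx : HasCode x c) (h : ¬ D.IsZ (D.φ x)) :
    isZb zc c = false := by
  rw [← Bool.not_eq_true]
  exact fun e => h (K.isZb_sound hx e)

variable (K : Case D zc)

/-- A centralised pair of involutions moved into the centraliser. -/
theorem exists_shift {S : Subgroup G} (hS : IsPGroup 2 S) (hle : S ≤ D.G0) :
    ∃ h ∈ D.G0, ∀ s ∈ S, ∃ x, D.φ x = h⁻¹ * s * h := by
  obtain ⟨h, hh, hc⟩ := D.exists_cent hS hle
  refine ⟨h, hh, fun s hs => (D.mem_range _).mp ?_⟩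
  have e := Emb.comm_conj (g := h⁻¹) (hc s hs)
  rwa [show h⁻¹ * (h * D.z * h⁻¹) * h⁻¹⁻¹ = D.z by group, inv_inv] at e

include K in
/-- A pure four-group is carried to a row by the subgroup. -/
theorem exists_norm {rows : List PairRow} {nrm : List (List (ℕ × ℕ × ℕ))}
    (hn : ∀ k < 8, normB zc rows nrm k = true) {S : Subgroup G} (hS : IsPGroup 2 S) (hle : S ≤ D.G0)
    {a b : G} (ha : a ∈ S) (hb : b ∈ S) (ha2 : a * a = 1) (hb2 : b * b = 1) (hab : a * b = b * a)
    (ha1 : a ≠ 1) (hb1 : b ≠ 1) (hne : b ≠ a) (hza : ¬ D.IsZ a) (hzb : ¬ D.IsZ b) (hzab : ¬ D.IsZ (a * b)) :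
    ∃ e ∈ rows, ∃ h ∈ D.G0, (∀ s ∈ S, ∃ x, D.φ x = h⁻¹ * s * h) ∧
      ∀ c ∈ rowL e, ∃ x, HasCode x c ∧ ∃ p ∈ [1, a, b, a * b], D.φ x = h⁻¹ * p * h := by
  obtain ⟨h, hh, hx⟩ := exists_shift hS hle
  obtain ⟨xa, hxa⟩ := hx a ha
  have hxa2 : xa * xa = 1 := D.inj (by
    rw [map_mul, hxa, map_one, show h⁻¹ * a * h * (h⁻¹ * a * h) = h⁻¹ * (a * a) * h by group, ha2]; group)
  have hxa1 : xa ≠ 1 := fun e => ha1 (by
    rw [e, map_one] at hxa
    calc a = h * (h⁻¹ * a * h) * h⁻¹ := by group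
      _ = 1 := by rw [← hxa]; group)
  obtain ⟨k, hk, y, hy⟩ := inv_cases hxa2 hxa1
  have hkzc : k ∉ zc := fun hm => hza (by
    have := D.isZ_conj (K.hz k hm) (h * D.φ y)
    rwa [show h * D.φ y * D.φ (rep k) * (h * D.φ y)⁻¹ = h * D.φ (y * rep k * y⁻¹) * h⁻¹ by
      rw [map_mul, map_mul, map_inv]; group, ← hy, hxa, show h * (h⁻¹ * a * h) * h⁻¹ = a by group] at this)
  set h1 := h * D.φ y with hh1
  have hh10 : h1 ∈ D.G0 := mul_mem hh (D.φ_mem y)
  have hsh : ∀ s ∈ S, ∃ x, D.φ x = h1⁻¹ * s * h1 := fun s hs => by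
    obtain ⟨x, hx'⟩ := hx s hs
    exact ⟨y⁻¹ * x * y, by rw [map_mul, map_mul, map_inv, hx', hh1]; group⟩
  have hra : D.φ (rep k) = h1⁻¹ * a * h1 := by
    rw [show rep k = y⁻¹ * xa * y by rw [hy]; group, map_mul, map_mul, map_inv, hxa, hh1]; group
  obtain ⟨xb, hxb⟩ := hsh b hb
  have hcomm : xb * rep k = rep k * xb := D.inj (by
    rw [map_mul, map_mul, hra, hxb]
    calc h1⁻¹ * b * h1 * (h1⁻¹ * a * h1) = h1⁻¹ * (b * a) * h1 := by group
      _ = _ := by rw [← hab]; group)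
  have hnk := hn k hk
  rw [normB, force_eq, Bool.or_eq_true, List.contains_iff_mem] at hnk
  replace hnk := List.all_eq_true.mp (hnk.resolve_left hkzc)
  have henum : Enum (fun x => x * rep k = rep k * x) (centList k) :=
    enum_rep hk fun e => hkzc (e ▸ K.six)
  obtain ⟨m, hm, rfl⟩ := (henum.mem xb).mp hcomm
  have hr := rep_hasCode hk
  have hcb := hasCode_eltN m
  have hcode : HasCode (rep k * eltN m) (mulF (clsCode k) (codeN m)) := hr.mul hcb
  have hconj : ∀ p, D.IsZ (h1⁻¹ * p * h1) ↔ D.IsZ p := fun p => by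
    have := D.isZ_conj_iff (g := p) h1⁻¹
    rwa [inv_inv] at this
  have hpart : partnerB zc (clsCode k) (codeN m) = true := by
    simp only [partnerB, Bool.and_eq_true, Bool.not_eq_true', Nat.beq_eq]
    refine ⟨⟨⟨⟨?_, ?_⟩, ?_⟩, ?_⟩, ?_⟩
    · refine ((hcb.mul hcb).eq_iff HasCode.one).mp (D.inj ?_)
      rw [map_mul, hxb, map_one, show h1⁻¹ * b * h1 * (h1⁻¹ * b * h1) = h1⁻¹ * (b * b) * h1 by group, hb2]
      group
    · rw [← Bool.not_eq_true, Nat.beq_eq]
      intro e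
      rw [(hcb.eq_iff HasCode.one).mpr e, map_one] at hxb
      exact hb1 (by calc b = h1 * (h1⁻¹ * b * h1) * h1⁻¹ := by group
                      _ = 1 := by rw [← hxb]; group)
    · rw [← Bool.not_eq_true, Nat.beq_eq]
      intro e
      rw [(hcb.eq_iff hr).mpr e, hra] at hxb
      exact hne (mul_left_cancel (mul_right_cancel hxb)).symm
    · exact K.isZb_false hcb (by rw [hxb, hconj]; exact hzb)
    · refine K.isZb_false hcode ?_
      rw [map_mul, hra, hxb, show h1⁻¹ * a * h1 * (h1⁻¹ * b * h1) = h1⁻¹ * (a * b) * h1 by group, hconj]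
      exact hzab
  have hrow := hnk m hm
  rw [force_eq, Bool.or_eq_true, hpart, Bool.not_true] at hrow
  simp only [Bool.false_eq_true, false_or, List.any_eq_true, List.all_eq_true, Bool.and_eq_true, blt_iff,
    Nat.beq_eq, force_eq] at hrow
  obtain ⟨t, -, ⟨-, hj⟩, hq⟩ := hrow
  refine ⟨_, getD_mem hj ⟨0, 0, 0, 0, 0, []⟩, h1 * D.φ (eltN t.2.2), mul_mem hh10 (D.φ_mem _), fun s hs => ?_, fun c hc => ?_⟩
  · obtain ⟨x, hx'⟩ := hsh s hs
    exact ⟨(eltN t.2.2)⁻¹ * x * eltN t.2.2, by rw [map_mul, map_mul, map_inv, hx']; group⟩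
  · obtain ⟨hclt, p, hp, hpn⟩ := hq c hc
    have hn' := hasCode_eltN t.2.2
    have fin : ∀ (px : HS) (q : G), HasCode px p → D.φ px = h1⁻¹ * q * h1 →
        ∃ x, HasCode x c ∧ D.φ x = (h1 * D.φ (eltN t.2.2))⁻¹ * q * (h1 * D.φ (eltN t.2.2)) := by
      intro px q hpx hq'
      obtain ⟨d, hd⟩ := elt_surjective ((eltN t.2.2)⁻¹ * px * eltN t.2.2)
      have hxc : HasCode ((eltN t.2.2)⁻¹ * px * eltN t.2.2) c := by
        refine ⟨?_, hclt⟩
        have e : mx (eltN t.2.2) * mat c = mx (px * eltN t.2.2) := by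
          rw [mx_mul, hn'.1, hpx.1, mat_mulF, mat_mulF, hpn]
        rw [mul_assoc, mx_mul, ← e, ← Matrix.mul_assoc, ← mx_mul, inv_mul_cancel, mx_one,
          show mat oneCode = 1 from mat_one, Matrix.one_mul]
      exact ⟨_, hxc, by rw [map_mul, map_mul, map_inv, hq']; group⟩
    simp only [List.mem_cons, List.not_mem_nil, or_false] at hp
    rcases hp with rfl | rfl | rfl | rfl
    · obtain ⟨x, h1', h2'⟩ := fin 1 1 HasCode.one (by simp)
      exact ⟨x, h1', 1, by simp, h2'⟩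
    · obtain ⟨x, h1', h2'⟩ := fin _ a hr hra
      exact ⟨x, h1', a, by simp, h2'⟩
    · obtain ⟨x, h1', h2'⟩ := fin _ b hcb hxb
      exact ⟨x, h1', b, by simp, h2'⟩
    · obtain ⟨x, h1', h2'⟩ := fin _ (a * b) hcode (by rw [map_mul, hra, hxb]; group)
      exact ⟨x, h1', a * b, by simp, h2'⟩

/-- The checks of a case. -/
noncomputable def caseOK (zc : List ℕ) (rows : List PairRow) (nrm : List (List (ℕ × ℕ × ℕ))) (one : List (ℕ × ℕ)) :
    Prop :=
  (∀ k < 8, oneB zc one k = true) ∧ (∀ k < 8, normB zc rows nrm k = true) ∧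
    ((List.range rows.length).all fun j => rowB zc (rows.getD j ⟨0, 0, 0, 0, 0, []⟩)) = true

theorem rowB_of {rows : List PairRow} {nrm : List (List (ℕ × ℕ × ℕ))} {one : List (ℕ × ℕ)}
    (h : caseOK zc rows nrm one) {e : PairRow} (he : e ∈ rows) : rowB zc e = true := by
  obtain ⟨j, hj, rfl⟩ := List.getElem_of_mem he
  have := List.all_eq_true.mp h.2.2 j (List.mem_range.mpr hj)
  rwa [List.getD_eq_getElem _ _ hj] at this

include K in
/-- An involution extending the group purely gives an extension of the list. -/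
theorem ext_mem {L : List ℕ} {k : ℕ} (hk : k < 8) (hk6 : k ≠ 6) (hkL : clsCode k ∈ L) (hL : pureOK zc L = true)
    {P : Subgroup G} {h : G} (hmap : ∀ c ∈ L, ∃ x, HasCode x c ∧ ∃ p ∈ P, D.φ x = h⁻¹ * p * h)
    {s : G} (hs2 : s * s = 1) (hsP : Top.Cn P s) (hsn : s ∉ P) (hsz : ∀ p ∈ P, ¬ D.IsZ (s * p))
    {x : HS} (hx : D.φ x = h⁻¹ * s * h) :
    ∃ m ∈ centList k, HasCode x (codeN m) ∧ extB zc L (codeN m) = true := by
  have hconj : ∀ p, D.IsZ (h⁻¹ * p * h) ↔ D.IsZ p := fun p => by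
    have := D.isZ_conj_iff (g := p) h⁻¹
    rwa [inv_inv] at this
  have hcomm : ∀ c ∈ L, ∀ y, HasCode y c → x * y = y * x := by
    intro c hc y hy
    obtain ⟨y', hy', p, hp, e⟩ := hmap c hc
    obtain rfl := hy'.unique hy
    refine D.inj ?_
    rw [map_mul, map_mul, e, hx]
    calc h⁻¹ * s * h * (h⁻¹ * p * h) = h⁻¹ * (s * p) * h := by group
      _ = _ := by rw [hsP p hp]; group
  obtain ⟨m, hm, rfl⟩ := ((enum_rep hk hk6).mem x).mp (hcomm _ hkL _ (rep_hasCode hk))
  have hcm := hasCode_eltN m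
  refine ⟨m, hm, hcm, ?_⟩
  simp only [extB, Bool.and_eq_true, Nat.beq_eq, List.all_eq_true, Bool.not_eq_true']
  refine ⟨⟨⟨?_, ?_⟩, List.all_eq_true.mpr fun c hc => ?_⟩, fun c hc => ?_⟩
  · refine ((hcm.mul hcm).eq_iff HasCode.one).mp (D.inj ?_)
    rw [map_mul, hx, map_one, show h⁻¹ * s * h * (h⁻¹ * s * h) = h⁻¹ * (s * s) * h by group, hs2]
    group
  · rw [← Bool.not_eq_true, List.contains_iff_mem]
    intro hc
    obtain ⟨y, hy, p, hp, e⟩ := hmap _ hc
    rw [hy.unique hcm, hx] at e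
    exact hsn (mul_left_cancel (mul_right_cancel e) ▸ hp)
  · obtain ⟨y, hy, -⟩ := hmap c hc
    exact Nat.beq_eq.mpr ((hcm.mul hy).eq (hcomm c hc y hy ▸ hy.mul hcm))
  · obtain ⟨y, hy, p, hp, e⟩ := hmap c hc
    refine K.isZb_false (hcm.mul hy) ?_
    rw [map_mul, hx, e, show h⁻¹ * s * h * (h⁻¹ * p * h) = h⁻¹ * (s * p) * h by group, hconj]
    exact hsz p hp

theorem comm_ext {P : Subgroup G} {i : G} (hi : i * i = 1) (hc : Top.Cn P i) {b : G} (hb : b * i ∈ P) :
    i * b = b * i := by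
  calc i * b = i * (b * i) * i := by rw [mul_assoc i, mul_assoc b, hi, mul_one]
    _ = b * i := by rw [hc _ hb, mul_assoc (b * i), hi, mul_one]

/-- A subgroup extended by a commuting involution. -/
def extS {P : Subgroup G} (hP : D.Pure P) {i : G} (hi : i * i = 1) (hc : Top.Cn P i) : Subgroup G where
  carrier := {x | x ∈ P ∨ x * i ∈ P}
  one_mem' := Or.inl P.one_mem
  mul_mem' := by
    rintro a b (ha | ha) (hb | hb)
    · exact Or.inl (mul_mem ha hb)
    · exact Or.inr (by rw [mul_assoc]; exact mul_mem ha hb)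
    · refine Or.inr ?_
      rw [mul_assoc, ← hc b hb, ← mul_assoc]
      exact mul_mem ha hb
    · refine Or.inl ?_
      have e : a * b = a * i * (b * i) := by
        rw [← comm_ext hi hc hb, ← mul_assoc, mul_assoc a i i, hi, mul_one]
      rw [e]
      exact mul_mem ha hb
  inv_mem' := by
    rintro a (ha | ha)
    · exact Or.inl (inv_mem ha)
    · refine Or.inr ?_
      have := inv_mem ha
      rwa [← comm_ext hi hc ha, mul_inv_rev, inv_eq_of_mul_eq_one_right hi] at this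

theorem extS_le {P : Subgroup G} (hP : D.Pure P) {i : G} (hi : i * i = 1) (hc : Top.Cn P i) (hi0 : i ∈ D.G0) :
    extS hP hi hc ≤ D.G0 := by
  rintro x (hx | hx)
  · exact hP.le hx
  · have := mul_mem (hP.le hx) hi0
    rwa [mul_assoc, hi, mul_one] at this

theorem extS_pGroup {P : Subgroup G} (hP : D.Pure P) {i : G} (hi : i * i = 1) (hc : Top.Cn P i) :
    IsPGroup 2 (extS hP hi hc) := by
  rintro ⟨x, hx⟩
  refine ⟨1, Subtype.ext ?_⟩
  show x ^ 2 ^ 1 = 1
  rw [pow_one, pow_two]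
  rcases hx with hx | hx
  · exact hP.sq x hx
  · rw [show x * x = x * i * (x * i) by
      conv_rhs => arg 2; rw [← comm_ext hi hc hx]
      rw [← mul_assoc, mul_assoc x i i, hi, mul_one]]
    exact hP.sq _ hx

include K in
theorem elem_facts {L : List ℕ} (hL : pureOK zc L = true) {x : HS} {c : ℕ} (hc : c ∈ L) (hx : HasCode x c) :
    D.φ x ∈ pSub D L ∧ ¬ D.IsZ (D.φ x) ∧ D.φ x * D.φ x = 1 :=
  have hm := (mem_pSub hL).mpr ⟨x, ⟨c, hc, hx⟩, rfl⟩
  ⟨hm, (K.pure_pSub hL).no _ hm, (K.pure_pSub hL).sq _ hm⟩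

theorem row_facts {e : PairRow} (h : rowB zc e = true) :
    e.k < 8 ∧ pureOK zc (rowL e) = true ∧ clsCode e.k ∈ rowL e ∧ codeN e.y ∈ rowL e ∧
      mulF (clsCode e.k) (codeN e.y) ∈ rowL e := by
  simp only [rowB, Bool.and_eq_true, blt_iff] at h
  refine ⟨h.1.1.1.1, h.1.1.1.2, ?_, ?_, ?_⟩ <;> simp [rowL, force_eq]

include K in
/-- A generating pair of a row, with products, inside a larger pure list. -/
theorem pair_facts {e : PairRow} (h : rowB zc e = true) (hk : e.k ∉ zc) {L : List ℕ} (hL : pureOK zc L = true)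
    (hsub : ∀ c ∈ rowL e, c ∈ L) :
    D.φ (rep e.k) ∈ pSub D L ∧ D.φ (eltN e.y) ∈ pSub D L ∧
      D.φ (rep e.k) * D.φ (eltN e.y) = D.φ (eltN e.y) * D.φ (rep e.k) := by
  obtain ⟨h8, -, h1, h2, -⟩ := row_facts h
  have ha := (elem_facts K hL (hsub _ h1) (rep_hasCode h8)).1
  have hb := (elem_facts K hL (hsub _ h2) (hasCode_eltN e.y)).1
  exact ⟨ha, hb, ((K.pure_pSub hL).cn ha _ hb)⟩

/-- The generators of a row are distinct and nontrivial. -/
noncomputable def genB (e : PairRow) : Bool :=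
  force (clsCode e.k) fun r => force (codeN e.y) fun c =>
    !Nat.beq r oneCode && !Nat.beq c oneCode && !Nat.beq c r

variable {rows : List PairRow} {nrm : List (List (ℕ × ℕ × ℕ))} {one : List (ℕ × ℕ)}

include K in
/-- The image of a row inside a larger pure list is carried to another row. -/
theorem renorm (hok : caseOK zc rows nrm one) {e : PairRow} (he : e ∈ rows) (hgen : genB e = true)
    {L : List ℕ} (hL : pureOK zc L = true) (hsub : ∀ c ∈ rowL e, c ∈ L) {S : Subgroup G}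
    (hS : IsPGroup 2 S) (hle : S ≤ D.G0) (hPS : pSub D L ≤ S) :
    ∃ e' ∈ rows, ∃ h ∈ D.G0, (∀ s ∈ S, ∃ x, D.φ x = h⁻¹ * s * h) ∧
      ∀ c ∈ rowL e', ∃ x, HasCode x c ∧ ∃ p ∈ pSub D (rowL e), D.φ x = h⁻¹ * p * h := by
  obtain ⟨h8, hp2, h1, h2, h3⟩ := row_facts (rowB_of hok he)
  have hra := rep_hasCode h8
  have hyb := hasCode_eltN e.y
  obtain ⟨a2, az, asq⟩ := elem_facts K hp2 h1 hra
  obtain ⟨b2, bz, bsq⟩ := elem_facts K hp2 h2 hyb
  obtain ⟨ab2, abz, -⟩ := elem_facts K hp2 h3 (hra.mul hyb)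
  rw [map_mul] at ab2 abz
  have hmem : pSub D (rowL e) ≤ S := fun p hp => hPS (by
    obtain ⟨x, ⟨c, hc, hx⟩, rfl⟩ := (mem_pSub hp2).mp hp
    exact (mem_pSub hL).mpr ⟨x, ⟨c, hsub c hc, hx⟩, rfl⟩)
  simp only [genB, force_eq, Bool.and_eq_true, Bool.not_eq_true', ← Bool.not_eq_true, Nat.beq_eq] at hgen
  obtain ⟨e', he', h, hh, hs, hq⟩ := K.exists_norm hok.2.1 hS hle (hmem a2) (hmem b2) asq bsq
    ((K.pure_pSub hp2).cn a2 _ b2)
    (fun q => hgen.1.1 ((hra.eq_iff HasCode.one).mp (D.inj (q.trans (map_one _).symm))))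
    (fun q => hgen.1.2 ((hyb.eq_iff HasCode.one).mp (D.inj (q.trans (map_one _).symm))))
    (fun q => hgen.2 ((hyb.eq_iff hra).mp (D.inj q))) az bz abz
  refine ⟨e', he', h, hh, hs, fun c hc => ?_⟩
  obtain ⟨x, hx, p, hp, e⟩ := hq c hc
  refine ⟨x, hx, p, ?_, e⟩
  simp only [List.mem_cons, List.not_mem_nil, or_false] at hp
  rcases hp with rfl | rfl | rfl | rfl
  exacts [one_mem _, a2, b2, ab2]

/-- The generators of all rows are distinct. -/
noncomputable def gensOK (zc : List ℕ) (rows : List PairRow) : Bool :=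
  rows.all fun e => genB e && !zc.contains e.k

include K in
theorem k_ne_six {e : PairRow} (hg : gensOK zc rows = true) (he : e ∈ rows) : e.k ≠ 6 ∧ genB e = true := by
  have := List.all_eq_true.mp hg e he
  rw [Bool.and_eq_true, Bool.not_eq_true', ← Bool.not_eq_true, List.contains_iff_mem] at this
  exact ⟨fun q => this.2 (q ▸ K.six), this.1⟩

include K in
theorem next_trip (hok : caseOK zc rows nrm one) (hg : gensOK zc rows = true) {e : PairRow} (he : e ∈ rows)
    {t : ℕ × ℕ × ℕ} (ht : t ∈ e.trip) : D.Next (pSub D (tripL (rowL e) (codeN t.1))) := by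
  intro i hi0 hi hic hin hiz g _ _
  exfalso
  obtain ⟨h8, hp2, -⟩ := row_facts (rowB_of hok he)
  have hrow := rowB_of hok he
  simp only [rowB, force_eq, Bool.and_eq_true, List.all_eq_true, Bool.not_eq_true', ← Bool.not_eq_true,
    List.contains_iff_mem] at hrow
  obtain ⟨⟨⟨hL, hwn⟩, -⟩, -⟩ := hrow.2 t ht
  set L := tripL (rowL e) (codeN t.1) with hLdef
  have hsub : ∀ c ∈ rowL e, c ∈ L := fun c hc => List.mem_append_left _ hc
  have hP := K.pure_pSub hL
  obtain ⟨e', he', h, hh, hs, hq⟩ := renorm K hok he (k_ne_six K hg he).2 hL hsub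
    (extS_pGroup hP hi hic) (extS_le hP hi hic hi0) (fun p hp => Or.inl hp)
  have h8' := (row_facts (rowB_of hok he')).1
  obtain ⟨-, hp2', h1', -⟩ := row_facts (rowB_of hok he')
  have hwc := hasCode_eltN t.1
  have hwL : codeN t.1 ∈ L := by
    refine List.mem_append_right _ (List.mem_map.mpr ⟨oneCode, ?_, ?_⟩)
    · simp [rowL, force_eq]
    · have := (HasCode.one.mul hwc).eq (show HasCode (1 * eltN t.1) (codeN t.1) by rw [one_mul]; exact hwc)
      exact this
  obtain ⟨wm, wz, wsq⟩ := elem_facts K hL hwL hwc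
  have hsub' : ∀ p ∈ pSub D (rowL e), p ∈ pSub D L := fun p hp => by
    obtain ⟨x, ⟨c, hc, hx⟩, rfl⟩ := (mem_pSub hp2).mp hp
    exact (mem_pSub hL).mpr ⟨x, ⟨c, hsub c hc, hx⟩, rfl⟩
  obtain ⟨xw, hxw⟩ := hs _ (Or.inl wm)
  obtain ⟨xi, hxi⟩ := hs i (Or.inr (by rw [hi]; exact one_mem _))
  obtain ⟨m, hm, hcm, hext⟩ := ext_mem K h8' (k_ne_six K hg he').1 h1' hp2' hq wsq
    (fun p hp => hP.cn wm p (hsub' p hp))
    (fun hm => by
      obtain ⟨x, ⟨c, hc, hx⟩, q⟩ := (mem_pSub hp2).mp hm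
      exact hwn (hx.eq (D.inj q ▸ hwc) ▸ hc))
    (fun p hp => hP.no _ (mul_mem wm (hsub' p hp))) hxw
  have hrow' := rowB_of hok he'
  simp only [rowB, force_eq, Bool.and_eq_true, List.all_eq_true, Bool.or_eq_true, List.any_eq_true,
    Bool.not_eq_true', Nat.beq_eq] at hrow'
  obtain ⟨t', ht', rfl⟩ := (hrow'.1.2 m hm).resolve_left (by rw [hext]; simp)
  obtain ⟨⟨⟨hL', -⟩, -⟩, hno⟩ := hrow'.2 t' ht'
  have hmap : ∀ c ∈ tripL (rowL e') (codeN t'.1), ∃ x, HasCode x c ∧ ∃ p ∈ pSub D L, D.φ x = h⁻¹ * p * h := by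
    intro c hc
    rcases List.mem_append.mp hc with hc | hc
    · obtain ⟨x, hx, p, hp, q⟩ := hq c hc
      exact ⟨x, hx, p, hsub' p hp, q⟩
    · obtain ⟨c0, hc0, rfl⟩ := List.mem_map.mp hc
      obtain ⟨x, hx, p, hp, q⟩ := hq c0 hc0
      refine ⟨x * xw, hx.mul hcm, p * D.φ (eltN t.1), mul_mem (hsub' p hp) wm, ?_⟩
      rw [map_mul, q, hxw]; group
  obtain ⟨m', hm', hcm', hext'⟩ := ext_mem K h8' (k_ne_six K hg he').1 (List.mem_append_left _ h1') hL' hmap hi
    hic hin hiz hxi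
  obtain ⟨m'', hm'', hcm'', hext''⟩ := ext_mem K h8' (k_ne_six K hg he').1 h1' hp2' hq hi
    (fun p hp => hic p (hsub' p hp)) (fun hm => hin (hsub' _ hm)) (fun p hp => hiz p (hsub' p hp)) hxi
  obtain ⟨t'', ht'', e2⟩ := (hrow'.1.2 m'' hm'').resolve_left (by rw [hext'']; simp)
  have := hno t'' ht''
  rw [e2, hcm''.eq hcm'] at this
  simp only [tripL] at this hext'
  rw [hext'] at this
  simp at this

include K in
theorem single_trip (hok : caseOK zc rows nrm one) (hg : gensOK zc rows = true) {e : PairRow} (he : e ∈ rows)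
    {t : ℕ × ℕ × ℕ} (ht : t ∈ e.trip) : D.Single (pSub D (tripL (rowL e) (codeN t.1))) := by
  have hrow := rowB_of hok he
  simp only [rowB, force_eq, Bool.and_eq_true, List.all_eq_true] at hrow
  obtain ⟨⟨⟨hL, -⟩, hpair⟩, -⟩ := hrow.2 t ht
  exact Top.single_of_cent (K.pure_pSub hL)
    (K.cent_pair hL (next_trip K hok hg he ht) hpair (hasCode_eltN _) (hasCode_eltN _))

include K in
theorem next_row (hok : caseOK zc rows nrm one) (hg : gensOK zc rows = true) {e : PairRow} (he : e ∈ rows) :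
    D.Next (pSub D (rowL e)) := by
  intro i hi0 hi hic hin hiz g hgP hgi
  obtain ⟨h8, hp2, -⟩ := row_facts (rowB_of hok he)
  have hP := K.pure_pSub hp2
  obtain ⟨e', he', h, hh, hs, hq⟩ := renorm K hok he (k_ne_six K hg he).2 hp2 (fun c hc => hc)
    (extS_pGroup hP hi hic) (extS_le hP hi hic hi0) (fun p hp => Or.inl hp)
  have h8' := (row_facts (rowB_of hok he')).1
  obtain ⟨-, hp2', h1', -⟩ := row_facts (rowB_of hok he')
  obtain ⟨xi, hxi⟩ := hs i (Or.inr (by rw [hi]; exact one_mem _))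
  obtain ⟨m, hm, hcm, hext⟩ := ext_mem K h8' (k_ne_six K hg he').1 h1' hp2' hq hi hic hin hiz hxi
  have hrow' := rowB_of hok he'
  simp only [rowB, force_eq, Bool.and_eq_true, List.all_eq_true, Bool.or_eq_true, List.any_eq_true,
    Bool.not_eq_true', Nat.beq_eq] at hrow'
  obtain ⟨t', ht', rfl⟩ := (hrow'.1.2 m hm).resolve_left (by rw [hext]; simp)
  obtain ⟨⟨⟨hL', -⟩, -⟩, -⟩ := hrow'.2 t' ht'
  have := single_trip K hok hg he' ht' (h⁻¹ * g) (by
    intro q hq'
    obtain ⟨x, ⟨c, hc, hx⟩, rfl⟩ := (mem_pSub hL').mp hq'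
    have key : ∀ (y : HS) (p : G), D.φ y = h⁻¹ * p * h → g⁻¹ * p * g ∈ D.G0 →
        (h⁻¹ * g)⁻¹ * D.φ y * (h⁻¹ * g) ∈ D.G0 := fun y p e1 e2 => by
      rw [e1]
      rwa [show (h⁻¹ * g)⁻¹ * (h⁻¹ * p * h) * (h⁻¹ * g) = g⁻¹ * p * g by group]
    rcases List.mem_append.mp hc with hc | hc
    · obtain ⟨y, hy, p, hp, q⟩ := hq c hc
      exact key x p (hx.unique hy ▸ q) (hgP p hp)
    · obtain ⟨c0, hc0, rfl⟩ := List.mem_map.mp hc
      obtain ⟨y, hy, p, hp, q⟩ := hq c0 hc0
      refine key x (p * i) ?_ ?_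
      · rw [hx.unique (hy.mul hcm), map_mul, q, hxi]; group
      · have := mul_mem (hgP p hp) hgi
        rwa [show g⁻¹ * p * g * (g⁻¹ * i * g) = g⁻¹ * (p * i) * g by group] at this)
  have := mul_mem hh this
  rwa [mul_inv_cancel_left] at this

include K in
theorem single_row (hok : caseOK zc rows nrm one) (hg : gensOK zc rows = true)
    (hext : ∀ e ∈ rows, 2 ≤ e.kind → ∀ l, Top.Cn (pSub D (rowL e)) l → l ∈ D.G0) {e : PairRow} (he : e ∈ rows) :
    D.Single (pSub D (rowL e)) := by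
  obtain ⟨h8, hp2, -⟩ := row_facts (rowB_of hok he)
  refine Top.single_of_cent (K.pure_pSub hp2) ?_
  have hrow := rowB_of hok he
  simp only [rowB, Bool.and_eq_true] at hrow
  have hk := hrow.1.1.2
  rcases hkind : e.kind with _ | _ | n
  · rw [hkind] at hk
    exact K.cent_ext hp2 (next_row K hok hg he) hk (hasCode_eltN _) (hasCode_eltN _)
  · rw [hkind] at hk
    exact K.cent_pair hp2 (next_row K hok hg he) hk (hasCode_eltN _) (hasCode_eltN _)
  · exact hext e he (by omega)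

include K in
theorem single_one (hok : caseOK zc rows nrm one) (hg : gensOK zc rows = true)
    (hext : ∀ e ∈ rows, 2 ≤ e.kind → ∀ l, Top.Cn (pSub D (rowL e)) l → l ∈ D.G0) {k : ℕ} (hk : k < 8)
    (hkz : k ∉ zc) : D.Single (pSub D [oneCode, clsCode k]) := by
  have h1 := hok.1 k hk
  simp only [oneB, force_eq, Bool.or_eq_true, List.contains_iff_mem, Bool.and_eq_true] at h1
  obtain ⟨hL, hcrit⟩ := h1.resolve_left hkz
  have hP := K.pure_pSub hL
  refine Top.single_of_cent hP (K.cent_ext hL ?_ hcrit (hasCode_eltN _) (hasCode_eltN _))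
  intro i hi0 hi hic hin hiz g hgP hgi
  have hr := rep_hasCode hk
  obtain ⟨rm, rz, rsq⟩ := elem_facts K hL (List.mem_cons_of_mem _ List.mem_cons_self) hr
  have hr1 : D.φ (rep k) ≠ 1 := by
    intro q
    rw [← map_one D.φ] at q
    have := hr.eq (D.inj q ▸ HasCode.one)
    exact clsCode_ne k hk this
  obtain ⟨e', he', h, hh, -, hq⟩ := K.exists_norm hok.2.1 (extS_pGroup hP hi hic) (extS_le hP hi hic hi0)
    (a := D.φ (rep k)) (b := i) (Or.inl rm) (Or.inr (by rw [hi]; exact one_mem _)) rsq hi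
    ((hic _ rm).symm) hr1 (fun q => hin (q ▸ one_mem _)) (fun q => hin (q ▸ rm)) rz
    (by simpa using hiz 1 (one_mem _)) (by rw [← hic _ rm]; exact hiz _ rm)
  have := single_row K hok hg hext he' (h⁻¹ * g) (by
    intro q hq'
    obtain ⟨x, ⟨c, hc, hx⟩, rfl⟩ := (mem_pSub (row_facts (rowB_of hok he')).2.1).mp hq'
    obtain ⟨y, hy, p, hp, e1⟩ := hq c hc
    rw [hx.unique hy, e1, show (h⁻¹ * g)⁻¹ * (h⁻¹ * p * h) * (h⁻¹ * g) = g⁻¹ * p * g by group]
    simp only [List.mem_cons, List.not_mem_nil, or_false] at hp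
    rcases hp with rfl | rfl | rfl | rfl
    · simpa using D.G0.one_mem
    · exact hgP _ rm
    · exact hgi
    · have := mul_mem (hgP _ rm) hgi
      rwa [show g⁻¹ * D.φ (rep k) * g * (g⁻¹ * i * g) = g⁻¹ * (D.φ (rep k) * i) * g by group] at this)
  have := mul_mem hh this
  rwa [mul_inv_cancel_left] at this

include K in
/-- Involutions outside the class of the central one fix a single coset. -/
theorem single_inv (hok : caseOK zc rows nrm one) (hg : gensOK zc rows = true)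
    (hext : ∀ e ∈ rows, 2 ≤ e.kind → ∀ l, Top.Cn (pSub D (rowL e)) l → l ∈ D.G0) {t : G} (ht0 : t ∈ D.G0)
    (ht : t * t = 1) (ht1 : t ≠ 1) (htz : ¬ D.IsZ t) {g : G} (hgt : g⁻¹ * t * g ∈ D.G0) : g ∈ D.G0 := by
  obtain ⟨h, hh, hs⟩ := exists_shift (S := Subgroup.zpowers t) (IsPGroup.of_card (n := 1) (by
    rw [Nat.card_zpowers, orderOf_eq_prime (by rw [pow_two]; exact ht) ht1, pow_one]))
    (Subgroup.zpowers_le.mpr ht0)
  obtain ⟨x, hx⟩ := hs t (Subgroup.mem_zpowers t)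
  have hx2 : x * x = 1 := D.inj (by
    rw [map_mul, hx, map_one, show h⁻¹ * t * h * (h⁻¹ * t * h) = h⁻¹ * (t * t) * h by group, ht]; group)
  have hx1 : x ≠ 1 := fun e => ht1 (by
    rw [e, map_one] at hx
    calc t = h * (h⁻¹ * t * h) * h⁻¹ := by group
      _ = 1 := by rw [← hx]; group)
  obtain ⟨k, hk, y, hy⟩ := inv_cases hx2 hx1
  have hr : D.φ (rep k) = (h * D.φ y)⁻¹ * t * (h * D.φ y) := by
    rw [show rep k = y⁻¹ * x * y by rw [hy]; group, map_mul, map_mul, map_inv, hx]; group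
  have hkz : k ∉ zc := fun hm => htz (by
    have := D.isZ_conj (K.hz k hm) (h * D.φ y)
    rwa [hr, show h * D.φ y * ((h * D.φ y)⁻¹ * t * (h * D.φ y)) * (h * D.φ y)⁻¹ = t by group] at this)
  have h1 := hok.1 k hk
  simp only [oneB, force_eq, Bool.or_eq_true, List.contains_iff_mem, Bool.and_eq_true] at h1
  have hL := (h1.resolve_left hkz).1
  have := single_one K hok hg hext hk hkz ((h * D.φ y)⁻¹ * g) (by
    intro q hq
    obtain ⟨z, ⟨c, hc, hz⟩, rfl⟩ := (mem_pSub hL).mp hq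
    simp only [List.mem_cons, List.not_mem_nil, or_false] at hc
    rcases hc with rfl | rfl
    · rw [hz.unique HasCode.one, map_one]; rw [mul_one, inv_mul_cancel]; exact one_mem _
    · rw [hz.unique (rep_hasCode hk), hr]
      rwa [show ((h * D.φ y)⁻¹ * g)⁻¹ * ((h * D.φ y)⁻¹ * t * (h * D.φ y)) * ((h * D.φ y)⁻¹ * g) = g⁻¹ * t * g by
        group])
  have := mul_mem (mul_mem hh (D.φ_mem y)) this
  rwa [mul_inv_cancel_left] at this

end Case

/-- If some involution is outside the class and all such fix a single coset, the subgroup is everything. -/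
theorem Top.eq_top {G : Type*} [Group G] [Finite G] (D : Top G) {t : G} (ht0 : t ∈ D.G0) (ht : t * t = 1)
    (htz : ¬ D.IsZ t) (ht1 : t ≠ 1)
    (hS : ∀ i ∈ D.G0, i * i = 1 → i ≠ 1 → ¬ D.IsZ i → ∀ g, g⁻¹ * i * g ∈ D.G0 → g ∈ D.G0) :
    D.G0 = ⊤ := by
  refine eq_top_iff.mpr fun g _ => ?_
  by_contra hg
  have hxz : D.IsZ (g * D.z * g⁻¹) := ⟨g, rfl⟩
  rcases dihedral_cases (D.isZ_sq hxz) ht with ⟨y, -, hy, -⟩ | ⟨i, hi, hi1, hix, hit, -⟩
  · exact htz (hy ▸ D.isZ_conj hxz y)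
  · have hi0 : i ∈ D.G0 := hS t ht0 ht ht1 htz i (by
      rw [mul_assoc, ← hit, ← mul_assoc, inv_mul_cancel, one_mul]; exact ht0)
    have hig : g⁻¹ * i * g ∈ D.G0 := by
      refine D.comm_mem ?_
      have e := Emb.comm_conj (g := g⁻¹) hix
      rwa [show g⁻¹ * (g * D.z * g⁻¹) * g⁻¹⁻¹ = D.z by group, inv_inv] at e
    by_cases hz : D.IsZ i
    · exact hg (D.single_isZ hz hi0 hig)
    · exact hg (hS i hi0 hi hi1 hz g hig)

end CfsgLib.HeldRecog
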