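/-
Rows of pure four-groups and witnesses of the criteria.
-/
import Cfsg.Agent.Lib.HeldRecog.Rank

set_option autoImplicit false
set_option maxRecDepth 100000

namespace CfsgLib.HeldRecog

/-- The classes of conjugates of the central involution. -/
def heZc : List ℕ := [2, 3, 4, 5, 6, 7]

/-- Witnesses for single involutions. -/
def heOne : List (ℕ × ℕ) := [(504, 16721), (1344, 12528), (0, 0), (0, 0), (0, 0), (0, 0), (0, 0), (0, 0)]

/-- The rows. -/
def heRows : List PairRow := [
  ⟨0, 16721, 2, 0, 0, []⟩,
  ⟨0, 1848, 2, 0, 0, []⟩,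
  ⟨1, 12528, 2, 0, 0, []⟩,
  ⟨1, 13944, 2, 0, 0, []⟩]

/-- The normalisation of partners. -/
def heNrm : List (List (ℕ × ℕ × ℕ)) := [
  [(16721, 0, 0), (1848, 1, 0), (4704, 1, 93), (12936, 1, 504), (18648, 1, 597), (5465, 0, 1848), (12432, 1, 131), (18144, 1, 89), (13944, 1, 635), (19152, 1, 593), (1680, 1, 104), (5040, 1, 58), (11592, 1, 440), (18312, 1, 394), (11256, 1, 51), (17976, 1, 141), (13608, 1, 387), (19992, 1, 477)],
  [(12528, 2, 0), (13944, 3, 0)],
  [],
  [],
  [],
  [],
  [],
  []]

theorem heOne0 : oneB heZc heOne 0 = true := by decide +kernel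
theorem heNrm0 : normB heZc heRows heNrm 0 = true := by decide +kernel
theorem heOne1 : oneB heZc heOne 1 = true := by decide +kernel
theorem heNrm1 : normB heZc heRows heNrm 1 = true := by decide +kernel
theorem heOne2 : oneB heZc heOne 2 = true := by decide +kernel
theorem heNrm2 : normB heZc heRows heNrm 2 = true := by decide +kernel
theorem heOne3 : oneB heZc heOne 3 = true := by decide +kernel
theorem heNrm3 : normB heZc heRows heNrm 3 = true := by decide +kernel
theorem heOne4 : oneB heZc heOne 4 = true := by decide +kernel
theorem heNrm4 : normB heZc heRows heNrm 4 = true := by decide +kernel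
theorem heOne5 : oneB heZc heOne 5 = true := by decide +kernel
theorem heNrm5 : normB heZc heRows heNrm 5 = true := by decide +kernel
theorem heOne6 : oneB heZc heOne 6 = true := by decide +kernel
theorem heNrm6 : normB heZc heRows heNrm 6 = true := by decide +kernel
theorem heOne7 : oneB heZc heOne 7 = true := by decide +kernel
theorem heNrm7 : normB heZc heRows heNrm 7 = true := by decide +kernel
theorem heRowsOK : ((List.range heRows.length).all fun j => rowB heZc (heRows.getD j ⟨0, 0, 0, 0, 0, []⟩)) = true := by
  decide +kernel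
theorem heGens : Case.gensOK heZc heRows = true := by decide +kernel

theorem heCaseOK : Case.caseOK heZc heRows heNrm heOne := by
  refine ⟨fun k hk => ?_, fun k hk => ?_, heRowsOK⟩
  · match k, hk with
    | 0, _ => exact heOne0
    | 1, _ => exact heOne1
    | 2, _ => exact heOne2
    | 3, _ => exact heOne3
    | 4, _ => exact heOne4
    | 5, _ => exact heOne5
    | 6, _ => exact heOne6
    | 7, _ => exact heOne7
    | n + 8, h => omega
  · match k, hk with
    | 0, _ => exact heNrm0
    | 1, _ => exact heNrm1
    | 2, _ => exact heNrm2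
    | 3, _ => exact heNrm3
    | 4, _ => exact heNrm4
    | 5, _ => exact heNrm5
    | 6, _ => exact heNrm6
    | 7, _ => exact heNrm7
    | n + 8, h => omega

end CfsgLib.HeldRecog
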