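/-
A counting criterion for the centraliser of a pure elementary subgroup to lie in the controlling subgroup.
-/
import Cfsg.Agent.Lib.HeldRecog.Crit
import Mathlib.GroupTheory.FixedPointFree
import Mathlib.GroupTheory.QuotientGroup.Basic
import Mathlib.GroupTheory.GroupAction.Quotient
import Mathlib.Combinatorics.Pigeonhole
import Mathlib.Data.Fintype.Sigma

set_option autoImplicit false

namespace CfsgLib.HeldRecog

variable {G : Type*} [Group G]

/-- The number of values of a map constant exactly on the cosets of a subgroup. -/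
theorem card_fibre {α : Type*} [Finite G] {A B : Subgroup G} (hBA : B ≤ A) (f : G → α)
    (hf : ∀ a ∈ A, ∀ b ∈ A, f a = f b ↔ a⁻¹ * b ∈ B) :
    Nat.card {y // ∃ a ∈ A, f a = y} * Nat.card B = Nat.card A := by
  rw [← Nat.card_prod]
  refine Nat.card_eq_of_bijective (fun t => ⟨t.1.2.choose * t.2.1, mul_mem t.1.2.choose_spec.1 (hBA t.2.2)⟩)
    ⟨?_, ?_⟩
  · rintro ⟨y, b⟩ ⟨y', b'⟩ h
    have e : y.2.choose * b.1 = y'.2.choose * b'.1 := congrArg Subtype.val h
    have hy : y = y' := by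
      refine Subtype.ext ?_
      rw [← y.2.choose_spec.2, ← y'.2.choose_spec.2]
      refine (hf _ y.2.choose_spec.1 _ y'.2.choose_spec.1).mpr ?_
      rw [show y.2.choose⁻¹ * y'.2.choose = b.1 * b'.1⁻¹ by
        rw [show y'.2.choose = y.2.choose * b.1 * b'.1⁻¹ by rw [e]; group]
        group]
      exact mul_mem b.2 (inv_mem b'.2)
    subst hy
    exact Prod.ext rfl (Subtype.ext (mul_left_cancel e))
  · rintro ⟨a, ha⟩
    have h : ∃ a' ∈ A, f a' = f a := ⟨a, ha, rfl⟩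
    refine ⟨⟨⟨f a, h⟩, ⟨h.choose⁻¹ * a, (hf _ h.choose_spec.1 _ ha).mp h.choose_spec.2⟩⟩, Subtype.ext ?_⟩
    simp

namespace Top

variable [Finite G] {D : Top G} {P : Subgroup G}

/-- The centraliser of a subgroup. -/
def cnSub (P : Subgroup G) : Subgroup G where
  carrier := {w | Cn P w}
  one_mem' := fun p _ => by simp
  mul_mem' := Cn.mul
  inv_mem' := Cn.inv

/-- Too many pairwise non-commuting elements of prime order contradict the count of the moved cosets. -/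
theorem cent_of_count (h : D.Pure P) {u : G} (hu : D.IsZ u) (hu0 : u ∈ D.G0) (huP : Cn P u)
    (hT : ∀ w, Cn P w → ∀ p ∈ P, w * u * w⁻¹ = u * p → p = 1)
    (hfix : ∀ d ∈ D.G0, Cn P d → d * u = u * d → d ∉ P → ∃ n : ℕ, ∃ p ∈ P, D.IsZ (d ^ n * p))
    {m : ℕ} (hm : Nat.card {d : G // d ∈ D.G0 ∧ Cn P d ∧ d * u = u * d} = m * Nat.card P)
    {q K : ℕ} [Fact q.Prime] {a : Fin K → G} (ha0 : ∀ j, a j ∈ D.G0) (haP : ∀ j, Cn P (a j))
    (haq : ∀ j, a j ^ q = 1) (hnc : ∀ i j, i ≠ j → ∀ p ∈ P, a i * a j ≠ a j * a i * p)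
    (hK : m < K * (m % q)) : ∀ l, Cn P l → l ∈ D.G0 := by
  intro l0 hl0
  by_contra hl0G
  let L := cnSub P
  let L0 := L ⊓ D.G0
  let CU : Subgroup G := L ⊓ Subgroup.centralizer {u}
  have hCU : ∀ d, d ∈ CU ↔ Cn P d ∧ d * u = u * d := fun d =>
    and_congr Iff.rfl Subgroup.mem_centralizer_singleton_iff
  have hCU0 : CU ≤ L0 := fun d hd => ⟨hd.1, D.cent_isZ hu hu0 ((hCU d).mp hd).2⟩
  have hcCU : Nat.card CU = m * Nat.card P := by
    rw [← hm]
    exact Nat.card_congr (Equiv.subtypeEquivRight fun d => (hCU d).trans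
      ⟨fun hd => ⟨D.cent_isZ hu hu0 hd.2, hd⟩, And.right⟩)
  -- the class of the element and its trace on the subgroup
  have hfib : ∀ a b : G, Cn P a → Cn P b → (a * u * a⁻¹ = b * u * b⁻¹ ↔ a⁻¹ * b ∈ CU) := fun a b ha hb => by
    rw [hCU]
    constructor
    · intro e
      refine ⟨ha.inv.mul hb, mul_inv_eq_iff_eq_mul.mp ?_⟩
      calc a⁻¹ * b * u * (a⁻¹ * b)⁻¹ = a⁻¹ * (b * u * b⁻¹) * a := by group
        _ = u := by rw [← e]; group
    · rintro ⟨-, e⟩
      calc a * u * a⁻¹ = a * (a⁻¹ * b * u * (a⁻¹ * b)⁻¹) * a⁻¹ := by rw [mul_inv_eq_iff_eq_mul.mpr e]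
        _ = _ := by group
  have h1 : Nat.card {y // ∃ v ∈ L, v * u * v⁻¹ = y} * Nat.card CU = Nat.card L :=
    card_fibre inf_le_left _ fun a ha b hb => hfib a b ha hb
  have h2 : Nat.card {y // ∃ v ∈ L0, v * u * v⁻¹ = y} * Nat.card CU = Nat.card L0 :=
    card_fibre hCU0 _ fun a ha b hb => hfib a b ha.1 hb.1
  have h3 : Nat.card {β : G ⧸ D.G0 // ∃ v ∈ L, (v : G ⧸ D.G0) = β} * Nat.card L0 = Nat.card L :=
    card_fibre inf_le_left _ fun a ha b hb => by
      rw [QuotientGroup.eq]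
      exact ⟨fun e => ⟨L.mul_mem (L.inv_mem ha) hb, e⟩, And.right⟩
  set N0 := Nat.card {y // ∃ v ∈ L0, v * u * v⁻¹ = y}
  set n := Nat.card {β : G ⧸ D.G0 // ∃ v ∈ L, (v : G ⧸ D.G0) = β}
  have hcu : 0 < Nat.card CU := Nat.card_pos
  have hcls : Nat.card {y // ∃ v ∈ L, v * u * v⁻¹ = y} = n * N0 :=
    Nat.eq_of_mul_eq_mul_right hcu (by rw [h1, mul_assoc, h2, h3])
  have hin : ∀ v, Cn P v → (v * u * v⁻¹ ∈ D.G0 ↔ v ∈ D.G0) := fun v _ =>
    ⟨fun e => D.single_isZ (D.isZ_conj hu v) e (by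
      rwa [show v⁻¹ * (v * u * v⁻¹) * v = u by group]), fun e => mul_mem (mul_mem e hu0) (inv_mem e)⟩
  classical
  have := Fintype.ofFinite G
  have := Fintype.ofFinite (G ⧸ D.G0)
  let S : Finset G := Finset.univ.filter fun y => (∃ v ∈ L, v * u * v⁻¹ = y) ∧ y ∉ D.G0
  let T : Finset (G ⧸ D.G0) :=
    Finset.univ.filter fun β => (∃ v ∈ L, (v : G ⧸ D.G0) = β) ∧ β ≠ ((1 : G) : G ⧸ D.G0)
  have hS : S.card + N0 = n * N0 := by
    rw [← hcls]
    simp only [N0, Nat.card_eq_fintype_card, Fintype.card_subtype]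
    rw [← Finset.card_union_of_disjoint]
    · congr 1
      ext y
      simp only [S, Finset.mem_union, Finset.mem_filter, Finset.mem_univ, true_and]
      constructor
      · rintro (h | ⟨v, hv, rfl⟩)
        · exact h.1
        · exact ⟨v, hv.1, rfl⟩
      · rintro ⟨v, hv, rfl⟩
        by_cases e : v * u * v⁻¹ ∈ D.G0
        · exact Or.inr ⟨v, ⟨hv, (hin v hv).mp e⟩, rfl⟩
        · exact Or.inl ⟨⟨v, hv, rfl⟩, e⟩
    · rw [Finset.disjoint_left]
      intro y hy hy'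
      simp only [S, Finset.mem_filter, Finset.mem_univ, true_and] at hy hy'
      obtain ⟨v, hv, rfl⟩ := hy'
      exact hy.2 ((hin v hv.1).mpr hv.2)
  have hT' : T.card + 1 = n := by
    simp only [n, Nat.card_eq_fintype_card, Fintype.card_subtype]
    rw [show (T.card + 1) = (insert ((1 : G) : G ⧸ D.G0) T).card by
      rw [Finset.card_insert_of_notMem (by simp [T])]]
    congr 1
    ext β
    simp only [T, Finset.mem_insert, Finset.mem_filter, Finset.mem_univ, true_and]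
    constructor
    · rintro (rfl | h)
      · exact ⟨1, L.one_mem, rfl⟩
      · exact h.1
    · exact fun e => (em _).imp_right fun hne => ⟨e, hne⟩
  have hTne : T.Nonempty := ⟨(l0 : G ⧸ D.G0), by
    simp only [T, Finset.mem_filter, Finset.mem_univ, true_and]
    refine ⟨⟨l0, hl0, rfl⟩, fun e => hl0G ?_⟩
    rw [QuotientGroup.eq, mul_one] at e
    exact inv_mem_iff.mp e⟩
  obtain ⟨β, hβ, hcard⟩ := Finset.exists_le_card_fiber_of_mul_le_card_of_maps_to (s := S) (t := T)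
    (f := fun y => (y : G ⧸ D.G0)) (n := N0) (fun y hy => by
      simp only [S, Finset.mem_filter, Finset.mem_univ, true_and] at hy
      obtain ⟨⟨v, hv, rfl⟩, hy0⟩ := hy
      simp only [T, Finset.mem_filter, Finset.mem_univ, true_and]
      refine ⟨⟨v * u * v⁻¹, (hv.mul huP).mul hv.inv, rfl⟩, fun e => hy0 ?_⟩
      rw [QuotientGroup.eq, mul_one] at e
      exact inv_mem_iff.mp e) hTne (by rw [← hT', Nat.add_mul, one_mul] at hS; omega)
  simp only [T, Finset.mem_filter, Finset.mem_univ, true_and] at hβ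
  obtain ⟨⟨l, hl, rfl⟩, hlne⟩ := hβ
  have hlG : l ∉ D.G0 := fun e => hlne (by rw [QuotientGroup.eq, mul_one]; exact inv_mem e)
  set F := S.filter fun y : G => (QuotientGroup.mk y : G ⧸ D.G0) = (l : G ⧸ D.G0) with hF
  have : Nonempty {y // ∃ v ∈ L0, v * u * v⁻¹ = y} := ⟨⟨u, 1, L0.one_mem, by group⟩⟩
  have hN0 : 0 < N0 := Nat.card_pos
  have hmemF : ∀ y ∈ F, (∃ v, Cn P v ∧ v * u * v⁻¹ = y) ∧ l⁻¹ * y ∈ D.G0 := by
    intro y hy
    simp only [hF, S, Finset.mem_filter, Finset.mem_univ, true_and] at hy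
    exact ⟨hy.1.1, QuotientGroup.eq.mp hy.2.symm⟩
  obtain ⟨y0, hy0⟩ : F.Nonempty := Finset.card_pos.mp (lt_of_lt_of_le hN0 hcard)
  obtain ⟨⟨v0, hv0, hv0y⟩, hy0g⟩ := hmemF y0 hy0
  have hy0sq : y0 * y0 = 1 := D.isZ_sq (hv0y ▸ D.isZ_conj hu v0)
  have hy0i : y0⁻¹ = y0 := inv_eq_of_mul_eq_one_right hy0sq
  have hy0P : Cn P y0 := hv0y ▸ (hv0.mul huP).mul hv0.inv
  let DS : Subgroup G := L0 ⊓ D.G0.map (MulAut.conj l).toMonoidHom
  have hDS : ∀ d, d ∈ DS ↔ Cn P d ∧ d ∈ D.G0 ∧ l⁻¹ * d * l ∈ D.G0 := fun d => by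
    show (Cn P d ∧ d ∈ D.G0) ∧ d ∈ D.G0.map _ ↔ _
    rw [Subgroup.mem_map_equiv, MulAut.conj_symm_apply, and_assoc]
  have hPDS : P ≤ DS := fun p hp => (hDS p).mpr ⟨h.cn hp, h.le hp, h.inAt hl p hp⟩
  have hnorm : ∀ d ∈ DS, y0 * d * y0 ∈ DS := by
    intro d hd
    obtain ⟨h1, h2, h3⟩ := (hDS d).mp hd
    refine (hDS _).mpr ⟨(hy0P.mul h1).mul hy0P, ?_, ?_⟩
    · have := mul_mem (mul_mem (inv_mem hy0g) h3) hy0g
      rw [show (l⁻¹ * y0)⁻¹ * (l⁻¹ * d * l) * (l⁻¹ * y0) = y0⁻¹ * d * y0 by group, hy0i] at this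
      exact this
    · have := mul_mem (mul_mem hy0g h2) (inv_mem hy0g)
      rwa [show l⁻¹ * y0 * d * (l⁻¹ * y0)⁻¹ = l⁻¹ * (y0 * d * y0⁻¹) * l by group, hy0i] at this
  have hzfix : ∀ d, d ∈ DS → d * u = u * d → d ∈ P := by
    intro d hd hdu
    obtain ⟨h1, h2, h3⟩ := (hDS d).mp hd
    by_contra hdP
    obtain ⟨k, p, hp, hz⟩ := hfix d h2 h1 hdu hdP
    refine hlG (D.single_isZ hz (mul_mem (pow_mem h2 k) (h.le hp)) ?_)
    rw [show l⁻¹ * (d ^ k * p) * l = (l⁻¹ * d ^ k * l) * (l⁻¹ * p * l) by group]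
    refine mul_mem ?_ (h.inAt hl p hp)
    have e : l⁻¹ * d ^ k * l = (l⁻¹ * d * l) ^ k := by
      have := conj_pow (a := l⁻¹) (b := d) (i := k)
      rw [inv_inv] at this
      exact this.symm
    rw [e]
    exact pow_mem h3 k
  have hfpf : ∀ d ∈ DS, ∀ p ∈ P, y0 * d * y0 = d * p → d ∈ P := by
    intro d hd p hp e
    obtain ⟨h1, h2, h3⟩ := (hDS d).mp hd
    set d' := v0⁻¹ * d * v0 with hd'
    have hd'P : Cn P d' := (hv0.inv.mul h1).mul hv0
    have e' : u * d' * u = d' * p := by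
      rw [← hv0y] at e
      calc u * d' * u = v0⁻¹ * (v0 * u * v0⁻¹ * d * (v0 * u * v0⁻¹)) * v0 := by rw [hd']; group
        _ = v0⁻¹ * d * v0 * (v0⁻¹ * p * v0) := by rw [e]; group
        _ = d' * p := by rw [show v0⁻¹ * p * v0 = p by simpa using hv0.inv.fix hp]
    have hui : u⁻¹ = u := inv_eq_of_mul_eq_one_right (D.isZ_sq hu)
    have hp1 : p = 1 := by
      refine hT d'⁻¹ hd'P.inv p hp ?_
      calc d'⁻¹ * u * d'⁻¹⁻¹ = d'⁻¹ * (u * d' * u) * u⁻¹ := by group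
        _ = p * u := by rw [e', hui]; group
        _ = u * p := (huP p hp).symm
    subst hp1
    have hcomm : d' * u = u * d' := by
      rw [mul_one] at e'
      calc d' * u = u * d' * u * u := by rw [e']
        _ = u * d' := by rw [mul_assoc (u * d'), D.isZ_sq hu, mul_one]
    by_contra hdP
    have hd'0 : d' ∈ D.G0 := D.cent_isZ hu hu0 hcomm
    obtain ⟨k, q', hq', hz⟩ := hfix d' hd'0 hd'P hcomm fun hm => hdP (by
      rwa [show d = d' by
        rw [← hv0.fix hm]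
        rw [hd']; group])
    refine hlG (D.single_isZ (y := d ^ k * q') ?_ (mul_mem (pow_mem h2 k) (h.le hq')) ?_)
    · have := D.isZ_conj hz v0
      rwa [show v0 * (d' ^ k * q') * v0⁻¹ = d ^ k * q' by
        rw [show v0 * (d' ^ k * q') * v0⁻¹ = (v0 * d' * v0⁻¹) ^ k * (v0 * q' * v0⁻¹) by rw [conj_pow]; group,
          hv0.fix hq', hd']
        group] at this
    · rw [show l⁻¹ * (d ^ k * q') * l = (l⁻¹ * d * l⁻¹⁻¹) ^ k * (l⁻¹ * q' * l) by rw [conj_pow]; group, inv_inv]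
      exact mul_mem (pow_mem h3 k) (h.inAt hl q' hq')
  -- the two-point stabiliser is abelian modulo the subgroup
  have hab : ∀ a ∈ DS, ∀ b ∈ DS, ∃ p ∈ P, a * b = b * a * p := by
    have hnP : (P.subgroupOf DS).Normal := ⟨fun x hx g => by
      rw [Subgroup.mem_subgroupOf] at hx ⊢
      show g.1 * x.1 * g.1⁻¹ ∈ P
      rw [((hDS g.1).mp g.2).1.fix hx]
      exact hx⟩
    let ψ : DS →* DS :=
      { toFun := fun d => ⟨y0 * d.1 * y0, hnorm d.1 d.2⟩
        map_one' := Subtype.ext (by simp [hy0sq])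
        map_mul' := fun a b => Subtype.ext (by
          show y0 * (a.1 * b.1) * y0 = y0 * a.1 * y0 * (y0 * b.1 * y0)
          calc y0 * (a.1 * b.1) * y0 = y0 * a.1 * (y0 * y0) * b.1 * y0 := by rw [hy0sq]; group
            _ = _ := by group) }
    let φ' : DS ⧸ P.subgroupOf DS →* DS ⧸ P.subgroupOf DS := QuotientGroup.map _ _ ψ fun x hx => by
      rw [Subgroup.mem_comap, Subgroup.mem_subgroupOf] at *
      show y0 * x.1 * y0 ∈ P
      rw [hy0P _ hx, mul_assoc, hy0sq, mul_one]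
      exact hx
    have hff : MonoidHom.FixedPointFree φ' := by
      intro x hx
      induction x using QuotientGroup.induction_on with
      | H d =>
        rw [QuotientGroup.map_mk, eq_comm, QuotientGroup.eq, Subgroup.mem_subgroupOf] at hx
        rw [QuotientGroup.eq_one_iff, Subgroup.mem_subgroupOf]
        refine hfpf d.1 d.2 _ hx ?_
        show y0 * d.1 * y0 = d.1 * (d.1⁻¹ * (y0 * d.1 * y0))
        group
    have hinv : Function.Involutive φ' := by
      intro x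
      induction x using QuotientGroup.induction_on with
      | H d =>
        rw [QuotientGroup.map_mk, QuotientGroup.map_mk]
        refine congrArg _ (Subtype.ext ?_)
        show y0 * (y0 * d.1 * y0) * y0 = d.1
        calc y0 * (y0 * d.1 * y0) * y0 = (y0 * y0) * d.1 * (y0 * y0) := by group
          _ = d.1 := by rw [hy0sq, one_mul, mul_one]
    intro a ha b hb
    have := MonoidHom.FixedPointFree.commute_all_of_involutive hff hinv
      ((⟨a, ha⟩ : DS) : DS ⧸ P.subgroupOf DS) ((⟨b, hb⟩ : DS) : DS ⧸ P.subgroupOf DS)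
    rw [Commute, SemiconjBy, ← QuotientGroup.mk_mul, ← QuotientGroup.mk_mul, eq_comm, QuotientGroup.eq,
      Subgroup.mem_subgroupOf] at this
    exact ⟨_, this, (mul_inv_cancel_left _ _).symm⟩
  -- the two-point stabiliser is large
  have hbig : N0 * Nat.card P ≤ Nat.card DS := by
    refine le_trans (Nat.mul_le_mul_right _ hcard) ?_
    rw [← Nat.card_eq_finsetCard, ← Nat.card_prod]
    refine Nat.card_le_card_of_injective (fun t => ⟨y0 * t.1.1 * t.2.1, ?_⟩) ?_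
    · obtain ⟨⟨v, hv, hvy⟩, hg⟩ := hmemF _ t.1.2
      refine mul_mem ((hDS _).mpr ⟨hy0P.mul (hvy ▸ (hv.mul huP).mul hv.inv), ?_, ?_⟩) (hPDS t.2.2)
      · have := mul_mem (inv_mem hy0g) hg
        rwa [show (l⁻¹ * y0)⁻¹ * (l⁻¹ * t.1.1) = y0⁻¹ * t.1.1 by group, hy0i] at this
      · have hti : t.1.1⁻¹ = t.1.1 := inv_eq_of_mul_eq_one_right (D.isZ_sq (hvy ▸ D.isZ_conj hu v))
        have := mul_mem hy0g (inv_mem hg)
        rwa [show l⁻¹ * y0 * (l⁻¹ * t.1.1)⁻¹ = l⁻¹ * (y0 * t.1.1⁻¹) * l by group, hti] at this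
    · rintro ⟨y, p⟩ ⟨y', p'⟩ e
      have e' : y0 * y.1 * p.1 = y0 * y'.1 * p'.1 := congrArg Subtype.val e
      obtain ⟨⟨v, hv, hvy⟩, -⟩ := hmemF _ y.2
      obtain ⟨⟨v', hv', hvy'⟩, -⟩ := hmemF _ y'.2
      rw [mul_assoc, mul_assoc, mul_left_cancel_iff] at e'
      have hp : p.1 * p'.1⁻¹ = 1 := by
        refine hT (v⁻¹ * v') (hv.inv.mul hv') _ (mul_mem p.2 (inv_mem p'.2)) ?_
        calc v⁻¹ * v' * u * (v⁻¹ * v')⁻¹ = v⁻¹ * (y'.1 * p'.1) * p'.1⁻¹ * v := by rw [← hvy']; group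
          _ = v⁻¹ * (v * u * v⁻¹ * p.1) * p'.1⁻¹ * v := by rw [← e', ← hvy]
          _ = u * (v⁻¹ * (p.1 * p'.1⁻¹) * v) := by group
          _ = u * (p.1 * p'.1⁻¹) := by
            rw [show v⁻¹ * (p.1 * p'.1⁻¹) * v = p.1 * p'.1⁻¹ by
              simpa using hv.inv.fix (mul_mem p.2 (inv_mem p'.2))]
      rw [mul_inv_eq_one] at hp
      rw [hp, mul_left_inj] at e'
      exact Prod.ext (Subtype.ext e') (Subtype.ext hp)
  -- the orbit of the moved coset has exactly m points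
  have h4 : Nat.card {γ : G ⧸ D.G0 // ∃ k ∈ L0, ((k * l : G) : G ⧸ D.G0) = γ} * Nat.card DS = Nat.card L0 :=
    card_fibre inf_le_left _ fun a ha b hb => by
      rw [QuotientGroup.eq, hDS]
      rw [show (a * l)⁻¹ * (b * l) = l⁻¹ * (a⁻¹ * b) * l by group]
      exact ⟨fun e => ⟨ha.1.inv.mul hb.1, mul_mem (inv_mem ha.2) hb.2, e⟩, fun e => e.2.2⟩
  have h5 : Nat.card {γ : G ⧸ D.G0 // ∃ k ∈ CU, ((k * l : G) : G ⧸ D.G0) = γ} * Nat.card P = Nat.card CU :=
    card_fibre (fun p hp => (hCU p).mpr ⟨h.cn hp, (huP p hp).symm⟩) _ fun a ha b hb => by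
      rw [QuotientGroup.eq, show (a * l)⁻¹ * (b * l) = l⁻¹ * (a⁻¹ * b) * l by group]
      have hab' := mul_mem (inv_mem ha) hb
      refine ⟨fun e => hzfix _ ((hDS _).mpr ⟨((hCU _).mp hab').1, ?_, e⟩) ((hCU _).mp hab').2,
        fun e => h.inAt hl _ e⟩
      exact (hCU0 hab').2
  set O := {γ : G ⧸ D.G0 // ∃ k ∈ L0, ((k * l : G) : G ⧸ D.G0) = γ}
  have hPpos : 0 < Nat.card P := Nat.card_pos
  have hOm : Nat.card O = m := by
    refine le_antisymm ?_ ?_
    · refine Nat.le_of_mul_le_mul_right ?_ (Nat.mul_pos hN0 hPpos)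
      calc Nat.card O * (N0 * Nat.card P) ≤ Nat.card O * Nat.card DS := Nat.mul_le_mul_left _ hbig
        _ = N0 * (m * Nat.card P) := by rw [h4, ← hcCU, h2]
        _ = m * (N0 * Nat.card P) := by ring
    · have : Nat.card {γ : G ⧸ D.G0 // ∃ k ∈ CU, ((k * l : G) : G ⧸ D.G0) = γ} = m :=
        Nat.eq_of_mul_eq_mul_right hPpos (h5.trans hcCU)
      rw [← this]
      exact Nat.card_le_card_of_injective (fun γ => ⟨γ.1, γ.2.imp fun k hk => ⟨hCU0 hk.1, hk.2⟩⟩)
        fun a b e => Subtype.ext (congrArg (fun t : O => t.1) e)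
  -- the fixed points of the given elements
  have hO : ∀ j, m % q ≤ Nat.card {γ : O // a j • γ.1 = γ.1} := by
    intro j
    let Z := Subgroup.zpowers (a j)
    have hp : IsPGroup q Z := fun g => ⟨1, Subtype.ext (by
      obtain ⟨k, hk⟩ := g.2
      show g.1 ^ q ^ 1 = 1
      rw [← hk, pow_one, ← zpow_natCast, ← zpow_mul, mul_comm, zpow_mul, zpow_natCast, haq j, one_zpow])⟩
    let act : MulAction Z O :=
      { smul := fun g γ => ⟨g.1 • γ.1, by
          obtain ⟨k, hk, e⟩ := γ.2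
          refine ⟨g.1 * k, mul_mem (Subgroup.zpowers_le.mpr (show a j ∈ L0 from ⟨haP j, ha0 j⟩) g.2) hk, ?_⟩
          rw [← e, MulAction.Quotient.smul_coe, smul_eq_mul, mul_assoc]⟩
        one_smul := fun γ => Subtype.ext (one_smul _ _)
        mul_smul := fun g g' γ => Subtype.ext (mul_smul _ _ _) }
    have hmod := hp.card_modEq_card_fixedPoints (α := O)
    rw [hOm] at hmod
    have hle : Nat.card (MulAction.fixedPoints Z O) ≤ Nat.card {γ : O // a j • γ.1 = γ.1} :=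
      Nat.card_le_card_of_injective
        (fun γ => ⟨γ.1, congrArg Subtype.val (γ.2 ⟨a j, Subgroup.mem_zpowers _⟩)⟩)
        fun x y e => Subtype.ext (congrArg (fun t : {γ : O // a j • γ.1 = γ.1} => t.1) e)
    calc m % q = Nat.card (MulAction.fixedPoints Z O) % q := hmod
      _ ≤ _ := (Nat.mod_le _ _).trans hle
  have hinj : Function.Injective fun t : Σ j, {γ : O // a j • γ.1 = γ.1} => t.2.1 := by
    rintro ⟨i, γ, hi⟩ ⟨j, γ', hj⟩ e
    obtain rfl : γ = γ' := e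
    by_cases hij : i = j
    · subst hij; rfl
    exfalso
    obtain ⟨k, hk, e⟩ := γ.2
    have hd : ∀ x, x ∈ L0 → x • γ.1 = γ.1 → k⁻¹ * x * k ∈ DS := by
      intro x hx hxγ
      refine (hDS _).mpr ⟨(hk.1.inv.mul hx.1).mul hk.1, mul_mem (mul_mem (inv_mem hk.2) hx.2) hk.2, ?_⟩
      rw [← e, MulAction.Quotient.smul_coe, smul_eq_mul, QuotientGroup.eq] at hxγ
      have := inv_mem hxγ
      rwa [show ((x * (k * l))⁻¹ * (k * l))⁻¹ = l⁻¹ * (k⁻¹ * x * k) * l by group] at this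
    obtain ⟨p, hp, hc⟩ := hab _ (hd _ ⟨haP i, ha0 i⟩ hi) _ (hd _ ⟨haP j, ha0 j⟩ hj)
    refine hnc i j hij p hp ?_
    calc a i * a j = k * (k⁻¹ * a i * k * (k⁻¹ * a j * k)) * k⁻¹ := by group
      _ = k * (k⁻¹ * a j * k * (k⁻¹ * a i * k) * p) * k⁻¹ := by rw [hc]
      _ = a j * a i * (k * p * k⁻¹) := by group
      _ = _ := by rw [hk.1.fix hp]
  have := Nat.card_le_card_of_injective _ hinj
  rw [Nat.card_sigma, hOm] at this
  have h6 : K * (m % q) ≤ ∑ j, Nat.card {γ : O // a j • γ.1 = γ.1} := by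
    refine le_trans (le_of_eq ?_) (Finset.sum_le_sum fun j _ => hO j)
    simp
  omega

end Top

end CfsgLib.HeldRecog
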