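/-
The two remaining criteria in terms of codes, the class that never fuses, and the subgroup of the five letters.
-/
import Cfsg.Agent.Lib.HeldRecog.Rank
import Cfsg.Agent.Lib.HeldRecog.Count
import Cfsg.Agent.Lib.HeldRecog.Local

set_option autoImplicit false
set_option maxRecDepth 100000

namespace CfsgLib.HeldRecog

open CfsgLib.CosetEnum CfsgLib.HeCent

/-- Class one has no square roots of its element among its centraliser, the classes of that size have roots of
the central involution. -/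
noncomputable def rootOneOK : Bool :=
  force (clsCode 1) (fun r => (centList 1).all fun n => force (codeN n) fun c => !Nat.beq (mulF c c) r) &&
    [1, 4].all fun k => (centList k).any fun n => force (codeN n) fun c => Nat.beq (mulF c c) sCode

theorem rootOne_ok : rootOneOK = true := by decide +kernel

namespace Emb

variable {G : Type*} [Group G] (D : Emb G)

/-- The second class with centraliser of order 256 is never fused with the central involution. -/
theorem not_rep_one : ¬ D.IsZ (D.φ (rep 1)) := by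
  rintro ⟨g, hgz⟩
  obtain ⟨a, hga⟩ := D.exists_pre hgz
  have ha2 : a * a = 1 := D.inj (by
    rw [map_mul, map_one]
    calc D.φ a * D.φ a = g⁻¹ * ((g * D.φ a * g⁻¹) * (g * D.φ a * g⁻¹)) * g := by group
      _ = 1 := by rw [hga, D.z_sq]; group)
  have ha1 : a ≠ 1 := by
    rintro rfl
    rw [map_one, mul_one, mul_inv_cancel] at hga
    exact Zh_ne (D.inj (D.map_Zh.trans (hga.symm.trans (map_one _).symm)))
  obtain ⟨k, hk, y, hy⟩ := inv_cases ha2 ha1
  have hc := D.cent_card_eq hgz hga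
  rw [conj_comm_card hy, card_cent_rep hk, card_cent_rep (by norm_num)] at hc
  have hk14 : k ∈ [1, 4] := by interval_cases k <;> simp [centSize] at hc ⊢
  have h := rootOne_ok
  simp only [rootOneOK, force_eq, Bool.and_eq_true, List.all_eq_true, List.any_eq_true, Nat.beq_eq,
    Bool.not_eq_true', ← Bool.not_eq_true] at h
  obtain ⟨n, hn, hsq⟩ := h.2 k hk14
  have hk6 : k ≠ 6 := by rintro rfl; simp at hk14
  have hcomm := ((enum_rep hk hk6).mem (eltN n)).mpr ⟨n, hn, rfl⟩
  have hsq' : eltN n * eltN n = Zh := (((hasCode_eltN n).mul (hasCode_eltN n)).eq_iff Zh_code).mpr hsq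
  set x := y * eltN n * y⁻¹ with hx
  have hxa : x * a = a * x := by
    rw [hx, hy]
    calc y * eltN n * y⁻¹ * (y * rep k * y⁻¹) = y * (eltN n * rep k) * y⁻¹ := by group
      _ = _ := by rw [hcomm]; group
  obtain ⟨f, hf⟩ := D.exists_transport hgz hga
  obtain ⟨m, hm, e⟩ := ((enum_rep (k := 1) (by norm_num) (by norm_num)).mem _).mp (f ⟨x, hxa⟩).2
  refine h.1 m hm (((hasCode_eltN m).mul (hasCode_eltN m)).eq_iff (rep_hasCode (by norm_num)) |>.mp (D.inj ?_))
  rw [e, map_mul, hf, ← hgz]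
  show g * D.φ x * g⁻¹ * (g * D.φ x * g⁻¹) = g * D.z * g⁻¹
  rw [show g * D.φ x * g⁻¹ * (g * D.φ x * g⁻¹) = g * D.φ (x * x) * g⁻¹ by simp [map_mul, mul_assoc], hx,
    show y * eltN n * y⁻¹ * (y * eltN n * y⁻¹) = y * (eltN n * eltN n) * y⁻¹ by group, hsq', Zh_comm,
    mul_inv_cancel_right, D.map_Zh]

theorem not_small {k : ℕ} (hk : k < 2) : ¬ D.IsZ (D.φ (rep k)) := by
  interval_cases k
  · rintro ⟨g, hg⟩; exact D.not_rep_zero hg
  · exact D.not_rep_one

end Emb

namespace Ctx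

variable {G : Type*} [Group G] {k : ℕ} (D : Ctx G k)

/-- The subgroup generated by the five letters. -/
noncomputable def gens5 : Subgroup G := Subgroup.closure (D.τ '' Set.Iio 5)

theorem τ_mem {i : ℕ} (hi : i < 5) : D.τ i ∈ D.gens5 := Subgroup.subset_closure ⟨i, hi, rfl⟩

theorem ev_mem {w : List ℕ} (hw : ∀ i ∈ w, i < 5) : D.ev w ∈ D.gens5 :=
  Subgroup.list_prod_mem _ fun x hx => by
    obtain ⟨i, hi, rfl⟩ := List.mem_map.mp hx
    exact D.τ_mem (hw i hi)

theorem φ_mem_gens5 (x : HS) : D.φ x ∈ D.gens5 := by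
  obtain ⟨w, rfl⟩ := exists_word x
  induction w with
  | nil => simp [wEl]
  | cons i w ih =>
    rw [show wEl (i :: w) = gen i * wEl w by simp [wEl], map_mul]
    refine mul_mem ?_ ih
    by_cases h4 : i < 4
    · have := D.τ_mem (i := i) (by omega)
      rwa [Ctx.τ, if_pos h4] at this
    · simp [gen, h4]

theorem s_mem_gens5 : D.s ∈ D.gens5 := by simpa [Ctx.τ] using D.τ_mem (i := 4) (by norm_num)

theorem ev_append (v w : List ℕ) : D.ev (v ++ w) = D.ev v * D.ev w := by
  simp [Ctx.ev, List.map_append, List.prod_append]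

theorem ev_reverse : ∀ w : List ℕ, D.ev w.reverse = (D.ev w)⁻¹
  | [] => by simp [Ctx.ev]
  | i :: w => by
    rw [List.reverse_cons, ev_append, ev_reverse w, show D.ev (i :: w) = D.τ i * D.ev w by simp [Ctx.ev],
      show D.ev [i] = D.τ i by simp [Ctx.ev], mul_inv_rev, inv_eq_of_mul_eq_one_right (D.τ_sq i)]

/-- The controlling subgroup of the five letters. -/
noncomputable def top {zc : List ℕ} (hz : ∀ j ∈ zc, ∃ g ∈ D.gens5, g * D.z * g⁻¹ = D.φ (rep j))
    (hnz : ∀ j < 8, j ∉ zc → ¬ D.toEmb.IsZ (D.φ (rep j))) : Top G where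
  toEmb := D.toEmb
  G0 := D.gens5
  φ_mem := D.φ_mem_gens5
  fus := by
    intro x hx
    have h2 : x * x = 1 := D.inj (by rw [map_mul, map_one]; exact D.toEmb.isZ_sq hx)
    have h1 : x ≠ 1 := by rintro rfl; rw [map_one] at hx; exact D.toEmb.not_isZ_one hx
    obtain ⟨j, hj, y, rfl⟩ := inv_cases h2 h1
    have hjz : j ∈ zc := by
      by_contra hn
      rw [map_mul, map_mul, map_inv, D.toEmb.isZ_conj_iff] at hx
      exact hnz j hj hn hx
    obtain ⟨g, hg, e⟩ := hz j hjz
    exact ⟨D.φ y * g, mul_mem (D.φ_mem_gens5 y) hg, by rw [map_mul, map_mul, map_inv, ← e]; group⟩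

theorem top_case {zc : List ℕ} (hz : ∀ j ∈ zc, ∃ g ∈ D.gens5, g * D.z * g⁻¹ = D.φ (rep j))
    (hnz : ∀ j < 8, j ∉ zc → ¬ D.toEmb.IsZ (D.φ (rep j))) (hlt : ∀ j ∈ zc, j < 8) (h6 : 6 ∈ zc) :
    Case (D.top hz hnz) zc :=
  ⟨hlt, h6, fun j hj => (hz j hj).imp fun _ h => h.2, hnz⟩

end Ctx

/-- The number of elements of a centraliser commuting with a list. -/
noncomputable def commCount (k : ℕ) (L : List ℕ) : ℕ := ((centList k).filter fun n => commL L (codeN n)).length

/-- The central involution has no translate in the class. -/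
noncomputable def noTransB (zc : List ℕ) (L : List ℕ) : Bool :=
  L.all fun p => Nat.beq p oneCode || isNb zc (mulF sCode p)

/-- The check of the counting criterion. -/
noncomputable def countB (zc : List ℕ) (k : ℕ) (L : List ℕ) (m : ℕ) : Bool :=
  pureOK zc L && decide L.Nodup && L.contains (clsCode k) && Nat.beq (commCount k L) (m * L.length) &&
    (L.all fun p => Nat.beq p oneCode || isNb zc (mulF sCode p) || L.any fun q =>
      (isZb zc (mulF sCode q) && isNb zc (mulF sCode (mulF p q))) ||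
        (isNb zc (mulF sCode q) && isZb zc (mulF sCode (mulF p q)))) &&
    (centList k).all fun n => force (codeN n) fun c => !commL L c || L.contains c ||
      L.any fun p => isZb zc (mulF c p) || isZb zc (mulF (mulF c c) p) ||
        isZb zc (mulF (mulF (mulF c c) (mulF c c)) p)

theorem exists_code {zc : List ℕ} {L : List ℕ} (hL : pureOK zc L = true) {c : ℕ} (hc : c ∈ L) :
    ∃ x : HS, HasCode x c := by
  simp only [pureOK, Bool.and_eq_true, List.all_eq_true] at hL
  have := (hL.2 c hc).1.1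
  rw [isPb, Bool.or_eq_true] at this
  rcases this with ht | ht
  · exact ⟨1, Nat.beq_eq.mp ht ▸ HasCode.one⟩
  · rw [isNb, force_eq, Bool.and_eq_true, blt_iff] at ht
    exact (cls_elem ht.1).elim fun _ hy => ⟨_, hy⟩

namespace Case

variable {G : Type*} [Group G] {D : Top G} {zc : List ℕ} (K : Case D zc)

/-- Elements centralising a list correspond to filtered indices. -/
theorem card_comm {k : ℕ} (hk : k < 8) (hk6 : k ≠ 6) {L : List ℕ} (hL : pureOK zc L = true)
    (hkL : clsCode k ∈ L) : Nat.card {x : HS // Top.Cn (pSub D L) (D.φ x)} = commCount k L := by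
  have hE := (enum_rep hk hk6).filter (fun x => Top.Cn (pSub D L) (D.φ x)) (fun c => commL L c)
    fun x c hx => ⟨commL_of_cn hL hx, cn_of_commL hL hx⟩
  rw [commCount, ← hE.card_eq]
  refine Nat.card_congr (Equiv.subtypeEquivRight fun x => ⟨fun h => ⟨D.inj ?_, h⟩, And.right⟩)
  rw [map_mul, map_mul]
  exact h _ ((mem_pSub hL).mpr ⟨_, ⟨_, hkL, rep_hasCode hk⟩, rfl⟩)

variable [Finite G]

include K in
/-- The counting criterion for a list. -/
theorem cent_count {k : ℕ} (hk : k < 8) (hk6 : k ≠ 6) {L : List ℕ} {m : ℕ} (h : countB zc k L m = true)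
    {q n : ℕ} [Fact q.Prime] {a : Fin n → G} (ha0 : ∀ j, a j ∈ D.G0) (haP : ∀ j, Top.Cn (pSub D L) (a j))
    (haq : ∀ j, a j ^ q = 1) (hnc : ∀ i j, i ≠ j → ∀ p ∈ pSub D L, a i * a j ≠ a j * a i * p)
    (hn : m < n * (m % q)) : ∀ l, Top.Cn (pSub D L) l → l ∈ D.G0 := by
  simp only [countB, force_eq, Bool.and_eq_true, List.all_eq_true, List.any_eq_true, Nat.beq_eq, decide_eq_true_eq,
    List.contains_iff_mem, Bool.or_eq_true, Bool.not_eq_true'] at h
  obtain ⟨⟨⟨⟨⟨hL, hnd⟩, hkL⟩, hcount⟩, hT⟩, hfix⟩ := h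
  have hP := K.pure_pSub hL
  have huP : Top.Cn (pSub D L) D.z := by
    intro p hp
    obtain ⟨x, -, rfl⟩ := (mem_pSub hL).mp hp
    exact (D.comm_z x).symm
  refine Top.cent_of_count hP D.isZ_z D.z_mem huP ?_ ?_ ?_ ha0 haP haq hnc hn
  · intro w hw p hp e
    obtain ⟨x, ⟨c, hc, hx⟩, rfl⟩ := (mem_pSub hL).mp hp
    rcases hT c hc with (h1 | h1) | ⟨d, hd, h1⟩
    · rw [(hx.eq_iff HasCode.one).mpr h1, map_one]
    · exfalso
      refine K.isNb_sound (Zh_code.mul hx) h1 ?_
      rw [map_mul, D.map_Zh, ← e]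
      exact D.isZ_conj D.isZ_z w
    · exfalso
      obtain ⟨y, hy⟩ := exists_code hL hd
      have hiff := Top.isZ_translate (D := D) hw (u := D.z) ((mem_pSub hL).mpr ⟨y, ⟨d, hd, hy⟩, rfl⟩)
      rw [e, mul_assoc, ← map_mul, ← D.map_Zh, ← map_mul, ← map_mul] at hiff
      rcases h1 with ⟨a1, a2⟩ | ⟨a1, a2⟩
      · exact K.isNb_sound (Zh_code.mul (hx.mul hy)) a2 (hiff.mpr (K.isZb_sound (Zh_code.mul hy) a1))
      · exact K.isNb_sound (Zh_code.mul hy) a1 (hiff.mp (K.isZb_sound (Zh_code.mul (hx.mul hy)) a2))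
  · intro d hd0 hd hdz hdn
    obtain ⟨x, rfl⟩ := (D.mem_range d).mp hdz
    obtain ⟨i, hi, rfl⟩ := ((enum_rep hk hk6).mem x).mp (D.inj (by
      rw [map_mul, map_mul]; exact hd _ ((mem_pSub hL).mpr ⟨_, ⟨_, hkL, rep_hasCode hk⟩, rfl⟩)))
    have hc := hasCode_eltN i
    rcases hfix i hi with (h1 | h1) | ⟨p, hp, h1⟩
    · rw [commL_of_cn hL hc hd] at h1; simp at h1
    · exact absurd ((mem_pSub hL).mpr ⟨_, ⟨_, h1, hc⟩, rfl⟩) hdn
    · obtain ⟨y, hy⟩ := exists_code hL hp
      rcases h1 with (h1 | h1) | h1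
      · exact ⟨1, D.φ y, (mem_pSub hL).mpr ⟨y, ⟨p, hp, hy⟩, rfl⟩, by
          rw [pow_one, ← map_mul]; exact K.isZb_sound (hc.mul hy) h1⟩
      · exact ⟨2, D.φ y, (mem_pSub hL).mpr ⟨y, ⟨p, hp, hy⟩, rfl⟩, by
          rw [pow_two, ← map_mul, ← map_mul]; exact K.isZb_sound ((hc.mul hc).mul hy) h1⟩
      · exact ⟨4, D.φ y, (mem_pSub hL).mpr ⟨y, ⟨p, hp, hy⟩, rfl⟩, by
          rw [show D.φ (eltN i) ^ 4 = D.φ (eltN i * eltN i * (eltN i * eltN i)) by
            rw [map_mul, map_mul, ← pow_two, ← pow_two, ← pow_mul], ← map_mul]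
          exact K.isZb_sound (((hc.mul hc).mul (hc.mul hc)).mul hy) h1⟩
  · have hcardP : Nat.card (pSub D L) = L.length := by
      rw [pSub, Subgroup.card_map_of_injective D.inj]
      refine Nat.card_eq_of_equiv_fin (Equiv.ofBijective
        (fun i : Fin L.length => (⟨(exists_code hL (List.get_mem L i)).choose,
          (mem_lSub hL).mpr ⟨_, List.get_mem L i, (exists_code hL (List.get_mem L i)).choose_spec⟩⟩ : lSub L))
        ⟨fun i j e => ?_, fun x => ?_⟩).symm
      · have e' : (exists_code hL (List.get_mem L i)).choose = (exists_code hL (List.get_mem L j)).choose :=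
          congrArg Subtype.val e
        exact List.nodup_iff_injective_get.mp hnd
          ((exists_code hL (List.get_mem L i)).choose_spec.eq (e' ▸ (exists_code hL (List.get_mem L j)).choose_spec))
      · obtain ⟨c, hc, hx⟩ := (mem_lSub hL).mp x.2
        obtain ⟨i, rfl⟩ := List.get_of_mem hc
        exact ⟨i, Subtype.ext ((exists_code hL (List.get_mem L i)).choose_spec.unique hx)⟩
    rw [hcardP, ← hcount, ← Case.card_comm (D := D) hk hk6 hL hkL]
    refine (Nat.card_eq_of_bijective (fun x : {x : HS // Top.Cn (pSub D L) (D.φ x)} =>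
      (⟨D.φ x.1, D.φ_mem _, x.2, D.comm_z _⟩ : {d : G // d ∈ D.G0 ∧ Top.Cn (pSub D L) d ∧ d * D.z = D.z * d}))
      ⟨fun a b e => Subtype.ext (D.inj (congrArg Subtype.val e)), fun d => ?_⟩).symm
    obtain ⟨x, hx⟩ := (D.mem_range d.1).mp d.2.2.2
    exact ⟨⟨x, hx ▸ d.2.2.1⟩, Subtype.ext hx⟩

include K in
/-- A list carried onto one with a different number of centralising elements. -/
theorem cent_conj {k k' : ℕ} (hk : k < 8) (hk6 : k ≠ 6) (hk' : k' < 8) (hk6' : k' ≠ 6) {L L' : List ℕ}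
    (hL : pureOK zc L = true) (hL' : pureOK zc L' = true) (hkL : clsCode k ∈ L) (hkL' : clsCode k' ∈ L')
    (hn : D.Next (pSub D L)) (hT : noTransB zc L = true) (hne : commCount k L ≠ commCount k' L') {g : G}
    (hg : g ∈ D.G0) (hto : ∀ p ∈ pSub D L', g * p * g⁻¹ ∈ pSub D L)
    (hfrom : ∀ p ∈ pSub D L, g⁻¹ * p * g ∈ pSub D L') : ∀ l, Top.Cn (pSub D L) l → l ∈ D.G0 := by
  have hP := K.pure_pSub hL
  have hzc : ∀ {L : List ℕ}, pureOK zc L = true → Top.Cn (pSub D L) D.z := fun {L} hL p hp => by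
    obtain ⟨x, -, rfl⟩ := (mem_pSub hL).mp hp
    exact (D.comm_z x).symm
  refine Top.cent_of_pair hP hn D.isZ_z D.z_mem (hzc hL) (D.isZ_conj D.isZ_z g)
    (mul_mem (mul_mem hg D.z_mem) (inv_mem hg)) ?_ ?_ ?_
  · intro p hp
    have e := Emb.comm_conj (g := g) (hzc hL' _ (hfrom p hp))
    rwa [show g * (g⁻¹ * p * g) * g⁻¹ = p by group] at e
  · intro p hp hp1 hz
    obtain ⟨x, ⟨c, hc, hx⟩, rfl⟩ := (mem_pSub hL).mp hp
    simp only [noTransB, List.all_eq_true, Bool.or_eq_true, Nat.beq_eq] at hT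
    exfalso
    rw [← D.map_Zh, ← map_mul] at hz
    exact K.isNb_sound (Zh_code.mul hx) ((hT c hc).resolve_left fun e => hp1 (by
      rw [(hx.eq_iff HasCode.one).mpr e, map_one])) hz
  · intro w _ hw e
    obtain ⟨x, hx⟩ := (D.mem_range (w⁻¹ * g)).mp (mul_inv_eq_iff_eq_mul.mp (show w⁻¹ * g * D.z * (w⁻¹ * g)⁻¹ = D.z by
      rw [mul_inv_rev, inv_inv, show w⁻¹ * g * D.z * (g⁻¹ * w) = w⁻¹ * (g * D.z * g⁻¹) * w by group, ← e]
      group))
    refine hne ?_
    rw [← Case.card_comm (D := D) hk hk6 hL hkL, ← Case.card_comm (D := D) hk' hk6' hL' hkL']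
    have key : ∀ a : HS, Top.Cn (pSub D L') (D.φ a) ↔ Top.Cn (pSub D L) (D.φ (x * a * x⁻¹)) := by
      intro a
      rw [map_mul, map_mul, map_inv, hx]
      constructor
      · intro ha p hp
        have e' := Emb.comm_conj (g := w⁻¹ * g) (ha _ (hfrom p hp))
        rw [show w⁻¹ * g * (g⁻¹ * p * g) * (w⁻¹ * g)⁻¹ = w⁻¹ * p * w by group,
          show w⁻¹ * p * w = p by simpa using hw.inv.fix hp] at e'
        exact e'
      · intro ha p hp
        have e' := Emb.comm_conj (g := (w⁻¹ * g)⁻¹) (ha _ (hto p hp))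
        have hp' : w⁻¹ * g * p * (w⁻¹ * g)⁻¹ = g * p * g⁻¹ := by
          rw [show w⁻¹ * g * p * (w⁻¹ * g)⁻¹ = w⁻¹ * (g * p * g⁻¹) * w by group]
          simpa using hw.inv.fix (hto p hp)
        rw [← hp'] at e'
        simp only [inv_inv] at e'
        rw [show (w⁻¹ * g)⁻¹ * (w⁻¹ * g * D.φ a * (w⁻¹ * g)⁻¹) * (w⁻¹ * g) = D.φ a by group,
          show (w⁻¹ * g)⁻¹ * (w⁻¹ * g * p * (w⁻¹ * g)⁻¹) * (w⁻¹ * g) = p by group] at e'
        exact e'
    exact (Nat.card_congr (Equiv.subtypeEquiv (MulAut.conj x).toEquiv fun a => by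
      simpa using key a)).symm

end Case

end CfsgLib.HeldRecog
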