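/-
Checking equations between words in the five letters through a model.
-/
import Cfsg.Agent.Lib.HeldRecog.Extern

set_option autoImplicit false
set_option maxRecDepth 100000

namespace CfsgLib.HeldRecog

open CfsgLib.CosetEnum CfsgLib.HeCent

/-- The letters of a word are among the five. -/
noncomputable def let5 (w : List ℕ) : Bool := w.all fun i => Nat.blt i 5

/-- A word of the element with a given index. -/
def idxW (n : ℕ) : List ℕ := qWord.getD (n / 168 % 128) [] ++ lWord.getD (n % 168) []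

theorem wEl_idxW (n : ℕ) : wEl (idxW n) = eltN n := rfl

/-- The word carries the first element to the second under conjugation. -/
noncomputable def conjB (eqB : List ℕ → List ℕ → Bool) (w a b : List ℕ) : Bool :=
  let5 w && (a.all fun i => Nat.blt i 4) && (b.all fun i => Nat.blt i 4) && eqB (w ++ (a ++ w.reverse)) b

/-- The words commute. -/
noncomputable def commB (eqB : List ℕ → List ℕ → Bool) (w a : List ℕ) : Bool :=
  let5 w && (a.all fun i => Nat.blt i 4) && eqB (w ++ a) (a ++ w)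

/-- The words of the elements of a row. -/
def rowW (e : PairRow) : List (List ℕ) :=
  [[], repW.getD e.k [], idxW e.y, repW.getD e.k [] ++ idxW e.y]

theorem rowW_spec {e : PairRow} (hk : e.k < 8) :
    (∀ c ∈ rowL e, ∃ a ∈ rowW e, HasCode (wEl a) c) ∧ ∀ a ∈ rowW e, ∃ c ∈ rowL e, HasCode (wEl a) c := by
  have h0 : HasCode (wEl []) oneCode := HasCode.one
  have h1 : HasCode (wEl (repW.getD e.k [])) (clsCode e.k) := rep_hasCode hk
  have h2 : HasCode (wEl (idxW e.y)) (codeN e.y) := hasCode_eltN e.y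
  have h3 : HasCode (wEl (repW.getD e.k [] ++ idxW e.y)) (mulF (clsCode e.k) (codeN e.y)) :=
    wEl_append _ _ ▸ h1.mul h2
  constructor
  · intro c hc
    simp only [rowL, force_eq, List.mem_cons, List.not_mem_nil, or_false] at hc
    rcases hc with rfl | rfl | rfl | rfl
    exacts [⟨_, by simp [rowW], h0⟩, ⟨_, by simp [rowW], h1⟩, ⟨_, by simp [rowW], h2⟩, ⟨_, by simp [rowW], h3⟩]
  · intro a ha
    simp only [rowW, List.mem_cons, List.not_mem_nil, or_false] at ha
    rcases ha with rfl | rfl | rfl | rfl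
    exacts [⟨_, by simp [rowL, force_eq], h0⟩, ⟨_, by simp [rowL, force_eq], h1⟩, ⟨_, by simp [rowL, force_eq], h2⟩,
      ⟨_, by simp [rowL, force_eq], h3⟩]

namespace Ctx

variable {G : Type*} [Group G] (D : Ctx G 0) {eqB : List ℕ → List ℕ → Bool}

/-- The checker is sound for the group. -/
def Sound (eqB : List ℕ → List ℕ → Bool) : Prop :=
  ∀ v w, (∀ i ∈ v, i < 5) → (∀ i ∈ w, i < 5) → eqB v w = true → D.ev v = D.ev w

variable {D}

theorem Sound.conj (hs : D.Sound eqB) {w a b : List ℕ} (h : conjB eqB w a b = true) :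
    D.ev w ∈ D.gens5 ∧ D.ev w * D.φ (wEl a) * (D.ev w)⁻¹ = D.φ (wEl b) := by
  simp only [conjB, let5, Bool.and_eq_true, List.all_eq_true, blt_iff] at h
  obtain ⟨⟨⟨hw, ha⟩, hb⟩, he⟩ := h
  refine ⟨D.ev_mem hw, ?_⟩
  have e := hs _ _ (fun i hi => ?_) (fun i hi => Nat.lt_succ_of_lt (hb i hi)) he
  · rw [D.ev_append, D.ev_append, D.ev_reverse, D.ev_of_lt ha, D.ev_of_lt hb, ← mul_assoc] at e
    exact e
  · rcases List.mem_append.mp hi with hi | hi
    · exact hw i hi
    · rcases List.mem_append.mp hi with hi | hi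
      · exact Nat.lt_succ_of_lt (ha i hi)
      · exact hw i (List.mem_reverse.mp hi)

theorem Sound.comm (hs : D.Sound eqB) {w a : List ℕ} (h : commB eqB w a = true) :
    D.ev w * D.φ (wEl a) = D.φ (wEl a) * D.ev w := by
  simp only [commB, let5, Bool.and_eq_true, List.all_eq_true, blt_iff] at h
  obtain ⟨⟨hw, ha⟩, he⟩ := h
  have e := hs _ _ (fun i hi => (List.mem_append.mp hi).elim (hw i) fun hi => Nat.lt_succ_of_lt (ha i hi))
    (fun i hi => (List.mem_append.mp hi).elim (fun hi => Nat.lt_succ_of_lt (ha i hi)) (hw i)) he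
  rwa [D.ev_append, D.ev_append, D.ev_of_lt ha] at e

/-- A word carrying the central involution to a representative. -/
theorem Sound.isZ_rep (hs : D.Sound eqB) {k : ℕ} {w : List ℕ} (h : conjB eqB w zW (repW.getD k []) = true) :
    ∃ g ∈ D.gens5, g * D.z * g⁻¹ = D.φ (rep k) := by
  obtain ⟨hm, e⟩ := hs.conj h
  refine ⟨_, hm, ?_⟩
  rw [← D.map_Zh]
  exact e

/-- A word carrying one representative to another shows that it is not fused either. -/
theorem Sound.not_isZ_rep (hs : D.Sound eqB) {k j : ℕ} {w : List ℕ}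
    (h : conjB eqB w (repW.getD k []) (repW.getD j []) = true) (hj : ¬ D.toEmb.IsZ (D.φ (rep j))) :
    ¬ D.toEmb.IsZ (D.φ (rep k)) := by
  obtain ⟨-, e⟩ := hs.conj h
  intro hk
  refine hj ?_
  show D.toEmb.IsZ (D.φ (wEl (repW.getD j [])))
  rw [← e]
  exact D.toEmb.isZ_conj hk _

end Ctx

/-- The word carries the elements of a row onto those of another row. -/
noncomputable def rowConjB (eqB : List ℕ → List ℕ → Bool) (w : List ℕ) (e e' : PairRow) : Bool :=
  ((rowW e).all fun a => (rowW e').any fun b => conjB eqB w a b) &&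
    (rowW e').all fun b => (rowW e).any fun a => conjB eqB w a b

/-- The word centralises the elements of a row. -/
noncomputable def rowCommB (eqB : List ℕ → List ℕ → Bool) (w : List ℕ) (e : PairRow) : Bool :=
  (rowW e).all fun a => commB eqB w a

variable {G : Type*} [Group G] {C : Ctx G 0} {eqB : List ℕ → List ℕ → Bool} {T : Top G} {zc : List ℕ}

theorem Ctx.Sound.row_conj (hs : C.Sound eqB) (hφ : T.φ = C.φ) (hG : T.G0 = C.gens5) {w : List ℕ} {e e' : PairRow}
    (hk : e.k < 8) (hk' : e'.k < 8) (hL : pureOK zc (rowL e) = true) (hL' : pureOK zc (rowL e') = true)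
    (h : rowConjB eqB w e e' = true) :
    C.ev w ∈ T.G0 ∧ (∀ p ∈ pSub T (rowL e), C.ev w * p * (C.ev w)⁻¹ ∈ pSub T (rowL e')) ∧
      ∀ p ∈ pSub T (rowL e'), (C.ev w)⁻¹ * p * C.ev w ∈ pSub T (rowL e) := by
  simp only [rowConjB, Bool.and_eq_true, List.all_eq_true, List.any_eq_true] at h
  refine ⟨?_, fun p hp => ?_, fun p hp => ?_⟩
  · obtain ⟨b, -, hb⟩ := h.1 [] (by simp [rowW])
    exact hG ▸ (hs.conj hb).1
  · obtain ⟨x, ⟨c, hc, hx⟩, rfl⟩ := (mem_pSub hL).mp hp
    obtain ⟨a, ha, hac⟩ := (rowW_spec hk).1 c hc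
    obtain ⟨b, hb, hab⟩ := h.1 a ha
    obtain ⟨c', hc', hbc⟩ := (rowW_spec hk').2 b hb
    rw [hx.unique hac, hφ, (hs.conj hab).2, ← hφ]
    exact (mem_pSub hL').mpr ⟨_, ⟨c', hc', hbc⟩, rfl⟩
  · obtain ⟨x, ⟨c, hc, hx⟩, rfl⟩ := (mem_pSub hL').mp hp
    obtain ⟨b, hb, hbc⟩ := (rowW_spec hk').1 c hc
    obtain ⟨a, ha, hab⟩ := h.2 b hb
    obtain ⟨c', hc', hac⟩ := (rowW_spec hk).2 a ha
    have e1 := (hs.conj hab).2
    rw [hx.unique hbc, hφ, ← e1, show (C.ev w)⁻¹ * (C.ev w * C.φ (wEl a) * (C.ev w)⁻¹) * C.ev w = C.φ (wEl a) by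
      group, ← hφ]
    exact (mem_pSub hL).mpr ⟨_, ⟨c', hc', hac⟩, rfl⟩

theorem Ctx.Sound.row_comm (hs : C.Sound eqB) (hφ : T.φ = C.φ) {w : List ℕ} {e : PairRow}
    (hk : e.k < 8) (hL : pureOK zc (rowL e) = true) (h : rowCommB eqB w e = true) :
    Top.Cn (pSub T (rowL e)) (C.ev w) := by
  intro p hp
  obtain ⟨x, ⟨c, hc, hx⟩, rfl⟩ := (mem_pSub hL).mp hp
  obtain ⟨a, ha, hac⟩ := (rowW_spec hk).1 c hc
  rw [hx.unique hac, hφ]
  exact hs.comm (List.all_eq_true.mp h a ha)

/-- A criterion transported along a conjugation in the subgroup. -/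
theorem Top.cent_transfer {P Q : Subgroup G} (hQ : ∀ l, Top.Cn Q l → l ∈ T.G0) {g : G} (hg : g ∈ T.G0)
    (h : ∀ q ∈ Q, g * q * g⁻¹ ∈ P) : ∀ l, Top.Cn P l → l ∈ T.G0 := by
  intro l hl
  have h2 : g⁻¹ * l * g ∈ T.G0 := hQ _ fun q hq => by
    have e := Emb.comm_conj (g := g⁻¹) (hl _ (h q hq))
    rw [show g⁻¹ * (g * q * g⁻¹) * g⁻¹⁻¹ = q by group, inv_inv] at e
    exact e
  have := mul_mem (mul_mem hg h2) (inv_mem hg)
  rwa [show g * (g⁻¹ * l * g) * g⁻¹ = l by group] at this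

end CfsgLib.HeldRecog
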