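/-
Words in the five letters witnessing fusion and the remaining criteria.
-/
import Mathlib.Data.Nat.Notation
import Mathlib.Data.List.Basic

set_option autoImplicit false
set_option maxRecDepth 100000

namespace CfsgLib.HeldRecog

/-- Words carrying the central involution to representatives. -/
def heZW : List (List ℕ) := [[], [], [4, 0, 4, 2, 1, 4, 0, 4], [0, 2, 4], [2, 3, 0, 4, 2, 1, 4, 0, 4], [1, 3, 1, 4, 0, 4], [], [0, 3, 1, 0, 3, 1, 4, 2, 1, 4, 0, 4, 1, 4, 2, 1, 4, 0, 4]]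

/-- Index, prime and words of the counting criterion for the rows. -/
def heCW : List (ℕ × ℕ × List (List ℕ)) := [(5, 64, [[4, 0, 4, 2, 1, 4, 0, 4, 0, 2, 3, 1, 3, 0, 4, 0, 4, 1, 2, 4, 0, 4, 1, 3, 1, 0, 1, 0, 1, 2, 3], [0, 2, 3, 0, 4, 0, 4, 2, 1, 4, 0, 4, 0, 2, 3, 1, 3, 0, 4, 0, 4, 1, 2, 4, 0, 4, 1, 3, 1, 0, 1, 0, 1, 2, 3, 0, 3, 2, 0], [1, 2, 3, 1, 3, 4, 0, 4, 2, 1, 4, 0, 4, 0, 2, 3, 1, 3, 0, 4, 0, 4, 1, 2, 4, 0, 4, 1, 3, 1, 0, 1, 0, 1, 2, 3, 3, 1, 3, 2, 1], [3, 0, 2, 0, 3, 4, 0, 4, 2, 1, 4, 0, 4, 0, 2, 3, 1, 3, 0, 4, 0, 4, 1, 2, 4, 0, 4, 1, 3, 1, 0, 1, 0, 1, 2, 3, 3, 0, 2, 0, 3], [3, 0, 1, 0, 3, 4, 0, 4, 2, 1, 4, 0, 4, 0, 2, 3, 1, 3, 0,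 4, 0, 4, 1, 2, 4, 0, 4, 1, 3, 1, 0, 1, 0, 1, 2, 3, 3, 0, 1, 0, 3], [3, 0, 1, 2, 0, 3, 4, 0, 4, 2, 1, 4, 0, 4, 0, 2, 3, 1, 3, 0, 4, 0, 4, 1, 2, 4, 0, 4, 1, 3, 1, 0, 1, 0, 1, 2, 3, 3, 0, 2, 1, 0, 3], [0, 1, 2, 0, 1, 2, 0, 4, 0, 4, 2, 1, 4, 0, 4, 0, 2, 3, 1, 3, 0, 4, 0, 4, 1, 2, 4, 0, 4, 1, 3, 1, 0, 1, 0, 1, 2, 3, 0, 2, 1, 0, 2, 1, 0], [0, 1, 0, 2, 0, 1, 0, 4, 0, 4, 2, 1, 4, 0, 4, 0, 2, 3, 1, 3, 0, 4, 0, 4, 1, 2, 4, 0, 4, 1, 3, 1, 0, 1, 0, 1, 2, 3, 0, 1, 0, 2, 0, 1, 0], [3, 1, 0, 2, 0, 1, 3, 4, 0, 4, 2, 1, 4, 0, 4, 0, 2, 3, 1, 3, 0, 4, 0, 4, 1, 2, 4, 0, 4, 1, 3, 1, 0, 1, 0, 1, 2, 3, 3, 1, 0, 2, 0, 1, 3], [0, 3, 1, 0, 1, 3, 0, 4, 0, 4, 2, 1,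 4, 0, 4, 0, 2, 3, 1, 3, 0, 4, 0, 4, 1, 2, 4, 0, 4, 1, 3, 1, 0, 1, 0, 1, 2, 3, 0, 3, 1, 0, 1, 3, 0], [0, 1, 0, 3, 0, 1, 0, 4, 0, 4, 2, 1, 4, 0, 4, 0, 2, 3, 1, 3, 0, 4, 0, 4, 1, 2, 4, 0, 4, 1, 3, 1, 0, 1, 0, 1, 2, 3, 0, 1, 0, 3, 0, 1, 0], [1, 3, 0, 1, 0, 2, 3, 4, 0, 4, 2, 1, 4, 0, 4, 0, 2, 3, 1, 3, 0, 4, 0, 4, 1, 2, 4, 0, 4, 1, 3, 1, 0, 1, 0, 1, 2, 3, 3, 2, 0, 1, 0, 3, 1], [0, 1, 2, 0, 1, 3, 0, 4, 0, 4, 2, 1, 4, 0, 4, 0, 2, 3, 1, 3, 0, 4, 0, 4, 1, 2, 4, 0, 4, 1, 3, 1, 0, 1, 0, 1, 2, 3, 0, 3, 1, 0, 2, 1, 0], [3, 1, 0, 1, 0, 1, 3, 4, 0, 4, 2, 1, 4, 0, 4, 0, 2, 3, 1, 3, 0, 4, 0, 4, 1, 2, 4, 0, 4, 1, 3, 1, 0, 1, 0, 1, 2, 3, 3, 1, 0, 1, 0, 1, 3],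 [0, 3, 1, 0, 1, 2, 0, 4, 0, 4, 2, 1, 4, 0, 4, 0, 2, 3, 1, 3, 0, 4, 0, 4, 1, 2, 4, 0, 4, 1, 3, 1, 0, 1, 0, 1, 2, 3, 0, 2, 1, 0, 1, 3, 0], [3, 1, 0, 2, 0, 2, 3, 1, 4, 0, 4, 2, 1, 4, 0, 4, 0, 2, 3, 1, 3, 0, 4, 0, 4, 1, 2, 4, 0, 4, 1, 3, 1, 0, 1, 0, 1, 2, 3, 1, 3, 2, 0, 2, 0, 1, 3], [1, 2, 3, 0, 2, 0, 1, 3, 4, 0, 4, 2, 1, 4, 0, 4, 0, 2, 3, 1, 3, 0, 4, 0, 4, 1, 2, 4, 0, 4, 1, 3, 1, 0, 1, 0, 1, 2, 3, 3, 1, 0, 2, 0, 3, 2, 1]]),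
  (3, 8, [[1, 0, 1, 3, 0, 1, 0, 2, 0, 1, 0, 3, 0, 1, 4, 0, 4, 2, 1, 4, 0, 4, 0, 1, 0, 2, 0, 1, 0, 3, 1, 3, 4, 0, 4, 1, 2, 4, 0, 4], [0, 1, 0, 1, 0, 1, 0, 1, 1, 0, 1, 3, 0, 1, 0, 2, 0, 1, 0, 3, 0, 1, 4, 0, 4, 2, 1, 4, 0, 4, 0, 1, 0, 2, 0, 1, 0, 3, 1, 3, 4, 0, 4, 1, 2, 4, 0, 4, 1, 0, 1, 0, 1, 0, 1, 0], [0, 2, 0, 1, 3, 1, 3, 0, 2, 1, 0, 1, 3, 0, 1, 0, 2, 0, 1, 0, 3, 0, 1, 4, 0, 4, 2, 1, 4, 0, 4, 0, 1, 0, 2, 0, 1, 0, 3, 1, 3, 4, 0, 4, 1, 2, 4, 0, 4, 2, 0, 3, 1, 3, 1, 0, 2, 0], [2, 0, 1, 3, 1, 0, 2, 3, 0, 3, 1, 0, 1, 3, 0, 1, 0, 2, 0, 1, 0, 3, 0, 1, 4, 0, 4, 2, 1, 4, 0, 4, 0, 1, 0, 2, 0, 1, 0, 3, 1, 3, 4, 0, 4, 1, 2, 4, 0, 4, 3, 0, 3, 2, 0, 1,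 3, 1, 0, 2], [0, 2, 0, 1, 0, 3, 0, 3, 1, 0, 2, 0, 0, 2, 4, 2, 0, 1, 2, 3, 1, 3, 0, 2, 4, 2, 0, 0, 2, 0, 1, 3, 0, 3, 0, 1, 0, 2, 0, 1, 0, 1, 3, 0, 1, 0, 2, 0, 1, 0, 3, 0, 1, 4, 0, 4, 2, 1, 4, 0, 4, 0, 1, 0, 2, 0, 1, 0, 3, 1, 3, 4, 0, 4, 1, 2, 4, 0, 4, 0, 2, 0, 1, 0, 3, 0, 3, 1, 0, 2, 0, 0, 2, 4, 2, 0, 3, 1, 3, 2, 1, 0, 2, 4, 2, 0, 0, 2, 0, 1, 3, 0, 3, 0, 1, 0, 2, 0]]),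
  (5, 64, [[3, 0, 1, 2, 3, 0, 1, 4, 0, 4, 2, 1, 4, 0, 4, 1, 0, 1, 0, 1, 2, 3, 1, 3, 4, 0, 4, 1, 2, 4, 0, 4], [0, 3, 0, 1, 2, 3, 0, 1, 4, 0, 4, 2, 1, 4, 0, 4, 1, 0, 1, 0, 1, 2, 3, 1, 3, 4, 0, 4, 1, 2, 4, 0, 4, 0], [3, 0, 3, 3, 0, 1, 2, 3, 0, 1, 4, 0, 4, 2, 1, 4, 0, 4, 1, 0, 1, 0, 1, 2, 3, 1, 3, 4, 0, 4, 1, 2, 4, 0, 4, 3, 0, 3], [0, 3, 0, 3, 3, 0, 1, 2, 3, 0, 1, 4, 0, 4, 2, 1, 4, 0, 4, 1, 0, 1, 0, 1, 2, 3, 1, 3, 4, 0, 4, 1, 2, 4, 0, 4, 3, 0, 3, 0], [2, 0, 2, 0, 2, 3, 0, 1, 2, 3, 0, 1, 4, 0, 4, 2, 1, 4, 0, 4, 1, 0, 1, 0, 1, 2, 3, 1, 3, 4, 0, 4, 1, 2, 4, 0, 4, 2, 0, 2, 0, 2], [2, 0, 3, 0, 2, 3, 0, 1, 2, 3, 0, 1, 4, 0, 4, 2, 1, 4, 0, 4, 1, 0,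 1, 0, 1, 2, 3, 1, 3, 4, 0, 4, 1, 2, 4, 0, 4, 2, 0, 3, 0, 2], [2, 0, 1, 0, 2, 3, 0, 1, 2, 3, 0, 1, 4, 0, 4, 2, 1, 4, 0, 4, 1, 0, 1, 0, 1, 2, 3, 1, 3, 4, 0, 4, 1, 2, 4, 0, 4, 2, 0, 1, 0, 2], [2, 0, 2, 3, 0, 2, 3, 0, 1, 2, 3, 0, 1, 4, 0, 4, 2, 1, 4, 0, 4, 1, 0, 1, 0, 1, 2, 3, 1, 3, 4, 0, 4, 1, 2, 4, 0, 4, 2, 0, 3, 2, 0, 2], [0, 2, 0, 2, 0, 2, 3, 0, 1, 2, 3, 0, 1, 4, 0, 4, 2, 1, 4, 0, 4, 1, 0, 1, 0, 1, 2, 3, 1, 3, 4, 0, 4, 1, 2, 4, 0, 4, 2, 0, 2, 0, 2, 0], [0, 2, 0, 3, 0, 2, 3, 0, 1, 2, 3, 0, 1, 4, 0, 4, 2, 1, 4, 0, 4, 1, 0, 1, 0, 1, 2, 3, 1, 3, 4, 0, 4, 1, 2, 4, 0, 4, 2, 0, 3, 0, 2, 0], [2, 3, 1, 3, 0, 1, 3, 0, 1, 2, 3, 0, 1, 4, 0, 4, 2, 1,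 4, 0, 4, 1, 0, 1, 0, 1, 2, 3, 1, 3, 4, 0, 4, 1, 2, 4, 0, 4, 1, 0, 3, 1, 3, 2], [0, 2, 0, 1, 0, 2, 3, 0, 1, 2, 3, 0, 1, 4, 0, 4, 2, 1, 4, 0, 4, 1, 0, 1, 0, 1, 2, 3, 1, 3, 4, 0, 4, 1, 2, 4, 0, 4, 2, 0, 1, 0, 2, 0], [2, 0, 1, 2, 0, 2, 3, 0, 1, 2, 3, 0, 1, 4, 0, 4, 2, 1, 4, 0, 4, 1, 0, 1, 0, 1, 2, 3, 1, 3, 4, 0, 4, 1, 2, 4, 0, 4, 2, 0, 2, 1, 0, 2], [2, 0, 1, 0, 2, 0, 3, 0, 1, 2, 3, 0, 1, 4, 0, 4, 2, 1, 4, 0, 4, 1, 0, 1, 0, 1, 2, 3, 1, 3, 4, 0, 4, 1, 2, 4, 0, 4, 0, 2, 0, 1, 0, 2], [2, 0, 3, 1, 0, 2, 3, 0, 1, 2, 3, 0, 1, 4, 0, 4, 2, 1, 4, 0, 4, 1, 0, 1, 0, 1, 2, 3, 1, 3, 4, 0, 4, 1, 2, 4, 0, 4, 2, 0, 1, 3, 0, 2], [2, 0, 1, 3, 0, 2, 3, 0, 1, 2,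 3, 0, 1, 4, 0, 4, 2, 1, 4, 0, 4, 1, 0, 1, 0, 1, 2, 3, 1, 3, 4, 0, 4, 1, 2, 4, 0, 4, 2, 0, 3, 1, 0, 2], [2, 3, 0, 2, 0, 2, 3, 3, 0, 1, 2, 3, 0, 1, 4, 0, 4, 2, 1, 4, 0, 4, 1, 0, 1, 0, 1, 2, 3, 1, 3, 4, 0, 4, 1, 2, 4, 0, 4, 3, 2, 0, 2, 0, 3, 2]]),
  (5, 64, [[2, 0, 1, 2, 3, 0, 2, 4, 0, 4, 2, 1, 4, 0, 4, 1, 2, 0, 1, 2, 0, 1, 2, 4, 0, 4, 1, 2, 4, 0, 4], [0, 2, 0, 1, 2, 3, 0, 2, 4, 0, 4, 2, 1, 4, 0, 4, 1, 2, 0, 1, 2, 0, 1, 2, 4, 0, 4, 1, 2, 4, 0, 4, 0], [3, 0, 3, 2, 0, 1, 2, 3, 0, 2, 4, 0, 4, 2, 1, 4, 0, 4, 1, 2, 0, 1, 2, 0, 1, 2, 4, 0, 4, 1, 2, 4, 0, 4, 3, 0, 3], [0, 3, 0, 3, 2, 0, 1, 2, 3, 0, 2, 4, 0, 4, 2, 1, 4, 0, 4, 1, 2, 0, 1, 2, 0, 1, 2,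 4, 0, 4, 1, 2, 4, 0, 4, 3, 0, 3, 0], [2, 0, 2, 0, 2, 2, 0, 1, 2, 3, 0, 2, 4, 0, 4, 2, 1, 4, 0, 4, 1, 2, 0, 1, 2, 0, 1, 2, 4, 0, 4, 1, 2, 4, 0, 4, 2, 0, 2, 0, 2], [2, 0, 3, 0, 2, 2, 0, 1, 2, 3, 0, 2, 4, 0, 4, 2, 1, 4, 0, 4, 1, 2, 0, 1, 2, 0, 1, 2, 4, 0, 4, 1, 2, 4, 0, 4, 2, 0, 3, 0, 2], [2, 0, 2, 3, 0, 2, 2, 0, 1, 2, 3, 0, 2, 4, 0, 4, 2, 1, 4, 0, 4, 1, 2, 0, 1, 2, 0, 1, 2, 4, 0, 4, 1, 2, 4, 0, 4, 2, 0, 3, 2, 0, 2], [0, 2, 0, 2, 0, 2, 2, 0, 1, 2, 3, 0, 2, 4, 0, 4, 2, 1, 4, 0, 4, 1, 2, 0, 1, 2, 0, 1, 2, 4, 0, 4, 1, 2, 4, 0, 4, 2, 0, 2, 0, 2, 0], [0, 2, 0, 3, 0, 2, 2, 0, 1, 2, 3, 0, 2, 4, 0, 4, 2, 1, 4, 0, 4, 1, 2, 0, 1, 2, 0, 1, 2, 4, 0, 4,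 1, 2, 4, 0, 4, 2, 0, 3, 0, 2, 0], [2, 3, 1, 3, 0, 1, 2, 0, 1, 2, 3, 0, 2, 4, 0, 4, 2, 1, 4, 0, 4, 1, 2, 0, 1, 2, 0, 1, 2, 4, 0, 4, 1, 2, 4, 0, 4, 1, 0, 3, 1, 3, 2], [1, 0, 2, 3, 1, 3, 2, 0, 1, 2, 3, 0, 2, 4, 0, 4, 2, 1, 4, 0, 4, 1, 2, 0, 1, 2, 0, 1, 2, 4, 0, 4, 1, 2, 4, 0, 4, 3, 1, 3, 2, 0, 1], [2, 3, 0, 2, 0, 2, 3, 2, 0, 1, 2, 3, 0, 2, 4, 0, 4, 2, 1, 4, 0, 4, 1, 2, 0, 1, 2, 0, 1, 2, 4, 0, 4, 1, 2, 4, 0, 4, 3, 2, 0, 2, 0, 3, 2], [1, 0, 2, 3, 1, 0, 3, 2, 0, 1, 2, 3, 0, 2, 4, 0, 4, 2, 1, 4, 0, 4, 1, 2, 0, 1, 2, 0, 1, 2, 4, 0, 4, 1, 2, 4, 0, 4, 3, 0, 1, 3, 2, 0, 1], [1, 2, 0, 2, 0, 1, 2, 2, 0, 1, 2, 3, 0, 2, 4, 0, 4, 2, 1, 4, 0, 4, 1, 2, 0,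 1, 2, 0, 1, 2, 4, 0, 4, 1, 2, 4, 0, 4, 2, 1, 0, 2, 0, 2, 1], [3, 0, 1, 2, 3, 0, 1, 2, 0, 1, 2, 3, 0, 2, 4, 0, 4, 2, 1, 4, 0, 4, 1, 2, 0, 1, 2, 0, 1, 2, 4, 0, 4, 1, 2, 4, 0, 4, 1, 0, 3, 2, 1, 0, 3], [0, 2, 0, 2, 3, 0, 2, 2, 0, 1, 2, 3, 0, 2, 4, 0, 4, 2, 1, 4, 0, 4, 1, 2, 0, 1, 2, 0, 1, 2, 4, 0, 4, 1, 2, 4, 0, 4, 2, 0, 3, 2, 0, 2, 0], [1, 0, 1, 0, 1, 0, 1, 2, 0, 1, 2, 3, 0, 2, 4, 0, 4, 2, 1, 4, 0, 4, 1, 2, 0, 1, 2, 0, 1, 2, 4, 0, 4, 1, 2, 4, 0, 4, 1, 0, 1, 0, 1, 0, 1]])]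

/-- Words carrying the central involution to representatives. -/
def mat24ZW : List (List ℕ) := [[], [], [4, 0, 4, 2, 1, 4, 0, 4], [0, 2, 4], [2, 3, 0, 4, 2, 1, 4, 0, 4], [1, 3, 1, 4, 0, 4], [], []]

/-- The class and the word showing that the seventh class is not fused. -/
def mat24NW : ℕ × List ℕ := (1, [1, 3, 0, 1, 3, 0, 3, 4, 2, 1, 4, 0, 4, 0])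

/-- The word carrying the row 13 to the row 4. -/
def mat24PW : List ℕ := [3, 0, 1, 2, 3, 1, 4, 0, 4, 2, 1, 4, 0, 4]

/-- Words carrying the first row to the third and the fourth. -/
def heTW : List (List ℕ) := [[3, 0, 1, 2, 0, 3, 1, 0, 1, 2, 3, 0, 0], [3, 0, 1, 2, 0, 3, 1, 0, 1, 2, 3, 0, 0]]

end CfsgLib.HeldRecog
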