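/-
The Held branch: the group is the Held group.
-/
import Cfsg.Agent.Lib.HeldRecog.HeHom
import Cfsg.Agent.Lib.HeldRecog.RowsHe
import Cfsg.Agent.Lib.HeldRecog.Wit
import Cfsg.Agent.Lib.HeldRecog.WitData

set_option autoImplicit false
set_option maxRecDepth 100000

namespace CfsgLib.HeldRecog

open CfsgLib.CosetEnum CfsgLib.HeCent

/-- Equality of words through the action of the Held group. -/
noncomputable def heEq (v w : List ℕ) : Bool := sameEl (heSub v) (heSub w)

/-- Difference of words through the action of the Held group. -/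
noncomputable def heNe (v w : List ℕ) : Bool :=
  okWord (heSub v) && okWord (heSub w) && !(six.all fun x => Nat.beq (run1 (heSub v) x) (run1 (heSub w) x))

/-- The row with a given index. -/
def heRow (j : ℕ) : PairRow := heRows.getD j ⟨0, 0, 0, 0, 0, []⟩

theorem heZ_ok : (heZc.all fun k => conjB heEq (heZW.getD k []) zW (repW.getD k [])) = true := by decide +kernel

theorem heRows_fix : heRows.length = 4 ∧ rowConjB heEq (heTW.getD 0 []) (heRow 0) (heRow 2) = true ∧
    rowConjB heEq (heTW.getD 1 []) (heRow 0) (heRow 3) = true := by decide +kernel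

/-- The count, prime and words of a row. -/
def heC (j : ℕ) : ℕ × ℕ × List (List ℕ) := heCW.getD j (0, 0, [])

/-- The checks of one element of the counting criterion. -/
noncomputable def heElemOK (j i : ℕ) : Bool :=
  rowCommB heEq ((heC j).2.2.getD i []) (heRow j) && heEq (powW (heC j).1 ((heC j).2.2.getD i [])) [] &&
    (List.range i).all fun l => (rowW (heRow j)).all fun p =>
      heNe ((heC j).2.2.getD l [] ++ (heC j).2.2.getD i []) ((heC j).2.2.getD i [] ++ ((heC j).2.2.getD l [] ++ p))

theorem heElem0_0 : heElemOK 0 0 = true := by decide +kernel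
theorem heElem0_1 : heElemOK 0 1 = true := by decide +kernel
theorem heElem0_2 : heElemOK 0 2 = true := by decide +kernel
theorem heElem0_3 : heElemOK 0 3 = true := by decide +kernel
theorem heElem0_4 : heElemOK 0 4 = true := by decide +kernel
theorem heElem0_5 : heElemOK 0 5 = true := by decide +kernel
theorem heElem0_6 : heElemOK 0 6 = true := by decide +kernel
theorem heElem0_7 : heElemOK 0 7 = true := by decide +kernel
theorem heElem0_8 : heElemOK 0 8 = true := by decide +kernel
theorem heElem0_9 : heElemOK 0 9 = true := by decide +kernel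
theorem heElem0_10 : heElemOK 0 10 = true := by decide +kernel
theorem heElem0_11 : heElemOK 0 11 = true := by decide +kernel
theorem heElem0_12 : heElemOK 0 12 = true := by decide +kernel
theorem heElem0_13 : heElemOK 0 13 = true := by decide +kernel
theorem heElem0_14 : heElemOK 0 14 = true := by decide +kernel
theorem heElem0_15 : heElemOK 0 15 = true := by decide +kernel
theorem heElem0_16 : heElemOK 0 16 = true := by decide +kernel
theorem heElem1_0 : heElemOK 1 0 = true := by decide +kernel
theorem heElem1_1 : heElemOK 1 1 = true := by decide +kernel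
theorem heElem1_2 : heElemOK 1 2 = true := by decide +kernel
theorem heElem1_3 : heElemOK 1 3 = true := by decide +kernel
theorem heElem1_4 : heElemOK 1 4 = true := by decide +kernel

theorem heCountB : countB heZc (heRow 0).k (rowL (heRow 0)) 64 = true ∧
    countB heZc (heRow 1).k (rowL (heRow 1)) 8 = true ∧ (heC 0).1 = 5 ∧ (heC 1).1 = 3 := by decide +kernel

theorem heElem0 : ∀ i < 17, heElemOK 0 i = true := by
  intro i hi
  match i, hi with
  | 0, _ => exact heElem0_0
  | 1, _ => exact heElem0_1
  | 2, _ => exact heElem0_2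
  | 3, _ => exact heElem0_3
  | 4, _ => exact heElem0_4
  | 5, _ => exact heElem0_5
  | 6, _ => exact heElem0_6
  | 7, _ => exact heElem0_7
  | 8, _ => exact heElem0_8
  | 9, _ => exact heElem0_9
  | 10, _ => exact heElem0_10
  | 11, _ => exact heElem0_11
  | 12, _ => exact heElem0_12
  | 13, _ => exact heElem0_13
  | 14, _ => exact heElem0_14
  | 15, _ => exact heElem0_15
  | 16, _ => exact heElem0_16
  | n + 17, h => omega

theorem heElem1 : ∀ i < 5, heElemOK 1 i = true := by
  intro i hi
  match i, hi with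
  | 0, _ => exact heElem1_0
  | 1, _ => exact heElem1_1
  | 2, _ => exact heElem1_2
  | 3, _ => exact heElem1_3
  | 4, _ => exact heElem1_4
  | n + 5, h => omega

variable {G : Type} [Group G] [Finite G] (D : Ctx G 0) (hb : InBranch D 59 19)
include hb

theorem he_image : ∃ θ : presHe.Grp →* G, Function.Injective θ ∧
    (∀ w : List ℕ, (∀ i ∈ w, i < 5) → θ (heCtx.ev w) = D.ev w) ∧ ∀ i < 5, θ (heCtx.τ i) = D.τ i := by
  obtain ⟨θ, hinj, hφ, hs⟩ := exists_heHom D hb
  have hτ : ∀ i < 5, θ (heCtx.τ i) = D.τ i := by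
    intro i hi
    by_cases h4 : i < 4
    · rw [Ctx.τ, Ctx.τ, if_pos h4, if_pos h4, ← hφ]; rfl
    · obtain rfl : i = 4 := by omega
      rw [Ctx.τ, Ctx.τ, if_neg h4, if_neg h4, if_pos rfl, if_pos rfl]
      exact hs
  refine ⟨θ, hinj, fun w hw => ?_, hτ⟩
  induction w with
  | nil => simp [Ctx.ev]
  | cons i w ih =>
    rw [show heCtx.ev (i :: w) = heCtx.τ i * heCtx.ev w by simp [Ctx.ev],
      show D.ev (i :: w) = D.τ i * D.ev w by simp [Ctx.ev], map_mul, ih fun j hj => hw j (List.mem_cons_of_mem _ hj),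
      hτ i (hw i List.mem_cons_self)]

theorem he_sound : D.Sound heEq := by
  intro v w hv hw h
  obtain ⟨θ, -, hev, -⟩ := he_image D hb
  rw [← hev v hv, ← hev w hw, ← el_heSub v hv, ← el_heSub w hw, el_eq h]

theorem he_ne {v w : List ℕ} (hv : ∀ i ∈ v, i < 5) (hw : ∀ i ∈ w, i < 5) (h : heNe v w = true) :
    D.ev v ≠ D.ev w := by
  obtain ⟨θ, hinj, hev, -⟩ := he_image D hb
  simp only [heNe, Bool.and_eq_true, Bool.not_eq_true'] at h
  rw [← hev v hv, ← hev w hw, ← el_heSub v hv, ← el_heSub w hw]
  exact fun e => el_ne h.1.1 h.1.2 h.2 (hinj e)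

/-- In this branch the group is the Held group. -/
theorem he_iso : Cfsg.Spor.IsoHe G := by
  have hs := he_sound D hb
  have hz : ∀ k ∈ heZc, ∃ g ∈ D.gens5, g * D.z * g⁻¹ = D.φ (rep k) := fun k hk =>
    hs.isZ_rep (List.all_eq_true.mp heZ_ok k hk)
  have hnz : ∀ k < 8, k ∉ heZc → ¬ D.toEmb.IsZ (D.φ (rep k)) := fun k hk hkz => D.toEmb.not_small (by
    by_contra h
    exact hkz (by interval_cases k <;> simp [heZc] at h ⊢))
  set T := D.top hz hnz with hT
  have K : Case T heZc := D.top_case hz hnz (by decide) (by decide)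
  obtain ⟨hlen, hc2, hc3⟩ := heRows_fix
  have hrow : ∀ j < 4, heRow j ∈ heRows := fun j hj => getD_mem (hlen.symm ▸ hj) _
  have hfac : ∀ j < 4, (heRow j).k < 8 ∧ pureOK heZc (rowL (heRow j)) = true := fun j hj =>
    ⟨(Case.row_facts (Case.rowB_of heCaseOK (hrow j hj))).1, (Case.row_facts (Case.rowB_of heCaseOK (hrow j hj))).2.1⟩
  have count : ∀ {j : ℕ}, j < 4 → ∀ {m q n : ℕ} [Fact q.Prime],
      countB heZc (heRow j).k (rowL (heRow j)) m = true → (heC j).1 = q →
      (∀ i < n, heElemOK j i = true) → m < n * (m % q) →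
      ∀ l, Top.Cn (pSub T (rowL (heRow j))) l → l ∈ T.G0 := by
    intro j hj m q n _ hB hq hel hlt
    obtain ⟨hk, hL⟩ := hfac j hj
    have hk6 := (Case.k_ne_six K heGens (hrow j hj)).1
    simp only [heElemOK, Bool.and_eq_true, List.all_eq_true, List.mem_range] at hel
    set a : Fin n → List ℕ := fun i => (heC j).2.2.getD i.1 [] with ha
    have hlet : ∀ i : Fin n, ∀ x ∈ a i, x < 5 := fun i x hx => by
      have h1 := List.all_eq_true.mp (hel i.1 i.2).1.1 [] (by simp [rowW])
      simp only [commB, let5, Bool.and_eq_true, List.all_eq_true, blt_iff] at h1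
      exact h1.1.1 x hx
    refine K.cent_count hk hk6 hB (a := fun i => D.ev (a i)) (fun i => D.ev_mem (hlet i))
      (fun i => hs.row_comm rfl hk hL (hel i.1 i.2).1.1) (fun i => ?_) ?_ hlt
    · have e := he_sound D hb _ _ (letters_powW (hlet i) _) (fun x hx => absurd hx List.not_mem_nil)
        (hel i.1 i.2).1.2
      have key : ∀ r, D.ev (powW r (a i)) = D.ev (a i) ^ r := by
        intro r
        induction r with
        | zero => simp [powW, Ctx.ev]
        | succ r ih => rw [powW, D.ev_append, ih, pow_succ']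
      rw [key, hq] at e
      rw [e]
      rfl
    · intro i l hil p hp hcontra
      have main : ∀ i l : Fin n, i.1 < l.1 → ∀ p ∈ pSub T (rowL (heRow j)),
          D.ev (a i) * D.ev (a l) ≠ D.ev (a l) * D.ev (a i) * p := by
        intro i l hil p hp
        obtain ⟨x, ⟨c, hc, hx⟩, rfl⟩ := (mem_pSub hL).mp hp
        obtain ⟨w, hw, hwc⟩ := (rowW_spec hk).1 c hc
        have hw4 : ∀ y ∈ w, y < 4 := by
          intro y hy
          have h1 := List.all_eq_true.mp (hel i.1 i.2).1.1 w hw
          simp only [commB, let5, Bool.and_eq_true, List.all_eq_true, blt_iff] at h1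
          exact h1.1.2 y hy
        have h2 := he_ne D hb (v := a i ++ a l) (w := a l ++ (a i ++ w))
          (fun y hy => (List.mem_append.mp hy).elim (hlet i y) (hlet l y))
          (fun y hy => (List.mem_append.mp hy).elim (hlet l y) fun hy =>
            (List.mem_append.mp hy).elim (hlet i y) fun hy => Nat.lt_succ_of_lt (hw4 y hy))
          ((hel l.1 l.2).2 i.1 hil w hw)
        rw [D.ev_append, D.ev_append, D.ev_append, D.ev_of_lt hw4, ← hx.unique hwc, ← mul_assoc] at h2
        exact h2
      rcases Nat.lt_or_lt_of_ne (fun e => hil (Fin.ext e)) with h | h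
      · exact main i l h p hp hcontra
      · refine main l i h p hp ?_
        rw [hcontra, mul_assoc _ p p, (K.pure_pSub hL).sq p hp, mul_one]
  obtain ⟨b0, b1, hq0, hq1⟩ := heCountB
  have hf5 : Fact (Nat.Prime 5) := ⟨by norm_num⟩
  have hf3 : Fact (Nat.Prime 3) := ⟨by norm_num⟩
  have h0 := count (j := 0) (by norm_num) (q := 5) b0 hq0 heElem0 (by norm_num)
  have h1 := count (j := 1) (by norm_num) (q := 3) b1 hq1 heElem1 (by norm_num)
  have hext : ∀ e ∈ heRows, 2 ≤ e.kind → ∀ l, Top.Cn (pSub T (rowL e)) l → l ∈ T.G0 := by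
    intro e he _
    obtain ⟨j, hj, rfl⟩ := List.getElem_of_mem he
    rw [hlen] at hj
    rw [← List.getD_eq_getElem _ ⟨0, 0, 0, 0, 0, []⟩]
    have tr : ∀ {j : ℕ} {w : List ℕ}, j < 4 → rowConjB heEq w (heRow 0) (heRow j) = true →
        ∀ l, Top.Cn (pSub T (rowL (heRow j))) l → l ∈ T.G0 := by
      intro j w hj hw
      obtain ⟨hm, hto, -⟩ := hs.row_conj (T := T) rfl rfl (hfac 0 (by norm_num)).1 (hfac j hj).1
        (hfac 0 (by norm_num)).2 (hfac j hj).2 hw
      exact Top.cent_transfer h0 hm hto
    interval_cases j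
    · exact h0
    · exact h1
    · exact tr (by norm_num) hc2
    · exact tr (by norm_num) hc3
  have h00 : ¬ T.IsZ (T.φ (rep 0)) := K.hnz 0 (by norm_num) (by decide)
  have hsq : rep 0 * rep 0 = 1 :=
    (((rep_hasCode (k := 0) (by norm_num)).mul (rep_hasCode (by norm_num))).eq_iff HasCode.one).mpr (by decide +kernel)
  have htop : T.G0 = ⊤ := T.eq_top (T.φ_mem (rep 0)) (by rw [← map_mul, hsq, map_one]) h00
    (fun e => Case.clsCode_ne 0 (by norm_num) ((rep_hasCode (k := 0) (by norm_num)).eq
      (T.inj (e.trans (map_one T.φ).symm) ▸ HasCode.one)))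
    fun i hi0 hi hi1 hiz g hg => K.single_inv heCaseOK heGens hext hi0 hi hi1 hiz hg
  obtain ⟨θ, hinj, -, hτ⟩ := he_image D hb
  have hle : D.gens5 ≤ θ.range := (Subgroup.closure_le _).mpr (by
    rintro _ ⟨i, hi, rfl⟩
    exact ⟨heCtx.τ i, hτ i hi⟩)
  have hsurj : Function.Surjective θ := fun g => hle (show g ∈ T.G0 from htop.symm ▸ Subgroup.mem_top g)
  exact ⟨(MulEquiv.ofBijective θ ⟨hinj, hsurj⟩).symm⟩

end CfsgLib.HeldRecog
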