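/-
Data for the recognition of the general linear group.
-/
import Mathlib.Data.Nat.Notation
import Mathlib.Data.List.Basic

set_option autoImplicit false

namespace CfsgLib.HeldRecog

/-- A transvection of the first subgroup. -/
def l5Wx : List ℕ := [0, 1, 3, 0, 1, 0, 1, 2, 0, 1, 0, 1, 3, 0]

/-- A transvection of the second subgroup. -/
def l5Wy : List ℕ := [0, 2, 0, 1, 3, 1, 3, 0, 2]

/-- An intermediate central transvection. -/
def l5Wc1 : List ℕ := [0, 2, 0, 1, 0, 3, 1, 3, 0, 1]

/-- A transvection relating the two exchanging elements. -/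
def l5Wc : List ℕ := [0, 2, 3, 0, 1, 3, 1, 0, 2, 3]

/-- The commutator of the two witnesses. -/
def l5Wt : List ℕ := [1, 3, 0, 1, 0, 1, 3, 0, 1, 0, 2, 3]

/-- A permutation in the second parabolic subgroup. -/
def l5Wu : List ℕ := [1, 0, 2, 0, 5, 0, 1, 2]

/-- A permutation in the first parabolic subgroup. -/
def l5Wv : List ℕ := [2, 0, 4, 0, 2, 4, 0, 4, 0, 1, 4]

/-- The witness in the second parabolic subgroup. -/
def l5Wa : List ℕ := [0, 5, 0, 5]

/-- The witness in the first parabolic subgroup. -/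
def l5Wb : List ℕ := [4, 0, 2, 3, 0, 4]

/-- The codes of the conjugates of the first transvection. -/
def l5LA : List ℕ := [17044545, 17044577, 17076289, 17076321, 17077313, 17077345, 18092097, 18092129, 18093121, 18093153, 18124865, 18124897, 18125889, 18125921]

/-- The fixed vector. -/
def l5V : ℕ := 1

/-- Words carrying it to the other vectors. -/
def l5Path : List (List ℕ) := [[], [4, 3, 0, 5], [4, 3, 1, 0, 5], [1, 0, 5], [0, 5], [5, 4, 5], [1, 0, 4, 5], [1, 3, 0, 5], [3, 2, 0, 5], [1, 4, 5], [4, 5], [0, 3, 1, 0, 5], [0, 3, 0, 5], [4, 2, 0, 5], [0, 5, 4, 5], [5], [0, 1, 0, 5], [0, 2, 4, 5], [1, 4, 3, 0, 5], [2, 0, 5], [2, 1, 0, 5], [0, 1, 4, 5], [0, 4, 5], [3, 0, 5], [3, 1, 0, 5], [5, 0, 4, 5], [2, 4, 5], [1, 0, 3, 0, 5], [4, 5, 4, 5], [0, 4, 3, 0, 5], [3, 0, 2, 4, 5]]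

/-- Words carrying the central involution to representatives of its classes. -/
def l5ZW : List (List ℕ) := [[], [], [1, 3, 0, 5], [0, 2, 4], [4, 0, 5], [], [], []]

/-- Words carrying two representatives to small ones. -/
def l5NW : List (List ℕ) := [[], [], [], [], [], [1, 0, 1, 3, 4], [], [5, 2, 0, 4]]

/-- Words carrying the sixth row to the two other external rows. -/
def l5PW : List (List ℕ) := [[4, 0, 2, 0, 1], [1, 3, 0, 5, 0, 3, 1]]

end CfsgLib.HeldRecog
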