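/-
Data for the automorphism with a normalised subgroup of order sixteen.
-/
import Mathlib.Data.Nat.Notation
import Mathlib.Data.List.Basic

set_option autoImplicit false
set_option maxRecDepth 100000

namespace CfsgLib.HeldRecog

/-- The exchanging matrix of the model. -/
def pS0 : ℕ := 11835137

/-- The exchanging matrix of the transposed model. -/
def pT0 : ℕ := 1872368

/-- The codes of the subgroup of order sixteen. -/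
def pEC : List ℕ := [17043521, 17043553, 17044545, 17044577, 17076289, 17076321, 17077313, 17077345, 18092097, 18092129, 18093121, 18093153, 18124865, 18124897, 18125889, 18125921]

/-- Words of its elements in the six letters. -/
def pE6 : List (List ℕ) := [[], [4], [3, 2, 3, 0, 2, 1, 0, 2], [3, 2, 3, 2, 0, 1, 2, 0], [3, 1, 0, 2, 3, 0, 3, 2, 0], [2, 1, 0, 3, 2, 3, 2, 0], [3, 2, 0, 2, 1, 0, 3, 2], [3, 0, 1, 2, 0, 2, 3, 2], [5], [5, 4], [3, 2, 3, 2, 0, 2, 1, 0], [3, 2, 3, 0, 1, 2, 0, 2], [1, 2, 0, 3, 2, 3, 2, 0], [3, 1, 0, 2, 0, 3, 0, 2, 0], [3, 0, 2, 1, 0, 2, 3, 2], [3, 2, 0, 1, 2, 0, 3, 2]]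

/-- The permutations of the five letters on its elements. -/
def pPerm : List (List ℕ) := [[0, 1, 9, 8, 5, 4, 12, 13, 3, 2, 10, 11, 6, 7, 15, 14], [0, 1, 2, 3, 4, 5, 6, 7, 13, 12, 15, 14, 9, 8, 11, 10], [0, 1, 2, 3, 4, 5, 6, 7, 14, 15, 12, 13, 10, 11, 8, 9], [0, 1, 5, 4, 3, 2, 6, 7, 14, 15, 11, 10, 13, 12, 8, 9], [0, 8, 2, 10, 13, 5, 15, 7, 1, 9, 3, 11, 12, 4, 14, 6]]

/-- Origins of the relators. -/
def p15Prov : List (ℕ × List ℕ × List ℕ × ℕ) := [(0, [], [], 0),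
  (0, [], [], 0),
  (0, [], [], 0),
  (0, [], [], 0),
  (0, [], [], 0),
  (1, [], [], 0),
  (1, [], [], 0),
  (1, [], [], 0),
  (1, [], [], 0),
  (1, [], [], 0),
  (1, [], [], 0),
  (1, [], [], 0),
  (1, [], [], 0),
  (1, [], [], 0),
  (1, [], [], 0),
  (1, [], [], 0),
  (1, [], [], 0),
  (1, [], [], 0),
  (2, [0, 3, 0, 1, 0, 1, 0, 2, 0, 1, 3, 0], [0, 1, 0, 1, 0, 2, 3, 1, 0, 1, 2, 3], 0),
  (2, [0, 3, 0, 1, 0, 2, 0, 1, 3, 0, 2, 0, 3], [0, 2, 0, 1, 0, 1, 2, 0, 1], 0),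
  (2, [1, 0, 2, 3, 0, 2, 0, 1, 2], [1, 0, 3, 0, 2, 0, 1, 2], 0),
  (2, [1, 3, 0, 1, 2, 0, 3, 0, 1, 0, 2, 0, 1, 3], [1, 2, 0, 1, 0, 1, 3, 1, 3], 0),
  (2, [0, 1, 0, 1, 0, 1, 0, 1], [0, 1, 3, 0, 1, 0, 1, 2, 0, 1, 0, 1, 3, 0], 0),
  (3, [2, 0, 3, 4], [], 3),
  (3, [3, 0, 2, 4], [], 3),
  (3, [3, 4, 2, 0], [], 3),
  (3, [0, 2, 4, 3], [], 3),
  (3, [4, 2, 0, 3], [], 3),
  (3, [4, 3, 0, 2], [], 3),
  (3, [3, 4, 0, 4], [], 3)]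

/-- Origins of the relators of the second enumeration. -/
def l31Prov : List ℕ := [0, 0, 0, 0, 0, 0, 1, 1, 1, 1, 1, 1, 1, 1, 1, 1, 1, 1, 1, 4, 2, 2, 2, 2, 2, 2, 2, 2, 2, 2, 2, 2, 2, 2, 2, 2, 2, 2, 2, 2, 2, 2, 2, 2, 2, 2, 2, 2, 2, 2, 2, 2, 2, 2, 2, 2, 2, 2, 2, 2, 3, 3, 3, 3, 3, 3, 3, 3, 3, 3, 3, 3, 3, 3, 3, 3, 3, 3, 3, 3, 3, 3, 3, 3, 3, 3, 3, 3, 3, 3, 3, 3, 3, 3, 3, 3, 3, 3, 3, 3]

/-- The index of the central involution. -/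
def pZ : ℕ := 1

/-- Words carrying it to the other indices. -/
def pPath : List (List ℕ) := [[], [], [3, 0, 3, 0, 4], [0, 4], [3, 0, 4], [0, 3, 0, 4], [0, 3, 1, 4], [0, 1, 4], [4], [1, 3, 1, 4], [4, 0, 4], [2, 1, 4], [3, 1, 4], [1, 4], [2, 4], [0, 2, 4]]

end CfsgLib.HeldRecog
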