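/-
The stabiliser of a vector in SL(5, 2) as an example of the last automorphism, and its transpose.
-/
import Cfsg.Agent.Lib.HeldRecog.Local
import Cfsg.Agent.Lib.HeldRecog.PData

set_option autoImplicit false
set_option maxRecDepth 100000

namespace CfsgLib.HeldRecog

open CfsgLib.CosetEnum CfsgLib.HeCent

local notation "SL5" => Matrix.SpecialLinearGroup (Fin 5) (ZMod 2)

theorem pS0_sq : mulF pS0 pS0 = oneCode ∧ mulF pT0 pT0 = oneCode := by decide +kernel

theorem mat_sq {c : ℕ} (h : mulF c c = oneCode) : mat c * mat c = 1 := by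
  rw [mat_mulF, h]; exact mat_one

/-- The exchanging element of the model. -/
noncomputable def pSs : SL5 := ⟨mat pS0, det_one_of_mul (mat_sq pS0_sq.1)⟩

/-- The exchanging element of the transposed model. -/
noncomputable def pTs : SL5 := ⟨mat pT0, det_one_of_mul (mat_sq pS0_sq.2)⟩

theorem pSs_sq : pSs * pSs = 1 := Subtype.ext (mat_sq pS0_sq.1)

theorem pTs_sq : pTs * pTs = 1 := Subtype.ext (mat_sq pS0_sq.2)

/-- The centraliser inside SL(5, 2). -/
noncomputable def pEmb : Emb SL5 where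
  z := sTr
  φ := HS.subtype
  inj := HS.subtype_injective
  mem_range g := ⟨fun h => ⟨⟨g, Subgroup.mem_centralizer_singleton_iff.mpr h⟩, rfl⟩,
    fun ⟨x, hx⟩ => hx ▸ Subgroup.mem_centralizer_singleton_iff.mp x.2⟩
  map_Zh := Zh_val

/-- A word in the six letters as a word in the four generators. -/
def sub6 (w : List ℕ) : List ℕ :=
  w.flatMap fun i => if i < 4 then gsW.getD i [] else if i = 4 then zW else xW

theorem wEl_sub6 : ∀ w : List ℕ, letters6 w = true → wEl (sub6 w) = (w.map srcEl).prod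
  | [], _ => by simp [sub6, wEl]
  | i :: w, h => by
    simp only [letters6, List.all_cons, Bool.and_eq_true] at h
    have hi := h.1
    simp only [Bool.or_eq_true, blt_iff, Nat.beq_eq] at hi
    rw [show sub6 (i :: w) = (if i < 4 then gsW.getD i [] else if i = 4 then zW else xW) ++ sub6 w by simp [sub6],
      wEl_append, wEl_sub6 w h.2, List.map_cons, List.prod_cons]
    congr 1
    unfold srcEl
    split_ifs with h4 h5 h6
    · rfl
    · rfl
    · rfl
    · omega

/-- The checks of the two models. -/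
noncomputable def pModelOK : Bool :=
  Nat.beq (mulF pS0 (mulF sCode pS0)) xC && Nat.beq (mulF pS0 (mulF xC pS0)) sCode &&
  Nat.beq (mulF pT0 (mulF sCode pT0)) (wCode (tauW xW)) && Nat.beq (mulF pT0 (mulF (wCode (tauW xW)) pT0)) sCode &&
    (xW.all fun i => Nat.blt i 4) &&
    (List.range 4).all fun i => force ((sigImg.getD 3 []).getD i oneCode) fun c =>
      letters6 ((imgWords.getD 3 []).getD i []) &&
      Nat.beq (wCode (sub6 ((imgWords.getD 3 []).getD i []))) c &&
      ((gsW.getD i []).all fun a => Nat.blt a 4) && ((sub6 ((imgWords.getD 3 []).getD i [])).all fun a => Nat.blt a 4) &&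
      Nat.beq (mulF pS0 (mulF (wCode (gsW.getD i [])) pS0)) c &&
      Nat.beq (mulF pT0 (mulF (wCode (tauW (gsW.getD i []))) pT0)) (wCode (tauW (sub6 ((imgWords.getD 3 []).getD i []))))

theorem pModel_ok : pModelOK = true := by decide +kernel

theorem conj_of_codes {s : SL5} {sc : ℕ} (hs : (s : Matrix (Fin 5) (Fin 5) (ZMod 2)) = mat sc) (hsq : s * s = 1)
    {x y : HS} {a b : ℕ} (hx : HasCode x a) (hy : HasCode y b) (h : mulF sc (mulF a sc) = b) :
    s * (x : SL5) * s⁻¹ = (y : SL5) := by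
  rw [inv_eq_of_mul_eq_one_right hsq]
  refine Subtype.ext ?_
  show (s : Matrix (Fin 5) (Fin 5) (ZMod 2)) * mx x * (s : Matrix (Fin 5) (Fin 5) (ZMod 2)) = mx y
  rw [hs, hx.1, hy.1, Matrix.mul_assoc, mat_mulF, mat_mulF, h]

/-- The model of the stabiliser of a vector. -/
noncomputable def pCtx : Ctx SL5 3 where
  toEmb := pEmb
  s := pSs
  s_z := by
    have h := pModel_ok
    simp only [pModelOK, Bool.and_eq_true, Nat.beq_eq] at h
    have := conj_of_codes (s := pSs) rfl pSs_sq Zh_code hasCode_Xh h.1.1.1.1.1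
    rwa [Zh_val] at this
  s_x := by
    have h := pModel_ok
    simp only [pModelOK, Bool.and_eq_true, Nat.beq_eq] at h
    have := conj_of_codes (s := pSs) rfl pSs_sq hasCode_Xh Zh_code h.1.1.1.1.2
    rwa [Zh_val] at this
  sq := pSs_sq
  pref := by
    intro i hi
    rw [show (sigImg.getD 3 []).length = 4 from rfl] at hi
    have h := pModel_ok
    simp only [pModelOK, force_eq, Bool.and_eq_true, Nat.beq_eq, List.all_eq_true, List.mem_range, blt_iff] at h
    obtain ⟨⟨⟨⟨⟨h6, hc⟩, -⟩, -⟩, hs⟩, -⟩ := h.2 i hi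
    have hy : HasCode (wEl (sub6 ((imgWords.getD 3 []).getD i []))) ((sigImg.getD 3 []).getD i oneCode) :=
      hc ▸ hasCode_wEl _
    refine ⟨_, ?_, hy⟩
    show pSs * (srcEl i : SL5) * pSs⁻¹ = (wEl _ : SL5)
    refine conj_of_codes rfl pSs_sq ?_ hy hs
    rw [srcEl, if_pos hi]
    exact hasCode_wEl _

/-- The transposed model. -/
noncomputable def pCtxT : Ctx SL5 3 where
  toEmb := pEmb.twist
  s := pTs
  s_z := by
    have h := pModel_ok
    simp only [pModelOK, Bool.and_eq_true, Nat.beq_eq, List.all_eq_true, blt_iff] at h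
    show pTs * sTr * pTs⁻¹ = (tau Xh : SL5)
    rw [← Zh_val, show Xh = wEl xW from rfl, tau_wEl xW h.1.2]
    exact conj_of_codes rfl pTs_sq Zh_code (hasCode_wEl _) h.1.1.1.2
  s_x := by
    have h := pModel_ok
    simp only [pModelOK, Bool.and_eq_true, Nat.beq_eq, List.all_eq_true, blt_iff] at h
    show pTs * (tau Xh : SL5) * pTs⁻¹ = sTr
    rw [← Zh_val, show Xh = wEl xW from rfl, tau_wEl xW h.1.2]
    exact conj_of_codes rfl pTs_sq (hasCode_wEl _) Zh_code h.1.1.2
  sq := pTs_sq
  pref := by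
    intro i hi
    rw [show (sigImg.getD 3 []).length = 4 from rfl] at hi
    have h := pModel_ok
    simp only [pModelOK, force_eq, Bool.and_eq_true, Nat.beq_eq, List.all_eq_true, List.mem_range, blt_iff] at h
    obtain ⟨⟨⟨⟨⟨h6, hc⟩, hg⟩, hl⟩, -⟩, ht⟩ := h.2 i hi
    refine ⟨wEl (sub6 ((imgWords.getD 3 []).getD i [])), ?_, hc ▸ hasCode_wEl _⟩
    show pTs * (tau (srcEl i) : SL5) * pTs⁻¹ = (tau (wEl _) : SL5)
    rw [srcEl, if_pos hi, tau_wEl _ hg, tau_wEl _ hl]
    exact conj_of_codes rfl pTs_sq (hasCode_wEl _) (hasCode_wEl _) ht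

/-- The code of a letter of the model. -/
def pLet (i : ℕ) : ℕ := if i < 4 then gcode i else if i = 4 then pS0 else oneCode

/-- The code of a letter of the transposed model. -/
noncomputable def pLetT (i : ℕ) : ℕ :=
  if i < 4 then wCode (tauWord.getD i []) else if i = 4 then pT0 else oneCode

theorem ev_mat (C : Ctx SL5 3) {env : ℕ → ℕ}
    (h : ∀ i, (C.τ i : Matrix (Fin 5) (Fin 5) (ZMod 2)) = mat (env i)) :
    ∀ w : List ℕ, (C.ev w : Matrix (Fin 5) (Fin 5) (ZMod 2)) = mat (evC env w)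
  | [] => by
    simp [Ctx.ev, evC, show mat oneCode = 1 from mat_one]
  | i :: w => by
    rw [show C.ev (i :: w) = C.τ i * C.ev w by simp [Ctx.ev], Matrix.SpecialLinearGroup.coe_mul, h i,
      ev_mat C h w, mat_mulF]
    show mat (mulF (env i) (evC env w)) = mat (force (evC env w) fun r => mulF (env i) r)
    rw [force_eq]

theorem pCtx_τ (i : ℕ) : (pCtx.τ i : Matrix (Fin 5) (Fin 5) (ZMod 2)) = mat (pLet i) := by
  unfold Ctx.τ pLet
  split_ifs
  · exact (hasCode_gen i).1
  · rfl
  · exact mat_one.symm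

theorem pCtxT_τ (i : ℕ) : (pCtxT.τ i : Matrix (Fin 5) (Fin 5) (ZMod 2)) = mat (pLetT i) := by
  unfold Ctx.τ pLetT
  split_ifs with h
  · show mx (tau (gen i)) = _
    rw [tau_gen i h]
    exact (hasCode_wEl _).1
  · rfl
  · exact mat_one.symm

theorem pEv_one {w : List ℕ} (h : evC pLet w = oneCode) : pCtx.ev w = 1 :=
  Subtype.ext ((ev_mat pCtx pCtx_τ w).trans (h ▸ mat_one))

theorem pEvT_one {w : List ℕ} (h : evC pLetT w = oneCode) : pCtxT.ev w = 1 :=
  Subtype.ext ((ev_mat pCtxT pCtxT_τ w).trans (h ▸ mat_one))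

end CfsgLib.HeldRecog
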