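/-
The last automorphism: the five letters satisfy every relation of the stabiliser of a vector.
-/
import Cfsg.Agent.Lib.HeldRecog.PModel
import Cfsg.Agent.Lib.HeldRecog.HeHom
import Cfsg.Agent.Lib.HeldRecog.Count
import Cfsg.Agent.Lib.HeldRecog.P15.Main

set_option autoImplicit false
set_option maxRecDepth 100000

namespace CfsgLib.HeldRecog

open CfsgLib.CosetEnum CfsgLib.HeCent

/-- An element of the subgroup of order sixteen. -/
noncomputable def pel (e : ℕ) : HS := ((pE6.getD e []).map srcEl).prod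

/-- The image of an index under a letter. -/
noncomputable def pImg (i e : ℕ) : ℕ := (pPerm.getD i []).getD e 0

/-- The action of a word on the indices. -/
noncomputable def pPermW (w : List ℕ) (e : ℕ) : ℕ :=
  List.rec e (fun i _ ih => force ih fun r => pImg i r) w

theorem pPermW_cons (i : ℕ) (w : List ℕ) (e : ℕ) : pPermW (i :: w) e = pImg i (pPermW w e) := by
  show force (pPermW w e) (fun r => pImg i r) = _
  rw [force_eq]

/-- The checks of the subgroup of order sixteen. -/
noncomputable def pElOK : Bool :=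
  Nat.beq pEC.length 16 && Nat.beq (pEC.getD 0 0) oneCode && Nat.beq (pEC.getD pZ 0) sCode && Nat.blt pZ 16 &&
    pEC.contains xC &&
    ((List.range 16).all fun e => letters6 (pE6.getD e []) && Nat.beq (evC srcC (pE6.getD e [])) (pEC.getD e 0) &&
      (List.range 5).all (fun i => Nat.blt (pImg i e) 16) &&
      ((List.range 4).all fun i =>
        Nat.beq (mulF (gcode i) (pEC.getD e 0)) (mulF (pEC.getD (pImg i e) 0) (gcode i))) &&
      Nat.beq (evC (tgtC (sigImg.getD 3 [])) (pE6.getD e [])) (pEC.getD (pImg 4 e) 0)) &&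
    (List.range 16).all fun a => (List.range a).all fun b => !Nat.beq (pEC.getD a 0) (pEC.getD b 0)

theorem pEl_ok : pElOK = true := by decide +kernel

/-- Elements centralising the subgroup of order sixteen lie in it. -/
noncomputable def pSelfOK : Bool :=
  d1L.all fun n => force (codeN n) fun c => !(pEC.all fun d => Nat.beq (mulF c d) (mulF d c)) || pEC.contains c

theorem pSelf_ok : pSelfOK = true := by decide +kernel

theorem hasCode_pel {e : ℕ} (he : e < 16) : HasCode (pel e) (pEC.getD e 0) := by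
  have h := pEl_ok
  simp only [pElOK, Bool.and_eq_true, List.all_eq_true, List.mem_range, Nat.beq_eq] at h
  rw [← (h.1.2 e he).1.1.1.2]
  exact hasCode_evC _ fun j _ => hasCode_srcEl j

theorem pel_inj {a b : ℕ} (ha : a < 16) (hb : b < 16) (h : pel a = pel b) : a = b := by
  have hh := pEl_ok
  simp only [pElOK, Bool.and_eq_true, List.all_eq_true, List.mem_range, Bool.not_eq_true', ← Bool.not_eq_true,
    Nat.beq_eq] at hh
  have e := (hasCode_pel ha).eq (h ▸ hasCode_pel hb)
  rcases Nat.lt_trichotomy a b with hab | hab | hab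
  · exact absurd e.symm (hh.2 b hb a hab)
  · exact hab
  · exact absurd e (hh.2 a ha b hab)

theorem pel_zero : pel 0 = 1 := by
  have h := pEl_ok
  simp only [pElOK, Bool.and_eq_true, Nat.beq_eq] at h
  exact ((hasCode_pel (by norm_num)).eq_iff HasCode.one).mpr h.1.1.1.1.1.2

theorem pZ_lt : pZ < 16 ∧ pel pZ = Zh := by
  have h := pEl_ok
  simp only [pElOK, Bool.and_eq_true, Nat.beq_eq, blt_iff] at h
  exact ⟨h.1.1.1.2, ((hasCode_pel h.1.1.1.2).eq_iff Zh_code).mpr h.1.1.1.1.2⟩

theorem exists_pel {c : ℕ} (h : pEC.contains c = true) {x : HS} (hx : HasCode x c) : ∃ e < 16, pel e = x := by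
  rw [List.contains_iff_mem] at h
  obtain ⟨e, he, rfl⟩ := List.getElem_of_mem h
  have hh := pEl_ok
  simp only [pElOK, Bool.and_eq_true, Nat.beq_eq] at hh
  have he' : e < 16 := hh.1.1.1.1.1.1 ▸ he
  exact ⟨e, he', (List.getD_eq_getElem _ 0 he ▸ hasCode_pel he').unique hx⟩

variable {G : Type} [Group G] (D : Ctx G 3)

theorem pel_step {i : ℕ} (hi : i < 5) {e : ℕ} (he : e < 16) :
    pImg i e < 16 ∧ D.τ i * D.φ (pel e) * (D.τ i)⁻¹ = D.φ (pel (pImg i e)) := by
  have h := pEl_ok
  simp only [pElOK, Bool.and_eq_true, List.all_eq_true, List.mem_range, Nat.beq_eq, blt_iff] at h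
  obtain ⟨⟨⟨⟨h6, -⟩, hlt⟩, hC⟩, hs⟩ := h.1.2 e he
  refine ⟨hlt i hi, ?_⟩
  have hb := hasCode_pel (hlt i hi)
  by_cases h4 : i < 4
  · rw [Ctx.τ, if_pos h4, ← map_inv, ← map_mul, ← map_mul]
    refine congrArg _ ?_
    rw [mul_inv_eq_iff_eq_mul]
    refine (((hasCode_gen i).mul (hasCode_pel he)).eq_iff (hb.mul (hasCode_gen i))).mpr ?_
    exact hC i h4
  · obtain rfl : i = 4 := by omega
    obtain ⟨y, hy, hyc⟩ := Swap.maps_word6 D.pref rfl h6
    rw [hyc.unique (hs.symm ▸ hb)] at hy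
    rw [Ctx.τ, if_neg h4, if_pos rfl]
    exact hy

theorem pel_word : ∀ w : List ℕ, (∀ i ∈ w, i < 5) → ∀ e < 16,
    pPermW w e < 16 ∧ D.ev w * D.φ (pel e) * (D.ev w)⁻¹ = D.φ (pel (pPermW w e))
  | [], _, e, he => ⟨he, by simp [Ctx.ev]; rfl⟩
  | i :: w, h, e, he => by
    obtain ⟨hlt, ih⟩ := pel_word w (fun j hj => h j (List.mem_cons_of_mem _ hj)) e he
    rw [pPermW_cons]
    obtain ⟨hlt', hst⟩ := pel_step D (h i List.mem_cons_self) hlt
    refine ⟨hlt', ?_⟩
    rw [show D.ev (i :: w) = D.τ i * D.ev w by simp [Ctx.ev], mul_inv_rev,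
      show D.τ i * D.ev w * D.φ (pel e) * ((D.ev w)⁻¹ * (D.τ i)⁻¹) =
        D.τ i * (D.ev w * D.φ (pel e) * (D.ev w)⁻¹) * (D.τ i)⁻¹ by group, ih, hst]

/-- An element centralising the subgroup of order sixteen lies in its image. -/
theorem pel_self {g : G} (h : ∀ e < 16, g * D.φ (pel e) = D.φ (pel e) * g) : ∃ e < 16, g = D.φ (pel e) := by
  obtain ⟨hz, hzel⟩ := pZ_lt
  obtain ⟨x, rfl⟩ := (D.mem_range g).mp (by have := h pZ hz; rwa [hzel, D.map_Zh] at this)
  have hcomm : ∀ e < 16, x * pel e = pel e * x := fun e he => D.inj (by rw [map_mul, map_mul]; exact h e he)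
  obtain ⟨ex, hex, hx⟩ := exists_pel (c := xC) (by
    have := pEl_ok; simp only [pElOK, Bool.and_eq_true] at this; exact this.1.1.2) hasCode_Xh
  obtain ⟨c, hxc, hsc⟩ := enum_D1.all
    (f := fun c => !(pEC.all fun d => Nat.beq (mulF c d) (mulF d c)) || pEC.contains c)
    (by have := pSelf_ok; simp only [pSelfOK, force_eq] at this; exact this) (hx ▸ hcomm ex hex)
  rw [Bool.or_eq_true, Bool.not_eq_true'] at hsc
  rcases hsc with hsc | hsc
  · exfalso
    rw [List.all_eq_false] at hsc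
    obtain ⟨d, hd, hne⟩ := hsc
    obtain ⟨e, he, rfl⟩ := List.getElem_of_mem hd
    have hh := pEl_ok
    simp only [pElOK, Bool.and_eq_true, Nat.beq_eq] at hh
    have he' : e < 16 := hh.1.1.1.1.1.1 ▸ he
    have hec := hasCode_pel he'
    rw [List.getD_eq_getElem _ 0 he] at hec
    exact hne (Nat.beq_eq.mpr ((hxc.mul hec).eq (hcomm e he' ▸ hec.mul hxc)))
  · obtain ⟨e, he, hex'⟩ := exists_pel hsc hxc
    exact ⟨e, he, by rw [hex']⟩

/-- The check of a relator given by a power of a word without other fixed indices. -/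
noncomputable def detOK (w : List ℕ) (n : ℕ) : Bool :=
  (w.all fun i => Nat.blt i 5) && (List.range 16).all fun e =>
    Nat.beq (pPermW (powW n w) e) e && (Nat.beq e 0 || !Nat.beq (pPermW w e) e)

theorem det_one {w : List ℕ} {n : ℕ} (h : detOK w n = true) : D.ev (powW n w) = 1 := by
  simp only [detOK, Bool.and_eq_true, List.all_eq_true, List.mem_range, blt_iff, Nat.beq_eq, Bool.or_eq_true,
    Bool.not_eq_true', ← Bool.not_eq_true] at h
  obtain ⟨hw, hall⟩ := h
  have hp : ∀ e < 16, D.ev (powW n w) * D.φ (pel e) = D.φ (pel e) * D.ev (powW n w) := fun e he => by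
    have := (pel_word D (powW n w) (letters_powW hw n) e he).2
    rwa [(hall e he).1, mul_inv_eq_iff_eq_mul] at this
  obtain ⟨e, he, hpow⟩ := pel_self D hp
  have key : ∀ r, D.ev (powW r w) = D.ev w ^ r := by
    intro r
    induction r with
    | zero => simp [powW, Ctx.ev]
    | succ r ih =>
      rw [powW, show D.ev (w ++ powW r w) = D.ev w * D.ev (powW r w) by simp [Ctx.ev, List.prod_append], ih,
        pow_succ']
  rw [key] at hpow ⊢
  obtain ⟨hlt, hact⟩ := pel_word D w hw e he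
  rw [← hpow, show D.ev w * D.ev w ^ n * (D.ev w)⁻¹ = D.ev w ^ n by group] at hact
  rw [hpow] at hact ⊢
  have hfix := pel_inj he hlt (D.inj hact)
  rcases (hall e he).2 with h0 | h0
  · rw [h0, pel_zero, map_one]
  · exact absurd hfix.symm h0

/-- The check of a relator. -/
noncomputable def p15RelOK (i : ℕ) : Bool :=
  let r := P15.rels.getD i []
  match p15Prov.getD i (0, [], [], 0) with
  | (0, _, _, _) => r == [i, i]
  | (1, _, _, _) => r.all (fun a => Nat.blt a 4) && oneW r
  | (2, a, b, _) => a.all (fun x => Nat.blt x 4) && b.all (fun x => Nat.blt x 4) &&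
      crEq (4 :: (a ++ 4 :: b.reverse)) r &&
      (((List.range 4).any fun g => Nat.beq (wCode a) (gsC.getD g oneCode) &&
          Nat.beq (wCode b) ((sigImg.getD 3 []).getD g oneCode)) ||
        (Nat.beq (wCode a) sCode && Nat.beq (wCode b) xC))
  | (_, w, _, n) => detOK w n && crEq (powW n w) r

theorem p15Rels_ok : ((List.range P15.rels.length).all p15RelOK) = true := by decide +kernel

theorem p15_rel : ∀ r ∈ P15.rels, D.ev r = 1 := by
  intro r hr
  obtain ⟨i, hi, rfl⟩ := List.getElem_of_mem hr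
  have h := List.all_eq_true.mp p15Rels_ok i (List.mem_range.mpr hi)
  rw [p15RelOK, List.getD_eq_getElem _ _ hi] at h
  generalize p15Prov.getD i (0, [], [], 0) = p at h
  generalize P15.rels[i] = r at h
  obtain ⟨kind, a, b, n⟩ := p
  rcases kind with _ | _ | _ | kind
  · simp only [beq_iff_eq] at h
    subst h
    simp [Ctx.ev, Ctx.τ_sq]
  · simp only [Bool.and_eq_true, List.all_eq_true, blt_iff] at h
    rw [D.ev_of_lt h.1, wEl_one h.2, map_one]
  · simp only [Bool.and_eq_true, Bool.or_eq_true, List.all_eq_true, List.any_eq_true, List.mem_range, blt_iff,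
      Nat.beq_eq] at h
    obtain ⟨⟨⟨ha, hb'⟩, hcr⟩, hcase⟩ := h
    refine evM_crEq_top D hcr ?_
    have hmaps : D.toSwap.Maps (wEl a) (wEl b) := by
      rcases hcase with ⟨g, hg, e1, e2⟩ | ⟨e1, e2⟩
      · obtain ⟨y, hy, hyc⟩ := D.pref g (show g < (sigImg.getD 3 []).length from hg)
        have hs := hasCode_srcEl g
        rw [srcC, envC, if_pos hg] at hs
        rw [(show HasCode (wEl a) (gsC.getD g oneCode) from e1 ▸ hasCode_wEl a).unique hs,
          (show HasCode (wEl b) _ from e2 ▸ hasCode_wEl b).unique hyc]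
        exact hy
      · rw [(show HasCode (wEl a) sCode from e1 ▸ hasCode_wEl a).unique Zh_code,
          (show HasCode (wEl b) xC from e2 ▸ hasCode_wEl b).unique hasCode_Xh]
        exact D.maps_Zh
    rw [show D.ev (4 :: (a ++ 4 :: b.reverse)) = D.τ 4 * (D.ev a * (D.τ 4 * D.ev b.reverse)) by
      simp [Ctx.ev, List.prod_append], D.ev_of_lt ha,
      D.ev_of_lt (fun x hx => hb' x (List.mem_reverse.mp hx)), wEl_reverse, map_inv, Ctx.τ,
      if_neg (by norm_num), if_pos rfl, ← hmaps, inv_eq_of_mul_eq_one_right D.sq]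
    group
  · simp only [Bool.and_eq_true] at h
    exact evM_crEq_top D h.2 (det_one D h.1)

/-- The letters in the product with the model. -/
noncomputable def pPair (i : ℕ) : Matrix.SpecialLinearGroup (Fin 5) (ZMod 2) × G := (pCtx.τ i, D.τ i)

theorem p15_card : Finite (Subgroup.closure (pPair D '' Set.Iio 5)) ∧
    Nat.card (Subgroup.closure (pPair D '' Set.Iio 5)) ≤ 15 * 21504 := by
  have hsq : ∀ i, pPair D i * pPair D i = 1 := fun i => Prod.ext (pCtx.τ_sq i) (D.τ_sq i)
  have h5 : pPair D 5 = 1 := Prod.ext (by simp [pPair, Ctx.τ]) (by simp [pPair, Ctx.τ])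
  let Δ : HS →* Matrix.SpecialLinearGroup (Fin 5) (ZMod 2) × G := pCtx.φ.prod D.φ
  have hΔ : Function.Injective Δ := fun a b h => D.inj (congrArg Prod.snd h)
  have hsub : wordsSub (pPair D) P15.sheet.hw ≤ Δ.range := by
    refine (Subgroup.closure_le _).mpr ?_
    rintro g ⟨u, hu, rfl⟩
    have hu' : u ∈ ([[0], [1], [2], [3]] : List (List ℕ)) := hu
    obtain ⟨i, hi, rfl⟩ : ∃ i < 4, u = [i] := by fin_cases hu' <;> simp
    exact ⟨gen i, by simp [Δ, pPair, Ctx.τ, hi]⟩
  have hfin : Finite Δ.range := Finite.of_equiv _ (MonoidHom.ofInjective hΔ).toEquiv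
  have hw : Finite (wordsSub (pPair D) P15.sheet.hw) ∧ Nat.card (wordsSub (pPair D) P15.sheet.hw) ≤ 21504 := by
    refine ⟨Finite.of_injective _ (Subgroup.inclusion_injective hsub),
      (Nat.card_le_card_of_injective _ (Subgroup.inclusion_injective hsub)).trans ?_⟩
    rw [← Nat.card_congr (MonoidHom.ofInjective hΔ).toEquiv, card_HS]
  exact P15.sheet.card_le (pPair D) hsq h5
    (fun r hr => by
      rw [show (pPair D) = fun i => (pCtx.τ i, D.τ i) from rfl, prod_pair]
      exact Prod.ext (p15_rel pCtx r hr) (p15_rel D r hr))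
    ((Subgroup.closure_le _).mpr (by
      rintro g ⟨u, hu, rfl⟩
      have hu' : u ∈ ([[0], [1], [2], [3]] : List (List ℕ)) := hu
      refine Subgroup.list_prod_mem _ fun x hx => ?_
      obtain ⟨i, hi, rfl⟩ := List.mem_map.mp hx
      refine Subgroup.subset_closure ⟨i, ?_, rfl⟩
      show i < 5
      fin_cases hu' <;> simp at hi <;> omega)) hw

theorem pPath_ok : ((List.range 16).all fun e => Nat.beq e 0 ||
    ((pPath.getD e []).all (fun i => Nat.blt i 5) && Nat.beq (pPermW (pPath.getD e []) pZ) e)) = true := by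
  decide +kernel

/-- The model is generated with at least the expected order. -/
theorem card_pModel : 15 * 21504 ≤ Nat.card (Subgroup.closure (pCtx.τ '' Set.Iio 5)) := by
  set A := Subgroup.closure (pCtx.τ '' Set.Iio 5)
  have hHS : pCtx.φ.range ≤ A := by
    rintro _ ⟨x, rfl⟩
    obtain ⟨w, rfl⟩ := exists_word x
    induction w with
    | nil => simp [wEl]
    | cons i w ih =>
      rw [show wEl (i :: w) = gen i * wEl w by simp [wEl], map_mul]
      refine mul_mem ?_ ih
      by_cases h4 : i < 4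
      · have := Subgroup.subset_closure (k := pCtx.τ '' Set.Iio 5) ⟨i, (show i < 5 by omega), rfl⟩
        rwa [Ctx.τ, if_pos h4] at this
      · simp [gen, h4]
  have hcard := card_fibre (A := A) hHS (fun g => g * pCtx.z * g⁻¹) (fun a _ b _ => by
    rw [MonoidHom.mem_range]
    refine Iff.trans ⟨fun e => ?_, fun e => ?_⟩ (pCtx.mem_range (a⁻¹ * b))
    · refine mul_inv_eq_iff_eq_mul.mp ?_
      calc a⁻¹ * b * pCtx.z * (a⁻¹ * b)⁻¹ = a⁻¹ * (b * pCtx.z * b⁻¹) * a := by group
        _ = pCtx.z := by rw [← e]; group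
    · calc a * pCtx.z * a⁻¹ = a * (a⁻¹ * b * pCtx.z * (a⁻¹ * b)⁻¹) * a⁻¹ := by rw [mul_inv_eq_iff_eq_mul.mpr e]
        _ = _ := by group)
  rw [← hcard, show Nat.card pCtx.φ.range = 21504 by
    rw [← Nat.card_congr (MonoidHom.ofInjective pCtx.inj).toEquiv, card_HS]]
  refine Nat.mul_le_mul_right _ ?_
  have hp := pPath_ok
  simp only [List.all_eq_true, List.mem_range, Bool.or_eq_true, Bool.and_eq_true, blt_iff, Nat.beq_eq] at hp
  have hmem : ∀ j : Fin 15, ∃ a ∈ A, a * pCtx.z * a⁻¹ = pCtx.φ (pel (j.1 + 1)) := by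
    intro j
    obtain ⟨hl, he⟩ := (hp (j.1 + 1) (by omega)).resolve_left (by omega)
    refine ⟨pCtx.ev (pPath.getD (j.1 + 1) []), Subgroup.list_prod_mem _ fun x hx => ?_, ?_⟩
    · obtain ⟨i, hi, rfl⟩ := List.mem_map.mp hx
      exact Subgroup.subset_closure ⟨i, hl i hi, rfl⟩
    · rw [← pCtx.map_Zh, ← pZ_lt.2, (pel_word pCtx _ hl pZ pZ_lt.1).2, he]
  have := Nat.card_le_card_of_injective (α := Fin 15)
    (β := {y // ∃ a ∈ A, a * pCtx.z * a⁻¹ = y}) (fun j => ⟨pCtx.φ (pel (j.1 + 1)), hmem j⟩) (fun i j h => by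
      have he : pCtx.φ (pel (i.1 + 1)) = pCtx.φ (pel (j.1 + 1)) := Subtype.mk.inj h
      have := pel_inj (by omega) (by omega) (pCtx.inj he)
      exact Fin.ext (by omega))
  rwa [Nat.card_eq_fintype_card (α := Fin 15), Fintype.card_fin] at this

/-- The model's homomorphism: every relation of the model holds. -/
theorem exists_pHom : ∃ θ : Subgroup.closure (pCtx.τ '' Set.Iio 5) →* G, Function.Injective θ ∧
    ∀ (i : ℕ) (hi : i < 5), θ ⟨pCtx.τ i, Subgroup.subset_closure ⟨i, hi, rfl⟩⟩ = D.τ i := by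
  set T := Subgroup.closure (pPair D '' Set.Iio 5)
  set A := Subgroup.closure (pCtx.τ '' Set.Iio 5) with hA
  obtain ⟨hfin, hcard⟩ := p15_card D
  have hfst : ∀ t ∈ T, t.1 ∈ A := by
    intro t ht
    refine (Subgroup.closure_le (K := A.comap (MonoidHom.fst _ _))).mpr ?_ ht
    rintro x ⟨i, hi, rfl⟩
    exact Subgroup.subset_closure ⟨i, hi, rfl⟩
  let π : T →* A := ((MonoidHom.fst _ G).comp T.subtype).codRestrict A fun t => hfst t.1 t.2
  have hsurj : Function.Surjective π := by
    intro g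
    obtain ⟨t, ht, e⟩ := (Subgroup.closure_le (K := T.map (MonoidHom.fst _ G))).mpr
      (by rintro x ⟨i, hi, rfl⟩; exact ⟨pPair D i, Subgroup.subset_closure ⟨i, hi, rfl⟩, rfl⟩) g.2
    exact ⟨⟨t, ht⟩, Subtype.ext e⟩
  have hbij : Function.Bijective π := (Nat.bijective_iff_surjective_and_card π).mpr
    ⟨hsurj, le_antisymm (hcard.trans card_pModel) (Nat.card_le_card_of_surjective π hsurj)⟩
  let e := MulEquiv.ofBijective π hbij
  let θ : A →* G := ((MonoidHom.snd _ _).comp T.subtype).comp e.symm.toMonoidHom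
  refine ⟨θ, ?_, fun i hi => ?_⟩
  · intro a b h
    obtain ⟨⟨t, ht⟩, rfl⟩ := hsurj a
    obtain ⟨⟨t', ht'⟩, rfl⟩ := hsurj b
    have h1 : ((e.symm (π ⟨t, ht⟩)).1).2 = ((e.symm (π ⟨t', ht'⟩)).1).2 := h
    rw [show e.symm (π ⟨t, ht⟩) = ⟨t, ht⟩ from e.symm_apply_apply ⟨t, ht⟩,
      show e.symm (π ⟨t', ht'⟩) = ⟨t', ht'⟩ from e.symm_apply_apply ⟨t', ht'⟩] at h1
    have key : ∀ u ∈ T, u.2 = (1 : G) → u.1 = 1 := by
      intro u hu h2
      have hker : ∀ e0 < 16, u.1 * pCtx.φ (pel e0) * u.1⁻¹ = pCtx.φ (pel e0) := by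
        intro e0 he0
        have inv : ∀ x ∈ T, ∃ p : ℕ → ℕ, ∀ e < 16, p e < 16 ∧ x.1 * pCtx.φ (pel e) * x.1⁻¹ = pCtx.φ (pel (p e)) ∧
            x.2 * D.φ (pel e) * x.2⁻¹ = D.φ (pel (p e)) := by
          intro x hx
          induction hx using Subgroup.closure_induction_left with
          | one => exact ⟨id, fun e he => ⟨he, by simp, by simp⟩⟩
          | mul_left x hx y _ ih =>
            obtain ⟨i, hi, rfl⟩ := hx
            obtain ⟨p, hp⟩ := ih
            refine ⟨fun e => pImg i (p e), fun e he => ?_⟩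
            obtain ⟨l1, a1, a2⟩ := hp e he
            obtain ⟨l2, b1⟩ := pel_step pCtx hi l1
            refine ⟨l2, ?_, ?_⟩
            · rw [Prod.fst_mul, mul_inv_rev, show (pPair D i).1 = pCtx.τ i from rfl,
                show pCtx.τ i * y.1 * pCtx.φ (pel e) * (y.1⁻¹ * (pCtx.τ i)⁻¹) =
                  pCtx.τ i * (y.1 * pCtx.φ (pel e) * y.1⁻¹) * (pCtx.τ i)⁻¹ by group, a1, b1]
            · rw [Prod.snd_mul, mul_inv_rev, show (pPair D i).2 = D.τ i from rfl,
                show D.τ i * y.2 * D.φ (pel e) * (y.2⁻¹ * (D.τ i)⁻¹) =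
                  D.τ i * (y.2 * D.φ (pel e) * y.2⁻¹) * (D.τ i)⁻¹ by group, a2, (pel_step D hi l1).2]
          | inv_mul_cancel x hx y _ ih =>
            obtain ⟨i, hi, rfl⟩ := hx
            obtain ⟨p, hp⟩ := ih
            rw [inv_eq_of_mul_eq_one_right
              (show pPair D i * pPair D i = 1 from Prod.ext (pCtx.τ_sq i) (D.τ_sq i))]
            refine ⟨fun e => pImg i (p e), fun e he => ?_⟩
            obtain ⟨l1, a1, a2⟩ := hp e he
            obtain ⟨l2, b1⟩ := pel_step pCtx hi l1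
            refine ⟨l2, ?_, ?_⟩
            · rw [Prod.fst_mul, mul_inv_rev, show (pPair D i).1 = pCtx.τ i from rfl,
                show pCtx.τ i * y.1 * pCtx.φ (pel e) * (y.1⁻¹ * (pCtx.τ i)⁻¹) =
                  pCtx.τ i * (y.1 * pCtx.φ (pel e) * y.1⁻¹) * (pCtx.τ i)⁻¹ by group, a1, b1]
            · rw [Prod.snd_mul, mul_inv_rev, show (pPair D i).2 = D.τ i from rfl,
                show D.τ i * y.2 * D.φ (pel e) * (y.2⁻¹ * (D.τ i)⁻¹) =
                  D.τ i * (y.2 * D.φ (pel e) * y.2⁻¹) * (D.τ i)⁻¹ by group, a2, (pel_step D hi l1).2]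
        obtain ⟨p, hp⟩ := inv u hu
        obtain ⟨hl, a1, a2⟩ := hp e0 he0
        rw [h2, one_mul, inv_one, mul_one] at a2
        rw [a1, ← pel_inj he0 hl (D.inj a2)]
      obtain ⟨e1, he1, hu1⟩ := pel_self pCtx fun e0 he0 => mul_inv_eq_iff_eq_mul.mp (hker e0 he0)
      have hdiag : (pCtx.φ (pel e1), D.φ (pel e1)) ∈ T := by
        obtain ⟨w, hw⟩ := exists_word (pel e1)
        rw [← hw]
        clear hw
        induction w with
        | nil => rw [show wEl [] = 1 from rfl, map_one, map_one]; exact T.one_mem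
        | cons i w ih =>
          rw [show wEl (i :: w) = gen i * wEl w by simp [wEl], map_mul, map_mul,
            show (pCtx.φ (gen i) * pCtx.φ (wEl w), D.φ (gen i) * D.φ (wEl w)) =
              (pCtx.φ (gen i), D.φ (gen i)) * (pCtx.φ (wEl w), D.φ (wEl w)) from rfl]
          refine mul_mem ?_ ih
          by_cases h4 : i < 4
          · exact Subgroup.subset_closure ⟨i, (show i < 5 by omega), by simp [pPair, Ctx.τ, h4]⟩
          · rw [show gen i = 1 by simp [gen, h4], map_one, map_one]; exact T.one_mem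
      have heq : (⟨u, hu⟩ : T) = ⟨_, hdiag⟩ := hbij.injective (Subtype.ext hu1)
      have h3 : u.2 = D.φ (pel e1) := congrArg (fun t : T => t.1.2) heq
      rw [h2] at h3
      rw [hu1, D.inj (a₁ := pel e1) (a₂ := 1) (by rw [← h3, map_one]), map_one]
    have hd := key (t * t'⁻¹) (T.mul_mem ht (T.inv_mem ht')) (by rw [Prod.snd_mul, Prod.snd_inv, h1, mul_inv_cancel])
    rw [Prod.fst_mul, Prod.fst_inv, mul_inv_eq_one] at hd
    exact Subtype.ext hd
  · show ((e.symm ⟨pCtx.τ i, _⟩).1).2 = D.τ i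
    have : π ⟨pPair D i, Subgroup.subset_closure ⟨i, hi, rfl⟩⟩ = ⟨pCtx.τ i, Subgroup.subset_closure ⟨i, hi, rfl⟩⟩ := rfl
    rw [← this, show e.symm (π ⟨pPair D i, _⟩) = ⟨pPair D i, _⟩ from e.symm_apply_apply ⟨pPair D i, _⟩]
    rfl

end CfsgLib.HeldRecog
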