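/-
The last automorphism on both sides: the general linear group of dimension five maps into the group.
-/
import Cfsg.Agent.Lib.HeldRecog.PHom
import Cfsg.Agent.Lib.HeldRecog.Extern
import Cfsg.Agent.Lib.HeldRecog.L31.Main
import Cfsg.Agent.Lib.HeldRecog.L5Data
import Cfsg.Agent.Lib.SLCard
import Cfsg.Agent.Lib.SLPerfect

set_option autoImplicit false
set_option maxRecDepth 100000

namespace CfsgLib.HeldRecog

open CfsgLib.CosetEnum CfsgLib.HeCent

local notation "SL5" => Matrix.SpecialLinearGroup (Fin 5) (ZMod 2)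

/-- Exchanging elements of the last kind for the copy and for the copy composed with the symmetry. -/
structure Two (G : Type) [Group G] where
  A : Ctx G 3
  B : Ctx G 3
  tw : B.toEmb = A.toEmb.twist

/-- The model of two exchanging elements. -/
noncomputable def pTwo : Two SL5 := ⟨pCtx, pCtxT, rfl⟩

variable {G : Type} [Group G] (T : Two G)

theorem Two.φB (x : HS) : T.B.φ x = T.A.φ (tau x) := by
  have h : T.B.φ = T.A.toEmb.twist.φ := congrArg Emb.φ T.tw
  rw [h]; rfl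

theorem Two.zB : T.B.z = T.A.z := by
  have h : T.B.z = T.A.toEmb.twist.z := congrArg Emb.z T.tw
  rw [h]; rfl

/-- The six letters. -/
noncomputable def Two.τ (i : ℕ) : G := if i < 5 then T.A.τ i else if i = 5 then T.B.s else 1

/-- The element of a word. -/
noncomputable def Two.ev (w : List ℕ) : G := (w.map T.τ).prod

theorem Two.τ_sq (i : ℕ) : T.τ i * T.τ i = 1 := by
  unfold Two.τ
  split_ifs
  · exact T.A.τ_sq i
  · exact T.B.sq
  · exact one_mul 1

theorem Two.ev_cons (i : ℕ) (w : List ℕ) : T.ev (i :: w) = T.τ i * T.ev w := by simp [Two.ev]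

theorem Two.ev_append (v w : List ℕ) : T.ev (v ++ w) = T.ev v * T.ev w := by
  simp [Two.ev, List.map_append, List.prod_append]

theorem Two.ev_reverse : ∀ w : List ℕ, T.ev w.reverse = (T.ev w)⁻¹
  | [] => by simp [Two.ev]
  | i :: w => by
    rw [List.reverse_cons, ev_append, ev_reverse w, show T.ev [i] = T.τ i by simp [Two.ev], ev_cons, mul_inv_rev,
      inv_eq_of_mul_eq_one_right (T.τ_sq i)]

theorem Two.evA : ∀ w : List ℕ, (∀ i ∈ w, i < 5) → T.ev w = T.A.ev w
  | [], _ => by simp [Two.ev, Ctx.ev]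
  | i :: w, h => by
    rw [ev_cons, evA w (fun j hj => h j (List.mem_cons_of_mem _ hj)), Two.τ, if_pos (h i List.mem_cons_self)]
    simp [Ctx.ev]

theorem Two.ev_lt {w : List ℕ} (h : ∀ i ∈ w, i < 4) : T.ev w = T.A.φ (wEl w) := by
  rw [T.evA w fun i hi => Nat.lt_succ_of_lt (h i hi), T.A.ev_of_lt h]

/-- A word in the letters of the second exchanging element, rewritten. -/
def subT (w : List ℕ) : List ℕ := w.flatMap fun i => if i < 4 then tauWord.getD i [] else [4]

/-- The letters of the second exchanging element. -/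
noncomputable def letT (w : List ℕ) : Bool := w.all fun i => Nat.blt i 4 || Nat.beq i 5

theorem subT_ok : ((List.range 4).all fun i => (tauWord.getD i []).all (fun a => Nat.blt a 4) &&
    Nat.beq (wCode (tauW (tauWord.getD i []))) (gcode i)) = true := by decide +kernel

theorem Two.evB : ∀ w : List ℕ, letT w = true → (∀ i ∈ subT w, i < 5) ∧ T.ev w = T.B.ev (subT w)
  | [], _ => ⟨by simp [subT], by simp [Two.ev, Ctx.ev, subT]⟩
  | i :: w, h => by
    simp only [letT, List.all_cons, Bool.and_eq_true, Bool.or_eq_true, blt_iff, Nat.beq_eq] at h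
    obtain ⟨hl, e⟩ := evB w h.2
    rw [show subT (i :: w) = (if i < 4 then tauWord.getD i [] else [4]) ++ subT w by simp [subT]]
    rw [T.B.ev_append, ev_cons, e]
    rcases h.1 with h4 | rfl
    · have hs := subT_ok
      simp only [List.all_eq_true, List.mem_range, Bool.and_eq_true, blt_iff, Nat.beq_eq] at hs
      obtain ⟨hlt, hc⟩ := hs i h4
      rw [if_pos h4]
      refine ⟨fun j hj => (List.mem_append.mp hj).elim (fun hj => Nat.lt_succ_of_lt (hlt j hj)) (hl j), ?_⟩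
      rw [Two.τ, if_pos (Nat.lt_succ_of_lt h4), Ctx.τ, if_pos h4, T.B.ev_of_lt hlt, T.φB, tau_wEl _ hlt,
        (hasCode_wEl _).unique (hc.symm ▸ hasCode_gen i)]
    · rw [if_neg (by norm_num)]
      refine ⟨fun j hj => (List.mem_append.mp hj).elim (fun hj => by simp at hj; omega) (hl j), ?_⟩
      simp [Two.τ, Ctx.ev, Ctx.τ]

theorem rel_of_model (D : Ctx G 3) {w : List ℕ} (hw : ∀ i ∈ w, i < 5) (h : evC pLet w = oneCode) :
    D.ev w = 1 := by
  obtain ⟨θ, -, hθ⟩ := exists_pHom D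
  have key : ∀ w : List ℕ, (∀ i ∈ w, i < 5) →
      ∃ m : Subgroup.closure (pCtx.τ '' Set.Iio 5), m.1 = pCtx.ev w ∧ θ m = D.ev w := by
    intro w
    induction w with
    | nil => exact fun _ => ⟨1, rfl, by simp [Ctx.ev]⟩
    | cons i w ih =>
      intro hw
      obtain ⟨m, hm, e⟩ := ih fun j hj => hw j (List.mem_cons_of_mem _ hj)
      have hi := hw i List.mem_cons_self
      refine ⟨⟨pCtx.τ i, Subgroup.subset_closure ⟨i, hi, rfl⟩⟩ * m, ?_, ?_⟩
      · rw [Subgroup.coe_mul, hm]; simp [Ctx.ev]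
      · rw [map_mul, hθ i hi, e]; simp [Ctx.ev]
  obtain ⟨m, hm, e⟩ := key w hw
  rw [pEv_one h] at hm
  rw [← e, show m = 1 from Subtype.ext hm, map_one]

/-- Equality of two words in one of the two stabilisers. -/
noncomputable def twoEq (v w : List ℕ) : Bool :=
  ((v ++ w.reverse).all (fun i => Nat.blt i 5) && Nat.beq (evC pLet (v ++ w.reverse)) oneCode) ||
    (letT (v ++ w.reverse) && Nat.beq (evC pLet (subT (v ++ w.reverse))) oneCode)

theorem Two.eq_sound {v w : List ℕ} (h : twoEq v w = true) : T.ev v = T.ev w := by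
  rw [← mul_inv_eq_one, ← T.ev_reverse, ← T.ev_append]
  simp only [twoEq, Bool.or_eq_true, Bool.and_eq_true, List.all_eq_true, blt_iff, Nat.beq_eq] at h
  rcases h with ⟨hl, hc⟩ | ⟨hl, hc⟩
  · rw [T.evA _ hl]; exact rel_of_model T.A hl hc
  · obtain ⟨hl', e⟩ := T.evB _ hl
    rw [e]; exact rel_of_model T.B hl' hc

/-- The identities between the witnesses. -/
def l5Ids : List (List ℕ × List ℕ) :=
  [(l5Wv ++ zW, l5Wc1 ++ l5Wv), (l5Wu ++ l5Wc1, l5Wt ++ l5Wu), (l5Wv ++ l5Wx, l5Wx ++ l5Wv),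
    (l5Wu ++ l5Wx, l5Wa ++ l5Wu), (l5Wu ++ zW, l5Wc ++ l5Wu), (l5Wv ++ l5Wc, l5Wt ++ l5Wv),
    (l5Wu ++ l5Wy, l5Wy ++ l5Wu), (l5Wv ++ l5Wy, l5Wb ++ l5Wv), (l5Wa ++ l5Wa, []),
    (l5Wa ++ l5Wc, l5Wc ++ l5Wa), (zW ++ (l5Wa ++ zW), l5Wa ++ l5Wc), (l5Wc ++ l5Wc, []), (l5Wt ++ l5Wt, []),
    (l5Wc ++ l5Wt, l5Wt ++ l5Wc), (l5Wb ++ l5Wb, []), (l5Wc ++ (l5Wb ++ (l5Wc ++ l5Wb)), l5Wt)]

/-- The checks of the identities. -/
noncomputable def l5IdsOK : Bool := l5Ids.all fun p => twoEq p.1 p.2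

theorem l5Ids_ok : l5IdsOK = true := by decide +kernel

/-- The checks of the conjugates of the first transvection. -/
noncomputable def l5LAOK : Bool :=
  l5LA.contains (wCode l5Wx) && force (wCode l5Wy) fun y => l5LA.all fun c =>
    ((List.range 4).all fun i => l5LA.contains (mulF (gcode i) (mulF c (gcode i)))) &&
      force (mulF c y) fun p => Nat.beq (mulF p p) oneCode || Nat.beq (mulF p p) sCode

theorem l5LA_ok : l5LAOK = true := by decide +kernel

theorem conj_comm_small (h : HS) :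
    h * wEl l5Wx * h⁻¹ * wEl l5Wy * (h * wEl l5Wx * h⁻¹ * wEl l5Wy) = 1 ∨
    h * wEl l5Wx * h⁻¹ * wEl l5Wy * (h * wEl l5Wx * h⁻¹ * wEl l5Wy) = Zh := by
  have hk := l5LA_ok
  simp only [l5LAOK, force_eq, Bool.and_eq_true, List.all_eq_true, List.contains_iff_mem, List.mem_range,
    Bool.or_eq_true, Nat.beq_eq] at hk
  obtain ⟨h0, hall⟩ := hk
  have key : ∀ w : List ℕ, ∃ c ∈ l5LA, HasCode (wEl w * wEl l5Wx * (wEl w)⁻¹) c := by
    intro w
    induction w with
    | nil => exact ⟨_, h0, by simpa [show wEl [] = 1 from rfl] using hasCode_wEl l5Wx⟩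
    | cons i w ih =>
      obtain ⟨c, hc, hcode⟩ := ih
      rw [show wEl (i :: w) = gen i * wEl w by simp [wEl], mul_inv_rev,
        inv_eq_of_mul_eq_one_right (gen_sq i),
        show gen i * wEl w * wEl l5Wx * ((wEl w)⁻¹ * gen i) = gen i * (wEl w * wEl l5Wx * (wEl w)⁻¹ * gen i) by group]
      by_cases hi : i < 4
      · exact ⟨_, (hall c hc).1 i hi, (hasCode_gen i).mul (hcode.mul (hasCode_gen i))⟩
      · exact ⟨c, hc, by simpa [gen, hi] using hcode⟩
  obtain ⟨w, rfl⟩ := exists_word h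
  obtain ⟨c, hc, hcode⟩ := key w
  have hp := hcode.mul (hasCode_wEl l5Wy)
  rcases (hall c hc).2 with e | e
  · exact Or.inl ((hp.mul hp).unique (e.symm ▸ HasCode.one))
  · exact Or.inr ((hp.mul hp).unique (e.symm ▸ Zh_code))

theorem Two.id_ev {v w : List ℕ} (h : (v, w) ∈ l5Ids) : T.ev v = T.ev w :=
  T.eq_sound (List.all_eq_true.mp l5Ids_ok _ h)

theorem l5W_lt : ([l5Wx, l5Wy, l5Wc, l5Wt, zW].all fun w => w.all fun i => Nat.blt i 4) = true := by decide

/-- The commutator of the witnesses is trivial or the given transvection. -/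
theorem Two.extra_mem : T.ev l5Wa * T.ev l5Wb * (T.ev l5Wa * T.ev l5Wb) = 1 ∨
    T.ev l5Wa * T.ev l5Wb * (T.ev l5Wa * T.ev l5Wb) = T.ev l5Wt := by
  have hl := l5W_lt
  simp only [List.all_eq_true, blt_iff, List.mem_cons, List.not_mem_nil, or_false, forall_eq_or_imp, forall_eq] at hl
  obtain ⟨hx, hy, -, -, hz⟩ := hl
  have hzv : T.ev zW = T.A.z := by rw [T.ev_lt hz]; exact T.A.map_Zh
  have I : ∀ {v w : List ℕ}, (v, w) ∈ l5Ids → T.ev v = T.ev w := fun h => T.id_ev h
  have e1 := I (v := l5Wv ++ zW) (w := l5Wc1 ++ l5Wv) (by simp [l5Ids])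
  have e2 := I (v := l5Wu ++ l5Wc1) (w := l5Wt ++ l5Wu) (by simp [l5Ids])
  have e3 := I (v := l5Wv ++ l5Wx) (w := l5Wx ++ l5Wv) (by simp [l5Ids])
  have e4 := I (v := l5Wu ++ l5Wx) (w := l5Wa ++ l5Wu) (by simp [l5Ids])
  have e5 := I (v := l5Wu ++ zW) (w := l5Wc ++ l5Wu) (by simp [l5Ids])
  have e6 := I (v := l5Wv ++ l5Wc) (w := l5Wt ++ l5Wv) (by simp [l5Ids])
  have e7 := I (v := l5Wu ++ l5Wy) (w := l5Wy ++ l5Wu) (by simp [l5Ids])
  have e8 := I (v := l5Wv ++ l5Wy) (w := l5Wb ++ l5Wv) (by simp [l5Ids])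
  simp only [T.ev_append, hzv] at e1 e2 e3 e4 e5 e6 e7 e8
  rw [T.ev_lt hx] at e3 e4
  rw [T.ev_lt hy] at e7 e8
  generalize T.ev l5Wu = u at *
  generalize T.ev l5Wv = v at *
  generalize T.ev l5Wa = a at *
  generalize T.ev l5Wb = b at *
  generalize T.ev l5Wc1 = c1 at *
  generalize T.ev l5Wc = c at *
  generalize T.ev l5Wt = t at *
  have g1z : u * v * T.A.z = t * (u * v) := by rw [mul_assoc, e1, ← mul_assoc, e2, mul_assoc]
  have g2z : v * u * T.A.z = t * (v * u) := by rw [mul_assoc, e5, ← mul_assoc, e6, mul_assoc]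
  have g1x : u * v * T.A.φ (wEl l5Wx) = a * (u * v) := by rw [mul_assoc, e3, ← mul_assoc, e4, mul_assoc]
  have g2y : v * u * T.A.φ (wEl l5Wy) = b * (v * u) := by rw [mul_assoc, e7, ← mul_assoc, e8, mul_assoc]
  obtain ⟨h, hh⟩ := (T.A.mem_range ((v * u)⁻¹ * (u * v))).mp (by
    calc (v * u)⁻¹ * (u * v) * T.A.z = (v * u)⁻¹ * (u * v * T.A.z) := by group
      _ = (v * u)⁻¹ * (t * (v * u)) * ((v * u)⁻¹ * (u * v)) := by rw [g1z]; group
      _ = (v * u)⁻¹ * (v * u * T.A.z) * ((v * u)⁻¹ * (u * v)) := by rw [g2z]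
      _ = _ := by group)
  have key : a * b * (a * b) =
      (v * u) * T.A.φ (h * wEl l5Wx * h⁻¹ * wEl l5Wy * (h * wEl l5Wx * h⁻¹ * wEl l5Wy)) * (v * u)⁻¹ := by
    have ea : a = u * v * T.A.φ (wEl l5Wx) * (u * v)⁻¹ := by rw [g1x]; group
    have eb : b = v * u * T.A.φ (wEl l5Wy) * (v * u)⁻¹ := by rw [g2y]; group
    rw [ea, eb, map_mul, map_mul, map_mul, map_mul, map_inv, hh]
    group
  rcases conj_comm_small h with e | e <;> rw [e] at key
  · exact Or.inl (by rw [key, map_one]; group)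
  · exact Or.inr (by rw [key, T.A.map_Zh, g2z]; group)

/-- The second exchanging element conjugated by the central involution. -/
noncomputable def Two.flip : Two G where
  A := T.A
  B :=
    { toEmb := T.B.toEmb
      s := T.B.z * T.B.s * T.B.z
      s_z := by
        calc T.B.z * T.B.s * T.B.z * T.B.z * (T.B.z * T.B.s * T.B.z)⁻¹ =
            T.B.z * (T.B.s * T.B.z * T.B.s⁻¹) * T.B.z⁻¹ := by group
          _ = _ := by rw [T.B.s_z, ← T.B.comm_z, mul_inv_cancel_right]
      s_x := by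
        calc T.B.z * T.B.s * T.B.z * T.B.φ Xh * (T.B.z * T.B.s * T.B.z)⁻¹ =
            T.B.z * (T.B.s * (T.B.z * T.B.φ Xh * T.B.z⁻¹) * T.B.s⁻¹) * T.B.z⁻¹ := by group
          _ = _ := by rw [← T.B.comm_z, mul_inv_cancel_right, T.B.s_x]; group
      sq := by
        calc T.B.z * T.B.s * T.B.z * (T.B.z * T.B.s * T.B.z) =
            T.B.z * (T.B.s * (T.B.z * T.B.z) * T.B.s) * T.B.z := by group
          _ = 1 := by rw [T.B.z_sq, mul_one, T.B.sq, mul_one, T.B.z_sq]
      pref := by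
        intro i hi
        obtain ⟨y, hy, hyc⟩ := T.B.pref i hi
        refine ⟨y, ?_, hyc⟩
        have hy' : T.B.s * T.B.φ (srcEl i) * T.B.s⁻¹ = T.B.φ y := hy
        show T.B.z * T.B.s * T.B.z * T.B.φ (srcEl i) * (T.B.z * T.B.s * T.B.z)⁻¹ = T.B.φ y
        calc T.B.z * T.B.s * T.B.z * T.B.φ (srcEl i) * (T.B.z * T.B.s * T.B.z)⁻¹ =
            T.B.z * (T.B.s * (T.B.z * T.B.φ (srcEl i) * T.B.z⁻¹) * T.B.s⁻¹) * T.B.z⁻¹ := by group
          _ = _ := by rw [← T.B.comm_z, mul_inv_cancel_right, hy', ← T.B.comm_z, mul_inv_cancel_right] }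
  tw := T.tw

theorem l5Wa_eq : l5Wa = [0, 5, 0, 5] ∧ (l5Wb.all fun i => Nat.blt i 5) = true := by decide

/-- After possibly changing the second exchanging element, the witnesses commute. -/
theorem Two.exists_comm : ∃ T' : Two G, T'.A = T.A ∧
    T'.ev l5Wa * T'.ev l5Wb * (T'.ev l5Wa * T'.ev l5Wb) = 1 := by
  rcases T.extra_mem with h | h
  · exact ⟨T, rfl, h⟩
  refine ⟨T.flip, rfl, ?_⟩
  have hl := l5W_lt
  simp only [List.all_eq_true, blt_iff, List.mem_cons, List.not_mem_nil, or_false, forall_eq_or_imp, forall_eq] at hl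
  have hzv : T.ev zW = T.A.z := by rw [T.ev_lt hl.2.2.2.2]; exact T.A.map_Zh
  have ea : T.flip.ev l5Wa = T.A.z * T.ev l5Wa * T.A.z := by
    rw [l5Wa_eq.1]
    have c0 : T.A.φ (gen 0) * T.A.z = T.A.z * T.A.φ (gen 0) := T.A.comm_z _
    simp only [Two.ev, Two.τ, Two.flip, Ctx.τ, List.map_cons, List.map_nil, List.prod_cons, List.prod_nil,
      show (0 : ℕ) < 5 by norm_num, show (0 : ℕ) < 4 by norm_num, if_true, show ¬ (5 : ℕ) < 5 by norm_num, if_false,
      mul_one, T.zB]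
    calc T.A.φ (gen 0) * (T.A.z * T.B.s * T.A.z * (T.A.φ (gen 0) * (T.A.z * T.B.s * T.A.z))) =
        (T.A.φ (gen 0) * T.A.z) * T.B.s * (T.A.z * T.A.φ (gen 0)) * T.A.z * T.B.s * T.A.z := by group
      _ = T.A.z * T.A.φ (gen 0) * T.B.s * T.A.φ (gen 0) * (T.A.z * T.A.z) * T.B.s * T.A.z := by
        rw [c0, ← c0]; group
      _ = _ := by rw [T.A.z_sq]; group
  have eb : T.flip.ev l5Wb = T.ev l5Wb := by
    have hb := List.all_eq_true.mp l5Wa_eq.2
    rw [Two.evA _ _ fun i hi => blt_iff.mp (hb i hi), Two.evA _ _ fun i hi => blt_iff.mp (hb i hi)]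
    rfl
  have I : ∀ {v w : List ℕ}, (v, w) ∈ l5Ids → T.ev v = T.ev w := fun h => T.id_ev h
  have h1 := I (v := l5Wa ++ l5Wa) (w := []) (by simp [l5Ids])
  have h2 := I (v := l5Wa ++ l5Wc) (w := l5Wc ++ l5Wa) (by simp [l5Ids])
  have h3 := I (v := zW ++ (l5Wa ++ zW)) (w := l5Wa ++ l5Wc) (by simp [l5Ids])
  have h4 := I (v := l5Wc ++ l5Wc) (w := []) (by simp [l5Ids])
  have h5 := I (v := l5Wt ++ l5Wt) (w := []) (by simp [l5Ids])
  have h6 := I (v := l5Wc ++ l5Wt) (w := l5Wt ++ l5Wc) (by simp [l5Ids])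
  have h7 := I (v := l5Wb ++ l5Wb) (w := []) (by simp [l5Ids])
  have h8 := I (v := l5Wc ++ (l5Wb ++ (l5Wc ++ l5Wb))) (w := l5Wt) (by simp [l5Ids])
  simp only [T.ev_append, hzv, show T.ev [] = 1 from rfl] at h1 h2 h3 h4 h5 h6 h7 h8
  rw [ea, eb, show T.A.z * T.ev l5Wa * T.A.z = T.ev l5Wa * T.ev l5Wc by rw [mul_assoc, h3]]
  generalize T.ev l5Wa = a at *
  generalize T.ev l5Wb = b at *
  generalize T.ev l5Wc = c at *
  generalize T.ev l5Wt = t at *
  have hba : b * a * b = a * t := by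
    calc b * a * b = a⁻¹ * (a * b * (a * b)) := by group
      _ = a * t := by rw [h, inv_eq_of_mul_eq_one_right h1]
  have hbc : b * c * b = c * t := by
    calc b * c * b = c⁻¹ * (c * (b * (c * b))) := by group
      _ = c * t := by rw [h8, inv_eq_of_mul_eq_one_right h4]
  calc a * c * b * (a * c * b) = a * c * (b * a * b) * (b⁻¹ * c * b) := by group
    _ = a * c * (a * t) * (c * t) := by rw [inv_eq_of_mul_eq_one_right h7, hba, hbc]
    _ = a * (c * a) * (t * c) * t := by group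
    _ = a * a * (c * c) * (t * t) := by rw [← h2, ← h6]; group
    _ = 1 := by rw [h1, h4, h5, mul_one, mul_one]

/-- The check of a relator by its kind. -/
noncomputable def l31RelOK (i : ℕ) : Bool :=
  Nat.beq (evC (fun j => if j < 5 then pLet j else pLetT 4) (L31.rels.getD i [])) oneCode &&
    (twoEq (L31.rels.getD i []) [] || L31.rels.getD i [] == (l5Wa ++ l5Wb) ++ (l5Wa ++ l5Wb))

theorem l31Rels_ok : ((List.range L31.rels.length).all l31RelOK) = true := by decide +kernel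

theorem Two.rel (h : T.ev l5Wa * T.ev l5Wb * (T.ev l5Wa * T.ev l5Wb) = 1) : ∀ r ∈ L31.rels, T.ev r = 1 := by
  intro r hr
  obtain ⟨i, hi, rfl⟩ := List.getElem_of_mem hr
  have hk := List.all_eq_true.mp l31Rels_ok i (List.mem_range.mpr hi)
  simp only [l31RelOK, List.getD_eq_getElem _ _ hi, Bool.and_eq_true, Bool.or_eq_true, beq_iff_eq] at hk
  rcases hk.2 with e | e
  · exact T.eq_sound e
  · rw [e]; simp only [T.ev_append]; exact h

theorem pTwo_τ (i : ℕ) : (pTwo.τ i : Matrix (Fin 5) (Fin 5) (ZMod 2)) =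
    mat (if i < 5 then pLet i else if i = 5 then pLetT 4 else oneCode) := by
  unfold Two.τ
  split_ifs with h h'
  · exact pCtx_τ i
  · simpa [Ctx.τ, pTwo] using pCtxT_τ 4
  · exact mat_one.symm

theorem pTwo_ev : ∀ w : List ℕ, (∀ i ∈ w, i < 6) →
    (pTwo.ev w : Matrix (Fin 5) (Fin 5) (ZMod 2)) = mat (evC (fun j => if j < 5 then pLet j else pLetT 4) w)
  | [], _ => by simp [Two.ev, evC, show mat oneCode = 1 from mat_one]
  | i :: w, h => by
    rw [Two.ev_cons, Matrix.SpecialLinearGroup.coe_mul, pTwo_τ, pTwo_ev w fun j hj => h j (List.mem_cons_of_mem _ hj),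
      mat_mulF]
    have hi := h i List.mem_cons_self
    show _ = mat (force (evC _ w) fun r => mulF (if i < 5 then pLet i else pLetT 4) r)
    rw [force_eq]
    congr 2
    split_ifs with h1 h2 <;> first | rfl | omega

theorem l31_lt : (L31.rels.all fun r => r.all fun i => Nat.blt i 6) = true := by decide +kernel

theorem pTwo_rel : ∀ r ∈ L31.rels, pTwo.ev r = 1 := by
  intro r hr
  refine Subtype.ext ((pTwo_ev r fun i hi => blt_iff.mp (List.all_eq_true.mp (List.all_eq_true.mp l31_lt r hr) i hi)).trans ?_)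
  obtain ⟨i, hi, rfl⟩ := List.getElem_of_mem hr
  have hk := List.all_eq_true.mp l31Rels_ok i (List.mem_range.mpr hi)
  simp only [l31RelOK, List.getD_eq_getElem _ _ hi, Bool.and_eq_true, Nat.beq_eq] at hk
  rw [hk.1]
  exact mat_one

/-- The letters in the product with the model. -/
noncomputable def Two.pair (i : ℕ) : SL5 × G := (pTwo.τ i, T.τ i)

theorem Two.card_pair (h : T.ev l5Wa * T.ev l5Wb * (T.ev l5Wa * T.ev l5Wb) = 1) :
    Finite (Subgroup.closure (T.pair '' Set.Iio 6)) ∧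
      Nat.card (Subgroup.closure (T.pair '' Set.Iio 6)) ≤ 31 * (15 * 21504) := by
  have hsq : ∀ i, T.pair i * T.pair i = 1 := fun i => Prod.ext (pTwo.τ_sq i) (T.τ_sq i)
  have h6 : T.pair 6 = 1 := Prod.ext (by simp [Two.pair, Two.τ]) (by simp [Two.pair, Two.τ])
  have h5 : ∀ i < 5, T.pair i = pPair T.A i := fun i hi => by
    simp [Two.pair, pPair, Two.τ, hi, pTwo]
  have hsub : wordsSub T.pair L31.sheet.hw ≤ Subgroup.closure (pPair T.A '' Set.Iio 5) := by
    refine (Subgroup.closure_le _).mpr ?_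
    rintro g ⟨u, hu, rfl⟩
    have hu' : u ∈ ([[0], [1], [2], [3], [4]] : List (List ℕ)) := hu
    obtain ⟨i, hi, rfl⟩ : ∃ i < 5, u = [i] := by fin_cases hu' <;> simp
    exact Subgroup.subset_closure ⟨i, hi, by simp [h5 i hi]⟩
  obtain ⟨hf, hc⟩ := p15_card T.A
  exact L31.sheet.card_le T.pair hsq h6
    (fun r hr => by
      rw [show T.pair = fun i => (pTwo.τ i, T.τ i) from rfl, prod_pair]
      exact Prod.ext (pTwo_rel r hr) (T.rel h r hr))
    ((Subgroup.closure_le _).mpr (by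
      rintro g ⟨u, hu, rfl⟩
      have hu' : u ∈ ([[0], [1], [2], [3], [4]] : List (List ℕ)) := hu
      refine Subgroup.list_prod_mem _ fun x hx => ?_
      obtain ⟨i, hi, rfl⟩ := List.mem_map.mp hx
      refine Subgroup.subset_closure ⟨i, ?_, rfl⟩
      show i < 6
      fin_cases hu' <;> simp at hi <;> omega))
    ⟨Finite.of_injective _ (Subgroup.inclusion_injective hsub),
      (Nat.card_le_card_of_injective _ (Subgroup.inclusion_injective hsub)).trans hc⟩

/-- The checks of the orbit of the fixed vector. -/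
noncomputable def l5OrbitOK : Bool :=
  ((List.range 5).all fun i => Nat.beq (mulF (pLet i) l5V) l5V) && Nat.beq l5Path.length 31 &&
    Nat.blt l5V (2 ^ 25) && Nat.beq (mulF oneCode l5V) l5V &&
    (List.range 31).all fun a => (l5Path.getD a []).all (fun i => Nat.blt i 6) && (List.range a).all fun b =>
      !Nat.beq (mulF (evC (fun j => if j < 5 then pLet j else pLetT 4) (l5Path.getD a [])) l5V)
        (mulF (evC (fun j => if j < 5 then pLet j else pLetT 4) (l5Path.getD b [])) l5V)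

theorem l5Orbit_ok : l5OrbitOK = true := by decide +kernel

theorem pModel_fix {g : SL5} (hg : g ∈ Subgroup.closure (pCtx.τ '' Set.Iio 5)) :
    (g : Matrix (Fin 5) (Fin 5) (ZMod 2)) * mat l5V = mat l5V := by
  have hk := l5Orbit_ok
  simp only [l5OrbitOK, Bool.and_eq_true, List.all_eq_true, List.mem_range, Nat.beq_eq] at hk
  have step : ∀ i < 5, (pCtx.τ i : Matrix (Fin 5) (Fin 5) (ZMod 2)) * mat l5V = mat l5V := fun i hi => by
    rw [pCtx_τ, mat_mulF, hk.1.1.1.1 i hi]
  induction hg using Subgroup.closure_induction_left with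
  | one => rw [Matrix.SpecialLinearGroup.coe_one, Matrix.one_mul]
  | mul_left x hx y _ ih =>
    obtain ⟨i, hi, rfl⟩ := hx
    rw [Matrix.SpecialLinearGroup.coe_mul, Matrix.mul_assoc, ih, step i hi]
  | inv_mul_cancel x hx y _ ih =>
    obtain ⟨i, hi, rfl⟩ := hx
    rw [inv_eq_of_mul_eq_one_right (pCtx.τ_sq i), Matrix.SpecialLinearGroup.coe_mul, Matrix.mul_assoc, ih, step i hi]

theorem card_pTwo : 31 * (15 * 21504) ≤ Nat.card (Subgroup.closure (pTwo.τ '' Set.Iio 6)) := by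
  have hk := l5Orbit_ok
  simp only [l5OrbitOK, Bool.and_eq_true, List.all_eq_true, List.mem_range, Nat.beq_eq, blt_iff,
    Bool.not_eq_true', ← Bool.not_eq_true] at hk
  obtain ⟨-, hp⟩ := hk
  set A := Subgroup.closure (pCtx.τ '' Set.Iio 5)
  set A6 := Subgroup.closure (pTwo.τ '' Set.Iio 6)
  have hA : A ≤ A6 := (Subgroup.closure_le _).mpr (by
    rintro _ ⟨i, hi, rfl⟩
    exact Subgroup.subset_closure ⟨i, Nat.lt_succ_of_lt hi, by simp [Two.τ, pTwo, show i < 5 from hi]⟩)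
  have hw : ∀ a < 31, pTwo.ev (l5Path.getD a []) ∈ A6 := fun a ha =>
    Subgroup.list_prod_mem _ fun x hx => by
      obtain ⟨i, hi, rfl⟩ := List.mem_map.mp hx
      exact Subgroup.subset_closure ⟨i, (hp a ha).1 i hi, rfl⟩
  let f : Fin 31 × A → A6 := fun p => ⟨pTwo.ev (l5Path.getD p.1.1 []) * p.2.1, mul_mem (hw _ p.1.2) (hA p.2.2)⟩
  have hinj : Function.Injective f := by
    rintro ⟨a, x⟩ ⟨b, y⟩ h
    have h' : pTwo.ev (l5Path.getD a.1 []) * x.1 = pTwo.ev (l5Path.getD b.1 []) * y.1 := congrArg Subtype.val h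
    have hm := congrArg (fun g : SL5 => (g : Matrix (Fin 5) (Fin 5) (ZMod 2)) * mat l5V) h'
    simp only [Matrix.SpecialLinearGroup.coe_mul, Matrix.mul_assoc, pModel_fix x.2, pModel_fix y.2] at hm
    rw [pTwo_ev _ (hp _ a.2).1, pTwo_ev _ (hp _ b.2).1, mat_mulF, mat_mulF] at hm
    have he := mat_injective (mulF_lt _ _) (mulF_lt _ _) hm
    have hab : a = b := by
      rcases Nat.lt_trichotomy a.1 b.1 with hl | hl | hl
      · exact absurd he.symm ((hp _ b.2).2 a.1 hl)
      · exact Fin.ext hl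
      · exact absurd he ((hp _ a.2).2 b.1 hl)
    subst hab
    exact Prod.ext rfl (Subtype.ext (mul_left_cancel h'))
  calc 31 * (15 * 21504) ≤ 31 * Nat.card A := Nat.mul_le_mul_left _ card_pModel
    _ = Nat.card (Fin 31 × A) := by rw [Nat.card_prod, Nat.card_eq_fintype_card (α := Fin 31), Fintype.card_fin]
    _ ≤ _ := Nat.card_le_card_of_injective f hinj

theorem card_SL52 : Nat.card SL5 = 31 * (15 * 21504) := by
  have h := SLCard.card_units_mul_card_SL (F := ZMod 2) (n := 5) (by norm_num)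
  rw [Matrix.card_GL_field, ZMod.card] at h
  simp [Fin.prod_univ_five, -Nat.card_eq_fintype_card] at h
  exact h

theorem pTwo_top : Subgroup.closure (pTwo.τ '' Set.Iio 6) = ⊤ :=
  Subgroup.eq_top_of_le_card _ (card_SL52 ▸ card_pTwo)

/-- The general linear group of dimension five maps into the group. -/
theorem exists_l5Hom (T : Two G) : ∃ (T' : Two G) (θ : SL5 →* G), T'.A = T.A ∧ Function.Injective θ ∧
    ∀ i < 6, θ (pTwo.τ i) = T'.τ i := by
  obtain ⟨T', hA, hc⟩ := T.exists_comm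
  set S := Subgroup.closure (T'.pair '' Set.Iio 6)
  obtain ⟨hfin, hcard⟩ := T'.card_pair hc
  let π : S →* SL5 := (MonoidHom.fst _ _).comp S.subtype
  have hsurj : Function.Surjective π := by
    intro g
    have : Subgroup.closure (pTwo.τ '' Set.Iio 6) ≤ π.range := (Subgroup.closure_le _).mpr (by
      rintro _ ⟨i, hi, rfl⟩
      exact ⟨⟨T'.pair i, Subgroup.subset_closure ⟨i, hi, rfl⟩⟩, rfl⟩)
    exact this (pTwo_top ▸ Subgroup.mem_top g)
  have hbij : Function.Bijective π := (Nat.bijective_iff_surjective_and_card π).mpr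
    ⟨hsurj, le_antisymm (hcard.trans_eq card_SL52.symm) (Nat.card_le_card_of_surjective π hsurj)⟩
  let e := MulEquiv.ofBijective π hbij
  let θ : SL5 →* G := ((MonoidHom.snd _ _).comp S.subtype).comp e.symm.toMonoidHom
  have hθ : ∀ i < 6, θ (pTwo.τ i) = T'.τ i := by
    intro i hi
    show ((e.symm (π ⟨T'.pair i, Subgroup.subset_closure ⟨i, hi, rfl⟩⟩)).1).2 = T'.τ i
    rw [show e.symm (π ⟨T'.pair i, Subgroup.subset_closure ⟨i, hi, rfl⟩⟩) = ⟨T'.pair i,
      Subgroup.subset_closure ⟨i, hi, rfl⟩⟩ from e.symm_apply_apply ⟨T'.pair i, Subgroup.subset_closure ⟨i, hi, rfl⟩⟩]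
    rfl
  refine ⟨T', θ, hA, ?_, hθ⟩
  haveI := SLPerfect.isSimpleGroup (n := 5) (F := ZMod 2) (by norm_num)
  have hN := (inferInstance : θ.ker.Normal).map (QuotientGroup.mk' (Subgroup.center SL5))
    (QuotientGroup.mk'_surjective _)
  have hcen : Subgroup.center SL5 = ⊥ := by
    rw [Subgroup.eq_bot_iff_forall]
    intro g hg
    obtain ⟨r, hr, e⟩ := Matrix.SpecialLinearGroup.mem_center_iff.1 hg
    have hr1 : r = 1 := (show ∀ r : ZMod 2, r ^ Fintype.card (Fin 5) = 1 → r = 1 by decide) r hr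
    exact Subtype.ext (by rw [← e, hr1, map_one, Matrix.SpecialLinearGroup.coe_one])
  rw [← MonoidHom.ker_eq_bot_iff]
  rcases hN.eq_bot_or_eq_top with h | h
  · rw [Subgroup.map_eq_bot_iff, QuotientGroup.ker_mk', hcen, le_bot_iff] at h
    exact h
  · exfalso
    have htop : θ.ker = ⊤ := by
      rw [Subgroup.eq_top_iff']
      intro g
      obtain ⟨k, hk, e⟩ := (h ▸ Subgroup.mem_top (QuotientGroup.mk' (Subgroup.center SL5) g) :
        QuotientGroup.mk' (Subgroup.center SL5) g ∈ θ.ker.map (QuotientGroup.mk' (Subgroup.center SL5)))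
      rw [QuotientGroup.mk'_apply, QuotientGroup.mk'_apply, QuotientGroup.eq, hcen, Subgroup.mem_bot,
        inv_mul_eq_one] at e
      exact e ▸ hk
    have hs : θ (pTwo.τ 4) = 1 := MonoidHom.mem_ker.mp (htop ▸ Subgroup.mem_top _)
    rw [hθ 4 (by norm_num)] at hs
    have : T'.A.s = 1 := by simpa [Two.τ, Ctx.τ] using hs
    have hz := T'.A.s_z
    rw [this, one_mul, inv_one, mul_one, ← T'.A.map_Zh] at hz
    exact absurd (T'.A.inj hz) (fun e => absurd ((Zh_code.eq_iff hasCode_Xh).mp e) (by decide))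

end CfsgLib.HeldRecog
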