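/-
The last automorphism on both sides: the group is the general linear group of dimension five.
-/
import Cfsg.Agent.Lib.HeldRecog.L5Hom
import Cfsg.Agent.Lib.HeldRecog.RowsL5

set_option autoImplicit false
set_option maxRecDepth 100000

namespace CfsgLib.HeldRecog

open CfsgLib.CosetEnum CfsgLib.HeCent

local notation "SL5" => Matrix.SpecialLinearGroup (Fin 5) (ZMod 2)

/-- A subgroup containing the centraliser and carrying the central involution to the fused classes. -/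
noncomputable def Emb.topOf {G : Type*} [Group G] (D : Emb G) (G0 : Subgroup G) (hφ : ∀ x, D.φ x ∈ G0)
    {zc : List ℕ} (hz : ∀ j ∈ zc, ∃ g ∈ G0, g * D.z * g⁻¹ = D.φ (rep j))
    (hnz : ∀ j < 8, j ∉ zc → ¬ D.IsZ (D.φ (rep j))) : Top G where
  toEmb := D
  G0 := G0
  φ_mem := hφ
  fus := by
    intro x hx
    have h2 : x * x = 1 := D.inj (by rw [map_mul, map_one]; exact D.isZ_sq hx)
    have h1 : x ≠ 1 := by rintro rfl; rw [map_one] at hx; exact D.not_isZ_one hx
    obtain ⟨j, hj, y, rfl⟩ := inv_cases h2 h1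
    have hjz : j ∈ zc := by
      by_contra hn
      rw [map_mul, map_mul, map_inv, D.isZ_conj_iff] at hx
      exact hnz j hj hn hx
    obtain ⟨g, hg, e⟩ := hz j hjz
    exact ⟨D.φ y * g, mul_mem (hφ y) hg, by rw [map_mul, map_mul, map_inv, ← e]; group⟩

/-- The code of a word in the six letters. -/
noncomputable def code6 (w : List ℕ) : ℕ := evC (fun j => if j < 5 then pLet j else pLetT 4) w

/-- The word carries the first code to the second under conjugation. -/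
noncomputable def conj6B (w : List ℕ) (c d : ℕ) : Bool :=
  (w.all fun i => Nat.blt i 6) && Nat.beq (mulF (code6 w) c) (mulF d (code6 w))

/-- The word carries each of the first list to one of the second and conversely. -/
noncomputable def lists6B (w : List ℕ) (L M : List ℕ) : Bool :=
  (L.all fun c => M.any fun d => conj6B w c d) && M.all fun d => L.any fun c => conj6B w c d

/-- The checks of the witnesses. -/
noncomputable def l5EndOK : Bool :=
  (l5Zc.all fun k => conj6B (l5ZW.getD k []) sCode (clsCode k)) &&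
    conj6B (l5NW.getD 5 []) (clsCode 5) (clsCode 0) && conj6B (l5NW.getD 7 []) (clsCode 7) (clsCode 0)

/-- The row with a given index. -/
def l5Row (j : ℕ) : PairRow := l5Rows.getD j ⟨0, 0, 0, 0, 0, []⟩

/-- The checks of the external rows. -/
noncomputable def l5ExtOK : Bool :=
  Nat.beq l5Rows.length 50 && lists6B (l5PW.getD 0 []) (rowL (l5Row 5)) (rowL (l5Row 33)) &&
    lists6B (l5PW.getD 1 []) (rowL (l5Row 5)) (rowL (l5Row 36)) &&
    noTransB l5Zc (rowL (l5Row 5)) && noTransB l5Zc (rowL (l5Row 33)) && noTransB l5Zc (rowL (l5Row 36)) &&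
    !Nat.beq (commCount (l5Row 5).k (rowL (l5Row 5))) (commCount (l5Row 33).k (rowL (l5Row 33))) &&
    !Nat.beq (commCount (l5Row 5).k (rowL (l5Row 5))) (commCount (l5Row 36).k (rowL (l5Row 36))) &&
    (List.range 50).all fun j => Nat.blt (l5Row j).kind 2 || Nat.beq j 5 || Nat.beq j 33 || Nat.beq j 36

theorem l5End_ok : l5EndOK = true := by decide +kernel

theorem l5Ext_ok : l5ExtOK = true := by decide +kernel

theorem pTwo_φ_mem (x : HS) : ∃ w : List ℕ, (∀ i ∈ w, i < 4) ∧ pTwo.ev w = (x : SL5) ∧ wEl w = x := by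
  obtain ⟨w, rfl⟩ := exists_word x
  induction w with
  | nil => exact ⟨[], by simp, rfl, rfl⟩
  | cons i w ih =>
    obtain ⟨v, hv, e, e'⟩ := ih
    by_cases hi : i < 4
    · refine ⟨i :: v, fun j hj => (List.mem_cons.mp hj).elim (fun h => h ▸ hi) (hv j), ?_, ?_⟩
      · rw [pTwo.ev_cons, e, show wEl (i :: w) = gen i * wEl w by simp [wEl], Subgroup.coe_mul,
          show pTwo.τ i = (gen i : SL5) by
            simp [Two.τ, pTwo, Ctx.τ, hi, Nat.lt_succ_of_lt hi]; rfl]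
      · rw [show wEl (i :: v) = gen i * wEl v by simp [wEl], e']; simp [wEl]
    · exact ⟨v, hv, by rw [e]; simp [wEl, gen, hi], by rw [e']; simp [wEl, gen, hi]⟩

variable {G : Type} [Group G]

theorem Two.θ_ev {T : Two G} {θ : SL5 →* G} (hθ : ∀ i < 6, θ (pTwo.τ i) = T.τ i) :
    ∀ w : List ℕ, (∀ i ∈ w, i < 6) → θ (pTwo.ev w) = T.ev w
  | [], _ => by simp [Two.ev]
  | i :: w, h => by
    rw [pTwo.ev_cons, T.ev_cons, map_mul, hθ i (h i List.mem_cons_self),
      Two.θ_ev hθ w fun j hj => h j (List.mem_cons_of_mem _ hj)]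

theorem Two.θ_φ {T : Two G} {θ : SL5 →* G} (hθ : ∀ i < 6, θ (pTwo.τ i) = T.τ i) (x : HS) :
    θ (x : SL5) = T.A.φ x := by
  obtain ⟨w, hw, e, e'⟩ := pTwo_φ_mem x
  rw [← e, Two.θ_ev hθ w fun i hi => Nat.lt_of_lt_of_le (hw i hi) (by norm_num), T.ev_lt hw, e']

theorem Two.conj6 {T : Two G} {θ : SL5 →* G} (hθ : ∀ i < 6, θ (pTwo.τ i) = T.τ i) {w : List ℕ} {c d : ℕ}
    (h : conj6B w c d = true) {x y : HS} (hx : HasCode x c) (hy : HasCode y d) :
    θ (pTwo.ev w) * T.A.φ x * (θ (pTwo.ev w))⁻¹ = T.A.φ y := by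
  simp only [conj6B, Bool.and_eq_true, List.all_eq_true, blt_iff, Nat.beq_eq] at h
  rw [← Two.θ_φ hθ x, ← Two.θ_φ hθ y, mul_inv_eq_iff_eq_mul, ← map_mul, ← map_mul]
  refine congrArg θ (Subtype.ext ?_)
  rw [Matrix.SpecialLinearGroup.coe_mul, Matrix.SpecialLinearGroup.coe_mul, pTwo_ev w h.1]
  show mat _ * mx x = mx y * mat _
  rw [hx.1, hy.1, mat_mulF, mat_mulF]
  exact congrArg mat h.2

variable [Finite G]

/-- With exchanging elements of the last kind on both sides the group is the general linear group. -/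
theorem l5_iso (T : Two G) : Nonempty (G ≃* SL5) := by
  obtain ⟨T, θ, -, hinj, hθ⟩ := exists_l5Hom T
  have hk := l5End_ok
  simp only [l5EndOK, Bool.and_eq_true, List.all_eq_true] at hk
  obtain ⟨⟨hzw, hn5⟩, hn7⟩ := hk
  have hφ : ∀ x, T.A.φ x ∈ θ.range := fun x => ⟨_, Two.θ_φ hθ x⟩
  have hz : ∀ k ∈ l5Zc, ∃ g ∈ θ.range, g * T.A.z * g⁻¹ = T.A.φ (rep k) := fun k hk => by
    refine ⟨θ (pTwo.ev (l5ZW.getD k [])), ⟨_, rfl⟩, ?_⟩
    rw [← T.A.map_Zh]
    exact Two.conj6 hθ (hzw k hk) Zh_code (rep_hasCode (by revert hk; revert k; decide))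
  have hnz : ∀ k < 8, k ∉ l5Zc → ¬ T.A.toEmb.IsZ (T.A.φ (rep k)) := by
    intro k hk hkz
    by_cases h2 : k < 2
    · exact T.A.toEmb.not_small h2
    · have key : conj6B (l5NW.getD k []) (clsCode k) (clsCode 0) = true := by
        obtain rfl | rfl : k = 5 ∨ k = 7 := by
          interval_cases k <;> simp [l5Zc] at hkz ⊢
        exacts [hn5, hn7]
      intro h
      refine T.A.toEmb.not_small (k := 0) (by norm_num) ?_
      rw [← Two.conj6 hθ key (rep_hasCode hk) (rep_hasCode (by norm_num))]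
      exact T.A.toEmb.isZ_conj h _
  set U := T.A.toEmb.topOf θ.range hφ hz hnz with hU
  have K : Case U l5Zc := ⟨by decide, by decide, fun j hj => (hz j hj).imp fun _ h => h.2, hnz⟩
  have he := l5Ext_ok
  simp only [l5ExtOK, Bool.and_eq_true, Bool.not_eq_true', ← Bool.not_eq_true, Nat.beq_eq, List.all_eq_true,
    List.mem_range, Bool.or_eq_true, blt_iff] at he
  obtain ⟨⟨⟨⟨⟨⟨⟨⟨hlen, hl33⟩, hl36⟩, hn5'⟩, hn33⟩, hn36⟩, hne33⟩, hne36⟩, hkind⟩ := he
  have hrow : ∀ j < 50, l5Row j ∈ l5Rows := fun j hj => getD_mem (hlen.symm ▸ hj) _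
  have hfac : ∀ j < 50, (l5Row j).k < 8 ∧ pureOK l5Zc (rowL (l5Row j)) = true ∧
      clsCode (l5Row j).k ∈ rowL (l5Row j) := fun j hj =>
    ⟨(Case.row_facts (Case.rowB_of l5CaseOK (hrow j hj))).1,
      (Case.row_facts (Case.rowB_of l5CaseOK (hrow j hj))).2.1,
      (Case.row_facts (Case.rowB_of l5CaseOK (hrow j hj))).2.2.1⟩
  have move : ∀ {w : List ℕ} {j : ℕ}, j < 50 → lists6B w (rowL (l5Row 5)) (rowL (l5Row j)) = true →
      θ (pTwo.ev w) ∈ U.G0 ∧
      (∀ p ∈ pSub U (rowL (l5Row 5)), θ (pTwo.ev w) * p * (θ (pTwo.ev w))⁻¹ ∈ pSub U (rowL (l5Row j))) ∧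
      ∀ p ∈ pSub U (rowL (l5Row j)), (θ (pTwo.ev w))⁻¹ * p * θ (pTwo.ev w) ∈ pSub U (rowL (l5Row 5)) := by
    intro w j hj h
    simp only [lists6B, Bool.and_eq_true, List.all_eq_true, List.any_eq_true] at h
    have hL := (hfac 5 (by norm_num)).2.1
    have hM := (hfac j hj).2.1
    refine ⟨⟨_, rfl⟩, fun p hp => ?_, fun p hp => ?_⟩
    · obtain ⟨x, ⟨c, hc, hx⟩, rfl⟩ := (mem_pSub hL).mp hp
      obtain ⟨d, hd, hcd⟩ := h.1 c hc
      obtain ⟨y, hy⟩ := exists_code hM hd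
      show θ (pTwo.ev w) * T.A.φ x * _ ∈ _
      rw [Two.conj6 hθ hcd hx hy]
      exact (mem_pSub hM).mpr ⟨y, ⟨d, hd, hy⟩, rfl⟩
    · obtain ⟨y, ⟨d, hd, hy⟩, rfl⟩ := (mem_pSub hM).mp hp
      obtain ⟨c, hc, hcd⟩ := h.2 d hd
      obtain ⟨x, hx⟩ := exists_code hL hc
      show _ * T.A.φ y * _ ∈ _
      rw [← Two.conj6 hθ hcd hx hy, show ∀ a b : G, a⁻¹ * (a * b * a⁻¹) * a = b from fun a b => by group]
      exact (mem_pSub hL).mpr ⟨x, ⟨c, hc, hx⟩, rfl⟩
  obtain ⟨a8, aL, ak⟩ := hfac 5 (by norm_num)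
  have a6 := (Case.k_ne_six K l5Gens (hrow 5 (by norm_num))).1
  have ext : ∀ {j : ℕ} {w : List ℕ}, j < 50 → lists6B w (rowL (l5Row 5)) (rowL (l5Row j)) = true →
      noTransB l5Zc (rowL (l5Row j)) = true →
      commCount (l5Row 5).k (rowL (l5Row 5)) ≠ commCount (l5Row j).k (rowL (l5Row j)) →
      (∀ l, Top.Cn (pSub U (rowL (l5Row 5))) l → l ∈ U.G0) ∧
        ∀ l, Top.Cn (pSub U (rowL (l5Row j))) l → l ∈ U.G0 := by
    intro j w hj hw hn hne
    obtain ⟨b8, bL, bk⟩ := hfac j hj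
    have b6 := (Case.k_ne_six K l5Gens (hrow j hj)).1
    obtain ⟨hg, hto, hfrom⟩ := move hj hw
    exact ⟨K.cent_conj a8 a6 b8 b6 aL bL ak bk (Case.next_row K l5CaseOK l5Gens (hrow 5 (by norm_num))) hn5' hne
        (inv_mem hg) (fun p hp => by rw [inv_inv]; exact hfrom p hp) (fun p hp => by rw [inv_inv]; exact hto p hp),
      K.cent_conj b8 b6 a8 a6 bL aL bk ak (Case.next_row K l5CaseOK l5Gens (hrow j hj)) hn hne.symm hg hto hfrom⟩
  have x33 := ext (by norm_num) hl33 hn33 hne33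
  have x36 := ext (by norm_num) hl36 hn36 hne36
  have hext : ∀ e ∈ l5Rows, 2 ≤ e.kind → ∀ l, Top.Cn (pSub U (rowL e)) l → l ∈ U.G0 := by
    intro e he hk2
    obtain ⟨j, hj, rfl⟩ := List.getElem_of_mem he
    rw [hlen] at hj
    rw [← List.getD_eq_getElem _ ⟨0, 0, 0, 0, 0, []⟩] at hk2 ⊢
    rcases hkind j hj with ((h | rfl) | rfl) | rfl
    · exact absurd hk2 (Nat.not_le.mpr h)
    · exact x33.1
    · exact x33.2
    · exact x36.2
  have h00 : ¬ U.IsZ (U.φ (rep 0)) := K.hnz 0 (by norm_num) (by decide)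
  have hsq : rep 0 * rep 0 = 1 :=
    (((rep_hasCode (k := 0) (by norm_num)).mul (rep_hasCode (by norm_num))).eq_iff HasCode.one).mpr (by decide +kernel)
  have htop : U.G0 = ⊤ := U.eq_top (U.φ_mem (rep 0)) (by rw [← map_mul, hsq, map_one]) h00
    (fun e => Case.clsCode_ne 0 (by norm_num) ((rep_hasCode (k := 0) (by norm_num)).eq
      (U.inj (e.trans (map_one U.φ).symm) ▸ HasCode.one)))
    fun i hi0 hi hi1 hiz g hg => K.single_inv l5CaseOK l5Gens hext hi0 hi hi1 hiz hg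
  have hsurj : Function.Surjective θ := fun g =>
    MonoidHom.mem_range.mp (show g ∈ U.G0 from htop.symm ▸ Subgroup.mem_top g)
  exact ⟨(MulEquiv.ofBijective θ ⟨hinj, hsurj⟩).symm⟩

end CfsgLib.HeldRecog
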