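/-
Data for the enumeration leading to the largest Mathieu group.
-/
import Mathlib.Data.Nat.Notation
import Mathlib.Data.List.Basic

set_option autoImplicit false
set_option maxRecDepth 100000

namespace CfsgLib.HeldRecog

/-- Origins of the relators. -/
def m24Prov : List (ℕ × List ℕ × List ℕ × List (List ℕ × List ℕ)) := [(0, [], [], []),
  (0, [], [], []),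
  (0, [], [], []),
  (0, [], [], []),
  (0, [], [], []),
  (1, [], [], []),
  (1, [], [], []),
  (1, [], [], []),
  (1, [], [], []),
  (1, [], [], []),
  (1, [], [], []),
  (1, [], [], []),
  (1, [], [], []),
  (1, [], [], []),
  (3, [], [], [([1, 2, 0, 3, 1, 0, 3], [1, 3, 2, 0, 3, 1, 3]), ([3, 0, 1, 3, 0, 1, 2], [3, 1, 3, 0, 2, 3, 1])]),
  (3, [], [], [([2, 1, 0, 3, 1, 0, 3], [1, 3, 2, 0, 3, 1, 3]), ([3, 0, 1, 3, 0, 1, 2], [3, 1, 3, 0, 2, 3, 1])]),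
  (3, [], [], [([1, 2, 0, 3, 1, 0, 3], [1, 3, 2, 0, 3, 1, 3]), ([3, 0, 1, 3, 0, 2, 1], [3, 1, 3, 0, 2, 3, 1])]),
  (3, [], [], [([1, 2, 3, 1, 0, 3], [0, 1, 2, 0, 3, 1, 2, 0, 3, 1]), ([3, 1, 3, 0, 1, 2, 3, 0, 3], [3, 1, 0, 2, 3, 1])]),
  (3, [], [], [([2, 1, 3, 1, 0, 3], [0, 1, 2, 0, 3, 1, 2, 0, 3, 1]), ([3, 1, 3, 0, 1, 2, 3, 0, 3], [3, 1, 0, 2, 3, 1])]),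
  (3, [], [], [([3, 0, 3, 1, 2, 0, 3, 1, 3], [1, 3, 2, 0, 1, 3]), ([3, 0, 1, 3, 1, 2], [0, 1, 3, 2, 0, 1, 2, 0, 3, 1])]),
  (3, [], [], [([3, 0, 3, 1, 2, 0, 3, 1, 3], [1, 3, 2, 0, 1, 3]), ([3, 0, 1, 3, 2, 1], [0, 1, 3, 2, 0, 1, 2, 0, 3, 1])]),
  (1, [], [], []),
  (3, [], [], [([0, 3, 0, 1, 3, 0, 3, 0, 3], [0, 2, 3, 1, 3, 2, 0]), ([0, 3, 0, 1, 0, 3, 0], [0, 2, 3, 1, 3, 2, 0])]),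
  (3, [], [], [([1, 2, 3, 1, 3], [0, 1, 0, 3, 2, 3, 0, 1, 2, 0]), ([2, 1, 3, 1, 3], [0, 1, 0, 3, 2, 3, 0, 1, 2, 0]), ([1, 2, 3, 1, 3], [0, 1, 0, 3, 2, 3, 0, 1, 2, 0])]),
  (3, [], [], [([1, 2, 3, 1, 3], [0, 1, 0, 3, 2, 3, 0, 1, 2, 0]), ([3, 1, 3, 2, 1], [0, 1, 0, 3, 2, 3, 0, 1, 2, 0]), ([1, 2, 3, 1, 3], [0, 1, 0, 3, 2, 3, 0, 1, 2, 0])]),
  (3, [], [], [([2, 1, 3, 1, 3], [0, 1, 0, 3, 2, 3, 0, 1, 2, 0]), ([2, 1, 3, 1, 3], [0, 1, 0, 3, 2, 3, 0, 1, 2, 0]), ([1, 2, 3, 1, 3], [0, 1, 0, 3, 2, 3, 0, 1, 2, 0])]),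
  (3, [], [], [([2, 1, 3, 1, 3], [0, 1, 0, 3, 2, 3, 0, 1, 2, 0]), ([3, 1, 3, 2, 1], [0, 1, 0, 3, 2, 3, 0, 1, 2, 0]), ([1, 2, 3, 1, 3], [0, 1, 0, 3, 2, 3, 0, 1, 2, 0])]),
  (3, [], [], [([3, 1, 3, 2, 1], [0, 1, 0, 3, 2, 3, 0, 1, 2, 0]), ([2, 1, 3, 1, 3], [0, 1, 0, 3, 2, 3, 0, 1, 2, 0]), ([1, 2, 3, 1, 3], [0, 1, 0, 3, 2, 3, 0, 1, 2, 0])]),
  (3, [], [], [([1, 2], [0, 2, 3, 0, 1, 0, 3, 2, 0]), ([1, 2], [0, 2, 3, 0, 1, 0, 3, 2, 0]), ([1, 2], [0, 2, 3, 0, 1, 0, 3, 2, 0]), ([2, 1], [0, 2, 3, 0, 1, 0, 3, 2, 0]), ([2, 1], [0, 2, 3, 0, 1, 0, 3, 2, 0]), ([1, 2], [0, 2, 3, 0, 1, 0, 3, 2, 0])]),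
  (3, [], [], [([1, 2], [0, 2, 3, 0, 1, 0, 3, 2, 0]), ([1, 2], [0, 2, 3, 0, 1, 0, 3, 2, 0]), ([2, 1], [0, 2, 3, 0, 1, 0, 3, 2, 0]), ([2, 1], [0, 2, 3, 0, 1, 0, 3, 2, 0]), ([2, 1], [0, 2, 3, 0, 1, 0, 3, 2, 0]), ([1, 2], [0, 2, 3, 0, 1, 0, 3, 2, 0])]),
  (1, [], [], []),
  (3, [], [], [([2, 1, 3, 1, 0, 3], [0, 1, 2, 0, 3, 1, 2, 0, 3, 1]), ([3, 1, 3, 0, 1, 2, 0, 3, 0, 3, 0], [3, 1, 0, 2, 3, 1])]),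
  (3, [], [], [([3, 0, 1, 3, 1, 2], [0, 1, 3, 2, 0, 1, 2, 0, 3, 1]), ([0, 3, 0, 3, 0, 1, 2, 0, 3, 1, 3], [1, 3, 2, 0, 1, 3])]),
  (3, [], [], [([3, 0, 1, 3, 2, 1], [0, 1, 3, 2, 0, 1, 2, 0, 3, 1]), ([0, 3, 0, 3, 0, 1, 2, 0, 3, 1, 3], [1, 3, 2, 0, 1, 3])]),
  (3, [], [], [([3, 1, 3, 1, 2, 3, 0, 3], [0, 1, 2, 0, 3, 1, 2, 0, 3, 1]), ([3, 1, 3, 0, 1, 2, 3, 0, 3], [3, 1, 0, 2, 3, 1])]),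
  (3, [], [], [([3, 1, 3, 2, 1, 3, 0, 3], [0, 1, 2, 0, 3, 1, 2, 0, 3, 1]), ([3, 1, 3, 0, 1, 2, 3, 0, 3], [3, 1, 0, 2, 3, 1])]),
  (3, [], [], [([3, 1, 3, 1, 2, 3, 0, 3], [0, 1, 2, 0, 3, 1, 2, 0, 3, 1]), ([3, 1, 3, 0, 2, 1, 3, 0, 3], [3, 1, 0, 2, 3, 1])]),
  (3, [], [], [([3, 1, 3, 2, 1, 3, 0, 3], [0, 1, 2, 0, 3, 1, 2, 0, 3, 1]), ([3, 1, 3, 0, 2, 1, 3, 0, 3], [3, 1, 0, 2, 3, 1])]),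
  (1, [], [], []),
  (3, [], [], [([1, 2, 0, 3, 1, 0, 3], [1, 3, 2, 0, 3, 1, 3]), ([3, 0, 1, 0, 3, 0, 3, 0, 3, 1, 2], [3, 1, 3, 0, 2, 3, 1])]),
  (3, [], [], [([0, 2, 1, 3, 0, 1, 0, 3, 1, 2, 0], [0, 2, 3, 1, 3, 2, 0]), ([0, 3, 0, 1, 0, 3, 0], [0, 2, 3, 1, 3, 2, 0])]),
  (3, [], [], [([3, 0, 3, 0, 3, 1, 3, 0, 3, 0, 3], [0, 2, 3, 1, 3, 2, 0]), ([0, 3, 0, 1, 0, 3, 0], [0, 2, 3, 1, 3, 2, 0])]),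
  (3, [], [], [([0], [1, 0, 2, 0, 1, 3, 2, 3, 0, 3, 2]), ([1, 2, 3, 0, 1, 0, 3], [0, 1, 2, 0, 1, 3, 2, 0, 1, 3]), ([0], [1, 0, 2, 0, 1, 3, 2, 3, 0, 3, 2]), ([3, 0, 1, 0, 3, 1, 2], [0, 1, 2, 0, 1, 3, 2, 0, 1, 3])]),
  (3, [], [], [([0], [1, 0, 2, 0, 1, 3, 2, 3, 0, 3, 2]), ([2, 1, 3, 0, 1, 0, 3], [0, 1, 2, 0, 1, 3, 2, 0, 1, 3]), ([0], [1, 0, 2, 0, 1, 3, 2, 3, 0, 3, 2]), ([3, 0, 1, 0, 3, 1, 2], [0, 1, 2, 0, 1, 3, 2, 0, 1, 3])]),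
  (3, [], [], [([0], [1, 0, 2, 0, 1, 3, 2, 3, 0, 3, 2]), ([3, 0, 1, 0, 3, 1, 2], [0, 1, 2, 0, 1, 3, 2, 0, 1, 3]), ([0], [1, 0, 2, 0, 1, 3, 2, 3, 0, 3, 2]), ([3, 0, 1, 0, 3, 1, 2], [0, 1, 2, 0, 1, 3, 2, 0, 1, 3])]),
  (3, [], [], [([0], [1, 0, 2, 0, 1, 3, 2, 3, 0, 3, 2]), ([3, 0, 1, 0, 3, 2, 1], [0, 1, 2, 0, 1, 3, 2, 0, 1, 3]), ([0], [1, 0, 2, 0, 1, 3, 2, 3, 0, 3, 2]), ([3, 0, 1, 0, 3, 1, 2], [0, 1, 2, 0, 1, 3, 2, 0, 1, 3])]),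
  (3, [], [], [([0], [1, 0, 2, 0, 1, 3, 2, 3, 0, 3, 2]), ([1, 2, 3, 0, 1, 0, 3], [0, 1, 2, 0, 1, 3, 2, 0, 1, 3]), ([0], [1, 0, 2, 0, 1, 3, 2, 3, 0, 3, 2]), ([3, 0, 1, 0, 3, 2, 1], [0, 1, 2, 0, 1, 3, 2, 0, 1, 3])]),
  (3, [], [], [([0], [1, 0, 2, 0, 1, 3, 2, 3, 0, 3, 2]), ([3, 0, 1, 0, 3, 2, 1], [0, 1, 2, 0, 1, 3, 2, 0, 1, 3]), ([0], [1, 0, 2, 0, 1, 3, 2, 3, 0, 3, 2]), ([3, 0, 1, 0, 3, 2, 1], [0, 1, 2, 0, 1, 3, 2, 0, 1, 3])]),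
  (3, [], [], [([3, 1, 0, 1, 3, 0, 1, 2, 0], [1, 2, 3, 0, 1, 2]), ([0, 1, 2, 0, 1, 2, 0, 1, 2], [0, 1, 2, 0, 1, 2, 0, 3, 2, 3, 1])]),
  (3, [], [], [([3, 1, 0, 1, 3, 0, 2, 1, 0], [1, 2, 3, 0, 1, 2]), ([0, 1, 2, 0, 1, 2, 0, 1, 2], [0, 1, 2, 0, 1, 2, 0, 3, 2, 3, 1])]),
  (3, [], [], [([3, 1, 0, 1, 3, 0, 1, 2, 0], [1, 2, 3, 0, 1, 2]), ([0, 1, 2, 0, 1, 2, 0, 2, 1], [0, 1, 2, 0, 1, 2, 0, 3, 2, 3, 1])]),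
  (3, [], [], [([3, 1, 0, 1, 3, 0, 2, 1, 0], [1, 2, 3, 0, 1, 2]), ([0, 1, 2, 0, 1, 2, 0, 2, 1], [0, 1, 2, 0, 1, 2, 0, 3, 2, 3, 1])]),
  (3, [], [], [([0, 1, 2, 0, 3, 1, 0, 1, 3], [1, 2, 0, 3, 1, 2]), ([1, 2, 0, 1, 2, 0, 1, 2, 0], [0, 1, 2, 0, 1, 3, 2, 3, 0, 1, 2])]),
  (3, [], [], [([0, 1, 2, 0, 3, 1, 0, 1, 3], [1, 2, 0, 3, 1, 2]), ([2, 1, 0, 1, 2, 0, 1, 2, 0], [0, 1, 2, 0, 1, 3, 2, 3, 0, 1, 2])]),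
  (3, [], [], [([0, 2, 1, 0, 3, 1, 0, 1, 3], [1, 2, 0, 3, 1, 2]), ([1, 2, 0, 1, 2, 0, 1, 2, 0], [0, 1, 2, 0, 1, 3, 2, 3, 0, 1, 2])]),
  (3, [], [], [([0, 2, 1, 0, 3, 1, 0, 1, 3], [1, 2, 0, 3, 1, 2]), ([2, 1, 0, 1, 2, 0, 1, 2, 0], [0, 1, 2, 0, 1, 3, 2, 3, 0, 1, 2])]),
  (3, [], [], [([3, 1, 0, 1, 3, 0, 2, 1, 0], [1, 2, 3, 0, 1, 2]), ([0, 2, 1, 0, 1, 2, 0, 1, 2], [0, 1, 2, 0, 1, 2, 0, 3, 2, 3, 1])]),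
  (3, [], [], [([3, 1, 0, 1, 3, 0, 1, 2, 0], [1, 2, 3, 0, 1, 2]), ([0, 1, 2, 0, 2, 1, 0, 2, 1], [0, 1, 2, 0, 1, 2, 0, 3, 2, 3, 1])]),
  (3, [], [], [([0, 1, 2, 0], [1, 3, 2, 3, 0, 3, 2, 3, 1]), ([0, 1, 2, 0], [1, 3, 2, 3, 0, 3, 2, 3, 1]), ([0, 2, 1, 0], [1, 3, 2, 3, 0, 3, 2, 3, 1]), ([0, 1, 2, 0], [1, 3, 2, 3, 0, 3, 2, 3, 1])]),
  (3, [], [], [([0, 1, 2, 0], [1, 3, 2, 3, 0, 3, 2, 3, 1]), ([0, 2, 1, 0], [1, 3, 2, 3, 0, 3, 2, 3, 1]), ([0, 2, 1, 0], [1, 3, 2, 3, 0, 3, 2, 3, 1]), ([0, 1, 2, 0], [1, 3, 2, 3, 0, 3, 2, 3, 1])]),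
  (3, [], [], [([3, 1, 3, 0, 3, 1, 3], [2, 0, 1, 2, 3, 0, 2, 3]), ([3, 0, 3, 1, 2, 0, 1, 2, 3, 0, 3], [0, 2, 3, 1, 0, 3])]),
  (3, [], [], [([3, 1, 3, 0, 3, 1, 3], [2, 0, 1, 2, 3, 0, 2, 3]), ([3, 0, 3, 2, 1, 0, 1, 2, 3, 0, 3], [0, 2, 3, 1, 0, 3])]),
  (3, [], [], [([3, 0, 3], [2, 3, 2]), ([1, 2, 0, 3, 1, 3], [2, 0, 1, 3, 0, 3]), ([0, 1, 2, 3, 1, 0, 3, 0], [1, 0, 2, 3, 0, 3, 1, 3, 2])]),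
  (3, [], [], [([3, 0, 3], [2, 3, 2]), ([2, 1, 0, 3, 1, 3], [2, 0, 1, 3, 0, 3]), ([0, 1, 2, 3, 1, 0, 3, 0], [1, 0, 2, 3, 0, 3, 1, 3, 2])]),
  (3, [], [], [([0, 3, 1, 3], [2, 3, 1, 0, 2, 3, 1, 0, 2]), ([0], [1, 0, 2, 0, 1, 3, 2, 3, 0, 3, 2]), ([0], [1, 0, 2, 0, 1, 3, 2, 3, 0, 3, 2]), ([0, 3, 1, 0, 1, 3], [1, 0, 3, 2, 0, 1, 2, 0, 2]), ([0, 1, 2], [0, 1, 2, 3])]),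
  (3, [], [], [([1, 2, 0, 3, 1, 0, 3], [1, 3, 2, 0, 3, 1, 3]), ([0, 3, 0, 3, 0, 3, 1, 3, 0, 1, 2], [3, 1, 3, 0, 2, 3, 1])]),
  (3, [], [], [([1, 2, 0, 3, 1, 3, 0, 3, 0, 3, 0], [1, 3, 2, 0, 3, 1, 3]), ([3, 0, 1, 3, 0, 1, 2], [3, 1, 3, 0, 2, 3, 1])]),
  (3, [], [], [([2, 1, 0, 3, 1, 0, 3], [1, 3, 2, 0, 3, 1, 3]), ([0, 3, 0, 3, 0, 3, 1, 3, 0, 1, 2], [3, 1, 3, 0, 2, 3, 1])]),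
  (3, [], [], [([3, 0, 3], [2, 3, 2]), ([0, 3, 0, 1, 3, 1, 2, 0], [1, 0, 3, 2, 3, 0, 1, 3, 2]), ([3, 1, 3, 0, 1, 2], [3, 0, 3, 1, 0, 2])]),
  (3, [], [], [([3, 0, 3], [2, 3, 2]), ([1, 2, 0, 1, 2], [0, 3, 2, 3, 1, 3, 0, 3]), ([3, 0, 3], [2, 3, 2]), ([2, 1, 0, 1, 2], [0, 3, 2, 3, 1, 3, 0, 3])]),
  (3, [], [], [([3, 0, 3], [2, 3, 2]), ([1, 2, 0, 2, 1], [0, 3, 2, 3, 1, 3, 0, 3]), ([3, 0, 3], [2, 3, 2]), ([1, 2, 0, 1, 2], [0, 3, 2, 3, 1, 3, 0, 3])]),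
  (3, [], [], [([3, 0, 3], [2, 3, 2]), ([1, 2, 0, 2, 1], [0, 3, 2, 3, 1, 3, 0, 3]), ([3, 0, 3], [2, 3, 2]), ([2, 1, 0, 1, 2], [0, 3, 2, 3, 1, 3, 0, 3])]),
  (3, [], [], [([3, 0, 3], [2, 3, 2]), ([2, 1, 0, 2, 1], [0, 3, 2, 3, 1, 3, 0, 3]), ([3, 0, 3], [2, 3, 2]), ([1, 2, 0, 1, 2], [0, 3, 2, 3, 1, 3, 0, 3])]),
  (3, [], [], [([1, 2, 0, 3, 1, 3, 0, 3, 0, 3, 0], [1, 3, 2, 0, 3, 1, 3]), ([3, 0, 1, 3, 0, 2, 1], [3, 1, 3, 0, 2, 3, 1])]),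
  (3, [], [], [([3, 0, 3, 0, 3, 1, 0, 3, 0], [0, 2, 3, 1, 3, 2, 0]), ([0, 3, 0, 1, 3, 0, 3, 0, 3], [0, 2, 3, 1, 3, 2, 0])]),
  (3, [], [], [([0], [1, 0, 2, 0, 1, 3, 2, 3, 0, 3, 2]), ([0], [1, 0, 2, 0, 1, 3, 2, 3, 0, 3, 2]), ([3, 1, 3, 0], [2, 0, 1, 3, 2, 0, 1, 3, 2]), ([1, 2, 0], [3, 1, 2, 0]), ([3, 1, 0, 1, 3, 0], [1, 2, 0, 1, 3, 2, 0, 1, 2])]),
  (3, [], [], [([3, 1, 3, 0, 2, 1], [3, 0, 3, 1, 0, 2]), ([3, 0, 3], [2, 3, 2]), ([0, 3, 0, 1, 3, 1, 2, 0], [1, 0, 3, 2, 3, 0, 1, 3, 2])]),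
  (3, [], [], [([1, 2], [0, 2, 3, 0, 1, 0, 3, 2, 0]), ([1, 2], [0, 2, 3, 0, 1, 0, 3, 2, 0]), ([3, 1, 0, 3], [0, 2, 3, 2, 3, 0, 3, 1]), ([0], [1, 0, 2, 0, 1, 3, 2, 3, 0, 3, 2]), ([0], [1, 0, 2, 0, 1, 3, 2, 3, 0, 3, 2]), ([3, 0, 1, 3], [1, 0, 2, 3, 2, 3, 0, 3])]),
  (3, [], [], [([1, 2], [0, 2, 3, 0, 1, 0, 3, 2, 0]), ([2, 1], [0, 2, 3, 0, 1, 0, 3, 2, 0]), ([3, 1, 0, 3], [0, 2, 3, 2, 3, 0, 3, 1]), ([0], [1, 0, 2, 0, 1, 3, 2, 3, 0, 3, 2]), ([0], [1, 0, 2, 0, 1, 3, 2, 3, 0, 3, 2]), ([3, 0, 1, 3], [1, 0, 2, 3, 2, 3, 0, 3])]),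
  (3, [], [], [([2, 1], [0, 2, 3, 0, 1, 0, 3, 2, 0]), ([1, 2], [0, 2, 3, 0, 1, 0, 3, 2, 0]), ([3, 1, 0, 3], [0, 2, 3, 2, 3, 0, 3, 1]), ([0], [1, 0, 2, 0, 1, 3, 2, 3, 0, 3, 2]), ([0], [1, 0, 2, 0, 1, 3, 2, 3, 0, 3, 2]), ([3, 0, 1, 3], [1, 0, 2, 3, 2, 3, 0, 3])]),
  (3, [], [], [([3, 0, 3, 1, 2, 3, 0, 1, 3], [0, 1, 2, 0, 1, 2, 0, 3, 1, 3]), ([3, 0, 3, 1, 2, 3, 0, 1, 3], [0, 1, 2, 0, 1, 2, 0, 3, 1, 3])]),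
  (3, [], [], [([3, 0, 3, 1, 2, 3, 0, 1, 3], [0, 1, 2, 0, 1, 2, 0, 3, 1, 3]), ([3, 0, 3, 2, 1, 3, 0, 1, 3], [0, 1, 2, 0, 1, 2, 0, 3, 1, 3])]),
  (3, [], [], [([3, 0, 3, 2, 1, 3, 0, 1, 3], [0, 1, 2, 0, 1, 2, 0, 3, 1, 3]), ([3, 0, 3, 2, 1, 3, 0, 1, 3], [0, 1, 2, 0, 1, 2, 0, 3, 1, 3])]),
  (3, [], [], [([3, 1, 0, 3, 1, 2, 3, 0, 3], [0, 1, 2, 0, 1, 2, 0, 3, 1, 3]), ([3, 0, 3, 1, 2, 3, 0, 1, 3], [0, 1, 2, 0, 1, 2, 0, 3, 1, 3])]),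
  (3, [], [], [([3, 1, 0, 3, 1, 2, 3, 0, 3], [0, 1, 2, 0, 1, 2, 0, 3, 1, 3]), ([3, 0, 3, 2, 1, 3, 0, 1, 3], [0, 1, 2, 0, 1, 2, 0, 3, 1, 3])]),
  (3, [], [], [([3, 1, 0, 3, 2, 1, 3, 0, 3], [0, 1, 2, 0, 1, 2, 0, 3, 1, 3]), ([3, 0, 3, 1, 2, 3, 0, 1, 3], [0, 1, 2, 0, 1, 2, 0, 3, 1, 3])]),
  (3, [], [], [([3, 1, 3, 0, 3, 1, 3], [2, 0, 1, 2, 3, 0, 2, 3]), ([3, 0, 3, 1, 2, 0, 2, 1, 3, 0, 3], [0, 2, 3, 1, 0, 3])]),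
  (3, [], [], [([0], [1, 0, 2, 0, 1, 3, 2, 3, 0, 3, 2]), ([3, 0, 3], [2, 3, 2]), ([3, 0, 3], [2, 3, 2]), ([0], [1, 0, 2, 0, 1, 3, 2, 3, 0, 3, 2]), ([3, 0, 3], [2, 3, 2]), ([3, 0, 3], [2, 3, 2])]),
  (3, [], [], [([3, 1, 3, 1, 2, 3, 0, 3], [0, 1, 2, 0, 3, 1, 2, 0, 3, 1]), ([3, 1, 3, 0, 1, 2, 0, 3, 0, 3, 0], [3, 1, 0, 2, 3, 1])]),
  (3, [], [], [([3, 1, 3, 2, 1, 3, 0, 3], [0, 1, 2, 0, 3, 1, 2, 0, 3, 1]), ([3, 1, 3, 0, 1, 2, 0, 3, 0, 3, 0], [3, 1, 0, 2, 3, 1])]),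
  (3, [], [], [([3, 0, 3, 1, 2, 3, 1, 3], [0, 1, 3, 2, 0, 1, 2, 0, 3, 1]), ([0, 3, 0, 3, 0, 1, 2, 0, 3, 1, 3], [1, 3, 2, 0, 1, 3])]),
  (3, [], [], [([3, 0, 3, 2, 1, 3, 1, 3], [0, 1, 3, 2, 0, 1, 2, 0, 3, 1]), ([0, 3, 0, 3, 0, 1, 2, 0, 3, 1, 3], [1, 3, 2, 0, 1, 3])]),
  (3, [], [], [([1, 2, 0, 1, 2], [0, 3, 2, 3, 1, 3, 0, 3]), ([2, 1, 0, 3, 1, 0, 1, 3, 0, 1, 2, 3, 0, 3], [1, 0, 2, 3, 2, 0, 1])]),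
  (3, [], [], [([1, 2, 0, 2, 1], [0, 3, 2, 3, 1, 3, 0, 3]), ([2, 1, 0, 3, 1, 0, 1, 3, 0, 1, 2, 3, 0, 3], [1, 0, 2, 3, 2, 0, 1])]),
  (3, [], [], [([2, 1, 0, 2, 1], [0, 3, 2, 3, 1, 3, 0, 3]), ([2, 1, 0, 3, 1, 0, 1, 3, 0, 1, 2, 3, 0, 3], [1, 0, 2, 3, 2, 0, 1])]),
  (3, [], [], [([2, 1, 3, 1, 0, 3], [0, 1, 2, 0, 3, 1, 2, 0, 3, 1]), ([2, 1, 3, 1, 3, 1, 2, 0, 1, 2, 3, 0, 3], [3, 1, 0, 2, 3, 1])]),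
  (3, [], [], [([3, 1, 0, 1, 3], [2, 3, 1, 3, 1, 3, 2]), ([3, 0, 3, 1, 2, 3, 0, 3, 0, 1, 2, 3, 0, 3], [0, 1, 0, 3, 0, 2, 3, 0])]),
  (2, [1, 0, 2, 3, 0, 2, 0, 1, 2], [2, 0, 1, 2, 0, 3, 0, 1, 2, 0, 2], []),
  (2, [0, 1, 0, 1, 0, 1, 0, 1], [0, 1, 3, 0, 1, 0, 1, 2, 0, 1, 0, 1, 3, 0], []),
  (1, [], [], []),
  (2, [0, 3, 0, 1, 0, 1, 0, 2, 0, 1, 3, 0], [0, 3, 0, 1, 0, 1, 0, 2, 0, 1, 3, 0], []),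
  (2, [1, 3, 0, 1, 2, 0, 3, 0, 1, 0, 2, 0, 1, 3], [0, 3, 0, 1, 0, 2, 0, 1, 0, 3, 0], []),
  (2, [0, 3, 0, 1, 0, 2, 0, 1, 3, 0, 2, 0, 3], [0, 3, 0, 1, 0, 2, 0, 1, 3, 0, 2, 0, 3], [])]

/-- Codes of the permutations of the five letters. -/
def m24L : List ℕ := [145391254782201928251439567454575061, 984209613578700052987114769968308336, 314592203728567952245155216730652770, 42005427850986781287231037623225078, 237103332393365152020203754192538240]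

/-- The three named permutations in the five letters. -/
def m24Back : List (List ℕ) := [[0, 3, 1, 0, 4, 1, 4, 2, 1, 4, 0, 3, 0, 4, 2], [2, 0, 2, 0, 4, 3, 4, 0, 4, 3, 4, 0, 2, 0, 2], [0, 4, 3, 0, 3, 4, 2, 0, 4, 3, 1, 4, 3, 2, 1, 4, 0]]

end CfsgLib.HeldRecog
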