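/-
Permutations of the twenty-four points for the five letters, and the pairs of the local subgroup.
-/
import Cfsg.Agent.Lib.HeldRecog.Local
import Cfsg.Agent.Lib.HeldRecog.M24TopData
import Cfsg.Agent.Lib.HeldRecog.M24NData
import Cfsg.Agent.Lib.Golay.Chain
import Cfsg.Agent.Lib.Golay.Fast

set_option autoImplicit false
set_option maxRecDepth 100000

namespace CfsgLib.HeldRecog

open CfsgLib.CosetEnum CfsgLib.HeCent CfsgGolay Cfsg

/-- The code of the permutation of a letter. -/
noncomputable def pc24 (i : ℕ) : ℕ := m24L.getD i pid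

theorem letters24_ok : ((List.range 5).all fun i =>
    permOK (pc24 i) && gensKept (pc24 i) && Nat.beq (pcomp (pc24 i) (pc24 i)) pid) = true ∧
    m24L.length = 5 ∧ permOK pid = true := by
  decide +kernel

theorem pc24_permOK (i : ℕ) : permOK (pc24 i) = true := by
  obtain ⟨h, hl, h1⟩ := letters24_ok
  simp only [List.all_eq_true, List.mem_range, Bool.and_eq_true] at h
  by_cases hi : i < 5
  · exact (h i hi).1.1
  · rw [pc24, List.getD_eq_default _ _ (by omega)]
    exact h1

/-- The permutation of a letter. -/
noncomputable def perm24 (i : ℕ) : Equiv.Perm GolayPt := (exists_repr_of_permOK (pc24_permOK i)).choose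

theorem repr_perm24 (i : ℕ) : Repr (pc24 i) (perm24 i) := (exists_repr_of_permOK (pc24_permOK i)).choose_spec

theorem perm24_eq_one {i : ℕ} (hi : 5 ≤ i) : perm24 i = 1 := by
  refine (repr_perm24 i).unique ?_
  rw [pc24, List.getD_eq_default _ _ (letters24_ok.2.1 ▸ hi)]
  exact repr_pid

theorem perm24_sq (i : ℕ) : perm24 i * perm24 i = 1 := by
  by_cases hi : i < 5
  · have h := letters24_ok.1
    simp only [List.all_eq_true, List.mem_range, Bool.and_eq_true, Nat.beq_eq] at h
    refine ((repr_perm24 i).comp (repr_perm24 i)).unique ?_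
    rw [(h i hi).2]
    exact repr_pid
  · simp [perm24_eq_one (Nat.le_of_not_lt hi)]

theorem perm24_mem (i : ℕ) : perm24 i ∈ M24 := by
  by_cases hi : i < 5
  · have h := letters24_ok.1
    simp only [List.all_eq_true, List.mem_range, Bool.and_eq_true] at h
    exact mem_M24_of_gensKept (repr_perm24 i) (h i hi).1.2
  · rw [perm24_eq_one (Nat.le_of_not_lt hi)]
    exact one_mem _

/-- The code of the permutation of a word. -/
noncomputable def pWord (w : List ℕ) : ℕ := List.rec pid (fun i _ ih => force ih fun r => pcomp (pc24 i) r) w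

theorem pWord_cons (i : ℕ) (w : List ℕ) : pWord (i :: w) = pcomp (pc24 i) (pWord w) := by
  show force (pWord w) (fun r => pcomp (pc24 i) r) = _
  rw [force_eq]

theorem repr_pWord : ∀ w : List ℕ, Repr (pWord w) (w.map perm24).prod
  | [] => repr_pid
  | i :: w => by
    rw [pWord_cons, List.map_cons, List.prod_cons]
    exact (repr_perm24 i).comp (repr_pWord w)

theorem pWord_one {w : List ℕ} (h : pWord w = pid) : (w.map perm24).prod = 1 :=
  (repr_pWord w).unique (h ▸ repr_pid)

theorem pWord_eq {v w : List ℕ} (h : pWord v = pWord w) : (v.map perm24).prod = (w.map perm24).prod :=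
  (repr_pWord v).unique (h ▸ repr_pWord w)

/-- A local word in the five letters. -/
def mW (w : List ℕ) : List ℕ := w.flatMap fun i => if i < 4 then vW.getD i [] else [i]

/-- The permutation of a local letter. -/
noncomputable def permM (i : ℕ) : Equiv.Perm GolayPt := ((mW [i]).map perm24).prod

theorem permM_word : ∀ w : List ℕ, (w.map permM).prod = ((mW w).map perm24).prod
  | [] => rfl
  | i :: w => by
    rw [List.map_cons, List.prod_cons, permM_word w, show mW (i :: w) = mW [i] ++ mW w by simp [mW],
      List.map_append, List.prod_append]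
    rfl

theorem permM_sq_ok : ((List.range 4).all fun i => Nat.beq (pWord (mW [i] ++ mW [i])) pid) = true := by
  decide +kernel

theorem permM_sq (i : ℕ) : permM i * permM i = 1 := by
  by_cases hi : i < 4
  · have h := permM_sq_ok
    simp only [List.all_eq_true, List.mem_range, Nat.beq_eq] at h
    rw [permM, ← List.prod_append, ← List.map_append]
    exact pWord_one (h i hi)
  · simp [permM, mW, hi, perm24_sq]

/-- The entry of the table. -/
noncomputable def tEnt (j : ℕ) : ℕ × ℕ × List ℕ := (m24N.getD (j / 256) []).getD (j % 256) (0, 0, [])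

/-- The check of one block of the table. -/
noncomputable def tabBlockOK (b : ℕ) : Bool :=
  (List.range 4).all fun i => force (wCode (vW.getD i [])) fun v => force (pWord (mW [i])) fun p =>
    (List.range 256).all fun k => force (256 * b + k) fun j =>
      force ((tEnt j).2.2.getD i 0) fun s => Nat.blt s 3072 &&
        Nat.beq (mulF v (tEnt j).1) (tEnt s).1 && Nat.beq (pcomp p (tEnt j).2.1) (tEnt s).2.1

/-- The first entry is the identity. -/
theorem tab_zero : Nat.beq (tEnt 0).1 oneCode = true ∧ Nat.beq (tEnt 0).2.1 pid = true := by decide +kernel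

/-- Entries of a block other than the first one have nontrivial permutation. -/
noncomputable def tabIdOK (b : ℕ) : Bool :=
  (List.range 256).all fun k => force (256 * b + k) fun j => Nat.beq j 0 ||
    force (tEnt j).2.1 fun c => !((List.range 24).all fun p => Nat.beq (papp c p) p)

theorem tabBlock0 : tabBlockOK 0 = true ∧ tabIdOK 0 = true := by decide +kernel
theorem tabBlock1 : tabBlockOK 1 = true ∧ tabIdOK 1 = true := by decide +kernel
theorem tabBlock2 : tabBlockOK 2 = true ∧ tabIdOK 2 = true := by decide +kernel
theorem tabBlock3 : tabBlockOK 3 = true ∧ tabIdOK 3 = true := by decide +kernel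
theorem tabBlock4 : tabBlockOK 4 = true ∧ tabIdOK 4 = true := by decide +kernel
theorem tabBlock5 : tabBlockOK 5 = true ∧ tabIdOK 5 = true := by decide +kernel
theorem tabBlock6 : tabBlockOK 6 = true ∧ tabIdOK 6 = true := by decide +kernel
theorem tabBlock7 : tabBlockOK 7 = true ∧ tabIdOK 7 = true := by decide +kernel
theorem tabBlock8 : tabBlockOK 8 = true ∧ tabIdOK 8 = true := by decide +kernel
theorem tabBlock9 : tabBlockOK 9 = true ∧ tabIdOK 9 = true := by decide +kernel
theorem tabBlock10 : tabBlockOK 10 = true ∧ tabIdOK 10 = true := by decide +kernel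
theorem tabBlock11 : tabBlockOK 11 = true ∧ tabIdOK 11 = true := by decide +kernel

theorem tabBlock_ok : ∀ b < 12, tabBlockOK b = true ∧ tabIdOK b = true := by
  intro b hb
  interval_cases b
  · exact tabBlock0
  · exact tabBlock1
  · exact tabBlock2
  · exact tabBlock3
  · exact tabBlock4
  · exact tabBlock5
  · exact tabBlock6
  · exact tabBlock7
  · exact tabBlock8
  · exact tabBlock9
  · exact tabBlock10
  · exact tabBlock11

theorem tab_id {j : ℕ} (hj : j < 3072) (h : Repr (tEnt j).2.1 1) : j = 0 := by
  have h' := (tabBlock_ok (j / 256) (by omega)).2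
  simp only [tabIdOK, force_eq, List.all_eq_true, List.mem_range, Bool.or_eq_true, Bool.not_eq_true',
    Nat.beq_eq] at h'
  have h2 := h' (j % 256) (Nat.mod_lt _ (by norm_num))
  rw [Nat.div_add_mod] at h2
  rcases h2 with h2 | h2
  · exact h2
  · rw [List.all_eq_false] at h2
    obtain ⟨p, hp, hne⟩ := h2
    refine (hne (Nat.beq_eq.mpr ?_)).elim
    rw [List.mem_range] at hp
    have := h (pt p)
    rw [idx_pt hp] at this
    simpa [idx_pt hp] using this.symm

theorem tab_step {j i : ℕ} (hj : j < 3072) (hi : i < 4) :
    (tEnt j).2.2.getD i 0 < 3072 ∧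
      mulF (wCode (vW.getD i [])) (tEnt j).1 = (tEnt ((tEnt j).2.2.getD i 0)).1 ∧
      pcomp (pWord (mW [i])) (tEnt j).2.1 = (tEnt ((tEnt j).2.2.getD i 0)).2.1 := by
  have h := (tabBlock_ok (j / 256) (by omega)).1
  simp only [tabBlockOK, force_eq, List.all_eq_true, List.mem_range, Bool.and_eq_true, blt_iff, Nat.beq_eq] at h
  have h' := h i hi (j % 256) (Nat.mod_lt _ (by norm_num))
  rw [Nat.div_add_mod] at h'
  exact ⟨h'.1.1, h'.1.2, h'.2⟩

end CfsgLib.HeldRecog
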