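/-
The branch of the largest Mathieu group: an embedding of that group.
-/
import Cfsg.Agent.Lib.HeldRecog.HeHom
import Cfsg.Agent.Lib.HeldRecog.M24Perm
import Cfsg.Agent.Lib.HeldRecog.M24Top.Main
import Cfsg.Agent.Lib.Golay.Subgroups

set_option autoImplicit false
set_option maxRecDepth 100000

namespace CfsgLib.HeldRecog

open CfsgLib.CosetEnum CfsgLib.HeCent CfsgGolay Cfsg

theorem m24Loc_ok : ((List.range B59_0.sheet.rels.length).all fun i =>
    Nat.beq (pWord (mW (B59_0.sheet.rels.getD i []))) pid) = true := by decide +kernel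

/-- The check of the relators. -/
noncomputable def m24RelOK (i : ℕ) : Bool :=
  let r := M24Top.rels.getD i []
  Nat.beq (pWord r) pid && match m24Prov.getD i (0, [], [], []) with
  | (0, _, _, _) => r == [i, i]
  | (1, _, _, _) => r.all (fun a => Nat.blt a 4) && oneW r
  | (2, a, b, _) => a.all (fun x => Nat.blt x 4) && b.all (fun x => Nat.blt x 4) &&
      crEq (4 :: (a ++ 4 :: b.reverse)) r &&
      (((List.range 4).any fun g => Nat.beq (wCode a) (gsC.getD g oneCode) &&
          Nat.beq (wCode b) ((sigImg.getD 0 []).getD g oneCode)) ||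
        (Nat.beq (wCode a) sCode && Nat.beq (wCode b) xC))
  | (_, _, _, ps) => crEq (topW ps) r && (locW ps).all (fun x => Nat.blt x 5) &&
      ps.all (fun p => p.1.all (fun x => Nat.blt x 4) && p.2.all (fun x => Nat.blt x 4) &&
        Nat.beq (wCode p.1) (wCode (vSub p.2))) &&
      Nat.beq (runT B59_0.sheet.T B59_0.sheet.D.k (locW ps) 0) 0 && Nat.beq (pWord (mW (locW ps))) pid

theorem m24Rels_ok : ((List.range M24Top.rels.length).all m24RelOK) = true := by decide +kernel

/-- The check of the words generating the local subgroup. -/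
noncomputable def m24HwOK : Bool :=
  M24Top.hw == [[0], [1, 2], [3, 0, 3], [3, 1, 3], [4]] && (List.range 4).all fun i =>
    (heHwV.getD i []).all (fun x => Nat.blt x 4) &&
      Nat.beq (wCode (M24Top.hw.getD i [])) (wCode (vSub (heHwV.getD i []))) &&
      Nat.beq (pWord (M24Top.hw.getD i [])) (pWord (mW (heHwV.getD i [])))

theorem m24Hw_ok : m24HwOK = true := by decide +kernel

theorem m24Back_ok : ((m24Back.all fun w => w.all fun x => Nat.blt x 5) &&
    (m24Back.map pWord == [cT, cI, cC])) = true := by decide +kernel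

variable {G : Type} [Group G] (D : Ctx G 0)

/-- The letters in the product with the permutations. -/
noncomputable def qT (i : ℕ) : Equiv.Perm GolayPt × G := (perm24 i, D.τ i)

/-- The local letters in the product with the permutations. -/
noncomputable def qM (i : ℕ) : Equiv.Perm GolayPt × G := (permM i, D.μ i)

theorem qT_sq (i : ℕ) : qT D i * qT D i = 1 := Prod.ext (perm24_sq i) (D.τ_sq i)

theorem qM_sq (i : ℕ) : qM D i * qM D i = 1 := Prod.ext (permM_sq i) (D.μ_sq i)

theorem qT_top : qT D 5 = 1 := Prod.ext (perm24_eq_one le_rfl) (by simp [qT, Ctx.τ])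

theorem qM_top : qM D 5 = 1 :=
  Prod.ext (by simp [qM, permM, mW, perm24_eq_one le_rfl]) (by simp [qM, Ctx.μ])

/-- An element of the local subgroup is an entry of the table. -/
def InTab (g : Equiv.Perm GolayPt × G) : Prop :=
  ∃ j, j < 3072 ∧ ∃ x : HS, HasCode x (tEnt j).1 ∧ Repr (tEnt j).2.1 g.1 ∧ g.2 = D.φ x

theorem inTab_mul {i : ℕ} (hi : i < 4) {g : Equiv.Perm GolayPt × G} (h : InTab D g) : InTab D (qM D i * g) := by
  obtain ⟨j, hj, x, hx, hp, hg⟩ := h
  obtain ⟨hs, hm, hc⟩ := tab_step hj hi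
  refine ⟨_, hs, wEl (vW.getD i []) * x, hm ▸ (hasCode_wEl _).mul hx, ?_, ?_⟩
  · rw [← hc]
    exact (repr_pWord _).comp hp
  · show D.μ i * g.2 = _
    rw [hg, Ctx.μ, if_pos hi, map_mul]

theorem mem_tab {g : Equiv.Perm GolayPt × G} (h : g ∈ wordsSub (qM D) B59_0.sheet.hw) : InTab D g := by
  have hgen : ∀ x ∈ {g | ∃ u ∈ B59_0.sheet.hw, (u.map (qM D)).prod = g}, ∃ i < 4, x = qM D i := by
    rintro x ⟨u, hu, rfl⟩
    have hu' : u ∈ ([[0], [1], [2], [3]] : List (List ℕ)) := hu
    fin_cases hu'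
    exacts [⟨0, by norm_num, by simp⟩, ⟨1, by norm_num, by simp⟩, ⟨2, by norm_num, by simp⟩, ⟨3, by norm_num, by simp⟩]
  induction h using Subgroup.closure_induction_left with
  | one =>
    exact ⟨0, by norm_num, 1, (Nat.eq_of_beq_eq_true tab_zero.1).symm ▸ HasCode.one,
      (Nat.eq_of_beq_eq_true tab_zero.2).symm ▸ repr_pid, (map_one D.φ).symm⟩
  | mul_left x hx y _ ih =>
    obtain ⟨i, hi, rfl⟩ := hgen x hx
    exact inTab_mul D hi ih
  | inv_mul_cancel x hx y _ ih =>
    obtain ⟨i, hi, rfl⟩ := hgen x hx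
    rw [inv_eq_of_mul_eq_one_right (qM_sq D i)]
    exact inTab_mul D hi ih

theorem card_tab :
    Finite (wordsSub (qM D) B59_0.sheet.hw) ∧ Nat.card (wordsSub (qM D) B59_0.sheet.hw) ≤ 3072 := by
  let f : wordsSub (qM D) B59_0.sheet.hw → Fin 3072 := fun g =>
    ⟨(mem_tab D g.2).choose, (mem_tab D g.2).choose_spec.1⟩
  have hf : Function.Injective f := by
    intro a b h
    have h' : (mem_tab D a.2).choose = (mem_tab D b.2).choose := congrArg Fin.val h
    obtain ⟨x, hx, hpa, ha⟩ := (mem_tab D a.2).choose_spec.2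
    obtain ⟨y, hy, hpb, hb⟩ := (mem_tab D b.2).choose_spec.2
    rw [h'] at hx hpa
    exact Subtype.ext (Prod.ext (hpa.unique hpb) (by rw [ha, hb, hx.unique hy]))
  refine ⟨Finite.of_injective f hf, ?_⟩
  have := Nat.card_le_card_of_injective f hf
  rwa [Nat.card_eq_fintype_card (α := Fin 3072), Fintype.card_fin] at this

section

variable (hb : InBranch D 59 0)
include hb

theorem qM_rel : ∀ r ∈ B59_0.sheet.rels, (r.map (qM D)).prod = 1 := by
  intro r hr
  rw [show (qM D) = fun i => (permM i, D.μ i) from rfl, prod_pair, permM_word]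
  refine Prod.ext ?_ (rels_one D hb rels59_0 r hr)
  obtain ⟨i, hi, rfl⟩ := List.getElem_of_mem hr
  have h := List.all_eq_true.mp m24Loc_ok i (List.mem_range.mpr hi)
  rw [List.getD_eq_getElem _ _ hi] at h
  exact pWord_one (Nat.eq_of_beq_eq_true h)

theorem loc_one24 {m : List ℕ} (hm : (m.all fun x => Nat.blt x 5) = true)
    (h : runT B59_0.sheet.T B59_0.sheet.D.k m 0 = 0) (h1 : pWord (mW m) = pid) : D.evM m = 1 := by
  have hmem := B59_0.sheet.mem_of_run (qM D) (qM_sq D) (qM_top D) (qM_rel D hb) m hm h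
  rw [show (qM D) = fun i => (permM i, D.μ i) from rfl, prod_pair, permM_word, pWord_one h1] at hmem
  obtain ⟨j, hj, x, hx, hp, hg⟩ := mem_tab D hmem
  obtain rfl := tab_id hj hp
  rw [Nat.eq_of_beq_eq_true tab_zero.1] at hx
  show D.evM m = 1
  rw [show D.evM m = D.φ x from hg, hx.unique HasCode.one, map_one]

theorem top_rel24 : ∀ r ∈ M24Top.rels, ((r.map perm24).prod = 1) ∧ D.ev r = 1 := by
  intro r hr
  obtain ⟨i, hi, rfl⟩ := List.getElem_of_mem hr
  have h := List.all_eq_true.mp m24Rels_ok i (List.mem_range.mpr hi)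
  rw [m24RelOK, List.getD_eq_getElem _ _ hi] at h
  generalize m24Prov.getD i (0, [], [], []) = p at h
  generalize M24Top.rels[i] = r at h
  obtain ⟨kind, a, b, ps⟩ := p
  rw [Bool.and_eq_true] at h
  obtain ⟨hperm, h⟩ := h
  refine ⟨pWord_one (Nat.eq_of_beq_eq_true hperm), ?_⟩
  rcases kind with _ | _ | _ | kind
  · simp only [beq_iff_eq] at h
    subst h
    simp [Ctx.ev, Ctx.τ_sq]
  · simp only [Bool.and_eq_true, List.all_eq_true, blt_iff] at h
    rw [D.ev_of_lt h.1, wEl_one h.2, map_one]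
  · simp only [Bool.and_eq_true, Bool.or_eq_true, List.all_eq_true, List.any_eq_true, List.mem_range, blt_iff,
      Nat.beq_eq] at h
    obtain ⟨⟨⟨ha, hb'⟩, hcr⟩, hcase⟩ := h
    have key : D.ev (4 :: (a ++ 4 :: b.reverse)) = 1 := by
      have hmaps : D.toSwap.Maps (wEl a) (wEl b) := by
        rcases hcase with ⟨g, hg, e1, e2⟩ | ⟨e1, e2⟩
        · have hg' : g < (sigImg.getD 0 []).length := img_len.symm ▸ hg
          obtain ⟨y, hy, hyc⟩ := D.pref g hg'
          have hs := hasCode_srcEl g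
          rw [srcC, envC, if_pos hg] at hs
          rw [(show HasCode (wEl a) (gsC.getD g oneCode) from e1 ▸ hasCode_wEl a).unique hs,
            (show HasCode (wEl b) _ from e2 ▸ hasCode_wEl b).unique hyc]
          exact hy
        · rw [(show HasCode (wEl a) sCode from e1 ▸ hasCode_wEl a).unique Zh_code,
            (show HasCode (wEl b) xC from e2 ▸ hasCode_wEl b).unique hasCode_Xh]
          exact D.maps_Zh
      have e : D.ev (4 :: (a ++ 4 :: b.reverse)) = D.s * (D.φ (wEl a) * (D.s * (D.φ (wEl b))⁻¹)) := by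
        rw [show D.ev (4 :: (a ++ 4 :: b.reverse)) = D.τ 4 * (D.ev a * (D.τ 4 * D.ev b.reverse)) by
          simp [Ctx.ev, List.prod_append], D.ev_of_lt ha,
          D.ev_of_lt (fun x hx => hb' x (List.mem_reverse.mp hx)), wEl_reverse, map_inv, Ctx.τ,
          if_neg (by norm_num), if_pos rfl]
      rw [e, ← hmaps, inv_eq_of_mul_eq_one_right D.sq]
      group
    exact evM_crEq_top D hcr key
  · simp only [Bool.and_eq_true, List.all_eq_true, blt_iff, Nat.beq_eq] at h
    obtain ⟨⟨⟨⟨hcr, hl⟩, hps⟩, hrun⟩, hone⟩ := h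
    have key : D.ev (topW ps) = D.evM (locW ps) := by
      clear hl hrun hone hcr
      induction ps with
      | nil => simp [topW, locW, Ctx.ev, Ctx.evM]
      | cons p ps ih =>
        obtain ⟨⟨hp1, hp2⟩, hp3⟩ := hps p List.mem_cons_self
        rw [show topW (p :: ps) = 4 :: (p.1 ++ topW ps) from rfl, show locW (p :: ps) = 4 :: (p.2 ++ locW ps) from rfl,
          show D.ev (4 :: (p.1 ++ topW ps)) = D.τ 4 * (D.ev p.1 * D.ev (topW ps)) by simp [Ctx.ev, List.prod_append],
          show D.evM (4 :: (p.2 ++ locW ps)) = D.μ 4 * (D.evM p.2 * D.evM (locW ps)) by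
            simp [Ctx.evM, List.prod_append],
          ih fun q hq => hps q (List.mem_cons_of_mem _ hq), D.ev_of_lt hp1, evM_vSub D p.2 hp2,
          (hasCode_wEl p.1).unique (hp3 ▸ hasCode_wEl (vSub p.2)), Ctx.τ, if_neg (by norm_num), if_pos rfl, D.μ_s]
    refine evM_crEq_top D hcr ?_
    rw [key]
    exact loc_one24 D hb (List.all_eq_true.mpr fun x hx => blt_iff.mpr (hl x hx)) hrun hone

theorem card_top24 : Finite (Subgroup.closure (qT D '' Set.Iio 5)) ∧
    Nat.card (Subgroup.closure (qT D '' Set.Iio 5)) ≤ 1771 * (45 * 3072) := by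
  have hS := m24Hw_ok
  simp only [m24HwOK, Bool.and_eq_true, beq_iff_eq, List.all_eq_true, List.mem_range, blt_iff, Nat.beq_eq] at hS
  obtain ⟨hhw, hwv⟩ := hS
  have hM := B59_0.sheet.card_le (qM D) (qM_sq D) (qM_top D) (qM_rel D hb)
    ((Subgroup.closure_le _).mpr (by
      rintro g ⟨u, hu, rfl⟩
      have hu' : u ∈ ([[0], [1], [2], [3]] : List (List ℕ)) := hu
      refine Subgroup.list_prod_mem _ fun x hx => ?_
      obtain ⟨i, hi, rfl⟩ := List.mem_map.mp hx
      refine Subgroup.subset_closure ⟨i, ?_, rfl⟩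
      show i < 5
      fin_cases hu' <;> simp at hi <;> omega)) (card_tab D)
  rw [show B59_0.sheet.D.k = 5 from rfl] at hM
  have hsub : wordsSub (qT D) M24Top.sheet.hw ≤ Subgroup.closure (qM D '' Set.Iio 5) := by
    refine (Subgroup.closure_le _).mpr ?_
    rintro g ⟨u, hu, rfl⟩
    have hu' : u ∈ ([[0], [1, 2], [3, 0, 3], [3, 1, 3], [4]] : List (List ℕ)) := hhw ▸ hu
    have key : ∀ i < 4, (∀ x ∈ M24Top.hw.getD i [], x < 4) →
        ((M24Top.hw.getD i []).map (qT D)).prod ∈ Subgroup.closure (qM D '' Set.Iio 5) := by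
      intro i hi hlt
      obtain ⟨⟨hl, hc⟩, hp⟩ := hwv i hi
      have e : ((M24Top.hw.getD i []).map (qT D)).prod = ((heHwV.getD i []).map (qM D)).prod := by
        rw [show (qT D) = fun i => (perm24 i, D.τ i) from rfl, show (qM D) = fun i => (permM i, D.μ i) from rfl,
          prod_pair, prod_pair]
        refine Prod.ext ?_ ?_
        · show (List.map perm24 _).prod = (List.map permM _).prod
          rw [permM_word]
          exact pWord_eq hp
        · show D.ev _ = D.evM _
          rw [D.ev_of_lt hlt, evM_vSub D _ hl, (show HasCode (wEl (M24Top.hw.getD i [])) (wCode (vSub (heHwV.getD i []))) from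
            hc ▸ hasCode_wEl _).unique (hasCode_wEl _)]
      rw [e]
      refine Subgroup.list_prod_mem _ fun x hx => ?_
      obtain ⟨j, hj, rfl⟩ := List.mem_map.mp hx
      exact Subgroup.subset_closure ⟨j, Nat.lt_succ_of_lt (hl j hj), rfl⟩
    fin_cases hu'
    · simpa [hhw] using key 0 (by norm_num) (by rw [hhw]; decide)
    · simpa [hhw] using key 1 (by norm_num) (by rw [hhw]; decide)
    · simpa [hhw] using key 2 (by norm_num) (by rw [hhw]; decide)
    · simpa [hhw] using key 3 (by norm_num) (by rw [hhw]; decide)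
    · have : qT D 4 = qM D 4 := by simp [qT, qM, permM, mW, Ctx.τ, Ctx.μ]
      simpa [this] using Subgroup.subset_closure (k := qM D '' Set.Iio 5) ⟨4, (by norm_num : (4 : ℕ) < 5), rfl⟩
  have := hM.1
  exact M24Top.sheet.card_le (qT D) (qT_sq D) (qT_top D)
    (fun r hr => by
      rw [show (qT D) = fun i => (perm24 i, D.τ i) from rfl, prod_pair]
      exact Prod.ext (top_rel24 D hb r hr).1 (top_rel24 D hb r hr).2)
    ((Subgroup.closure_le _).mpr (by
      rintro g ⟨u, hu, rfl⟩
      have hu' : u ∈ ([[0], [1, 2], [3, 0, 3], [3, 1, 3], [4]] : List (List ℕ)) := hhw ▸ hu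
      refine Subgroup.list_prod_mem _ fun x hx => ?_
      obtain ⟨i, hi, rfl⟩ := List.mem_map.mp hx
      refine Subgroup.subset_closure ⟨i, ?_, rfl⟩
      show i < 5
      fin_cases hu' <;> simp at hi <;> omega))
    ⟨Finite.of_injective _ (Subgroup.inclusion_injective hsub),
      (Nat.card_le_card_of_injective _ (Subgroup.inclusion_injective hsub)).trans hM.2⟩

/-- The largest Mathieu group embeds, with the centraliser and the exchanging element in its image. -/
theorem exists_m24Hom : ∃ θ : M24 →* G, Function.Injective θ ∧ (∀ x, D.φ x ∈ θ.range) ∧ D.s ∈ θ.range ∧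
    ∀ i < 5, θ ⟨perm24 i, perm24_mem i⟩ = D.τ i := by
  set T := Subgroup.closure (qT D '' Set.Iio 5) with hT
  obtain ⟨hfin, hcard⟩ := card_top24 D hb
  have hfst : ∀ t ∈ T, (t.1 : Equiv.Perm GolayPt) ∈ M24 := by
    intro t ht
    refine (Subgroup.closure_le (K := M24.comap (MonoidHom.fst _ _))).mpr ?_ ht
    rintro x ⟨i, -, rfl⟩
    exact perm24_mem i
  let π : T →* M24 := ((MonoidHom.fst (Equiv.Perm GolayPt) G).comp T.subtype).codRestrict M24 fun t => hfst t.1 t.2
  have hsurj : Function.Surjective π := by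
    intro g
    have hle : genGroup ≤ T.map (MonoidHom.fst (Equiv.Perm GolayPt) G) := by
      rw [genGroup, Subgroup.closure_le]
      have hb' := m24Back_ok
      rw [Bool.and_eq_true, beq_iff_eq] at hb'
      obtain ⟨hl, hcodes⟩ := hb'
      simp only [List.all_eq_true, blt_iff] at hl
      have key : ∀ (c : ℕ) (p : Equiv.Perm GolayPt), c ∈ [cT, cI, cC] → Repr c p →
          p ∈ T.map (MonoidHom.fst (Equiv.Perm GolayPt) G) := by
        intro c p hc hp
        rw [← hcodes, List.mem_map] at hc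
        obtain ⟨w, hw, rfl⟩ := hc
        rw [hp.unique (repr_pWord w)]
        refine ⟨(w.map (qT D)).prod, Subgroup.list_prod_mem _ fun x hx => ?_, ?_⟩
        · obtain ⟨i, hi, rfl⟩ := List.mem_map.mp hx
          exact Subgroup.subset_closure ⟨i, hl w hw i hi, rfl⟩
        · rw [map_list_prod, List.map_map]
          rfl
      rintro x (rfl | rfl | rfl)
      · exact key cT _ (by simp) repr_T
      · exact key cI _ (by simp) repr_I
      · exact key cC _ (by simp) repr_C
    obtain ⟨t, ht, e⟩ := hle (show (g : Equiv.Perm GolayPt) ∈ genGroup by rw [genGroup_eq]; exact g.2)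
    exact ⟨⟨t, ht⟩, Subtype.ext e⟩
  have hbij : Function.Bijective π :=
    (Nat.bijective_iff_surjective_and_card π).mpr ⟨hsurj, le_antisymm (hcard.trans_eq (by rw [card_M24]))
      (Nat.card_le_card_of_surjective π hsurj)⟩
  let e := MulEquiv.ofBijective π hbij
  let θ : M24 →* G := ((MonoidHom.snd _ _).comp T.subtype).comp e.symm.toMonoidHom
  have hθ : ∀ (t) (ht : t ∈ T), θ ⟨t.1, hfst t ht⟩ = t.2 := by
    intro t ht
    show ((e.symm (π ⟨t, ht⟩)).1).2 = t.2
    rw [show e.symm (π ⟨t, ht⟩) = ⟨t, ht⟩ from e.symm_apply_apply ⟨t, ht⟩]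
  have hτ : ∀ i < 5, D.τ i ∈ θ.range := fun i hi =>
    ⟨_, hθ (qT D i) (Subgroup.subset_closure ⟨i, hi, rfl⟩)⟩
  have hφ : ∀ x, D.φ x ∈ θ.range := by
    intro x
    obtain ⟨w, rfl⟩ := exists_word x
    induction w with
    | nil => simp [wEl]
    | cons i w ih =>
      rw [show wEl (i :: w) = gen i * wEl w by simp [wEl], map_mul]
      refine mul_mem ?_ ih
      by_cases h4 : i < 4
      · have := hτ i (by omega)
        rwa [Ctx.τ, if_pos h4] at this
      · simp [gen, h4]
  refine ⟨θ, ?_, hφ, ?_, fun i hi => hθ (qT D i) (Subgroup.subset_closure ⟨i, hi, rfl⟩)⟩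
  · have : IsSimpleGroup M24 := isSimple_M24
    rw [← MonoidHom.ker_eq_bot_iff]
    refine (θ.normal_ker.eq_bot_or_eq_top).resolve_right fun htop => Zh_ne (D.inj ?_)
    obtain ⟨m, hm⟩ := hφ Zh
    rw [map_one, ← hm]
    exact MonoidHom.mem_ker.mp (htop.symm ▸ Subgroup.mem_top m)
  · simpa [Ctx.τ] using hτ 4 (by norm_num)

end

end CfsgLib.HeldRecog
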