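/-
Rows of pure four-groups and witnesses of the criteria.
-/
import Cfsg.Agent.Lib.HeldRecog.Rank

set_option autoImplicit false
set_option maxRecDepth 100000

namespace CfsgLib.HeldRecog

/-- The classes of conjugates of the central involution. -/
def mat24Zc : List ℕ := [2, 3, 4, 5, 6]

/-- Witnesses for single involutions. -/
def mat24One : List (ℕ × ℕ) := [(504, 597), (1344, 1345), (0, 0), (0, 0), (0, 0), (0, 0), (0, 0), (336, 597)]

/-- The rows. -/
def mat24Rows : List PairRow := [
  ⟨0, 597, 1, 504, 336, [(13235, 504, 336), (16763, 504, 336), (10505, 504, 336), (10001, 504, 336), (5507, 504, 336), (17939, 504, 336), (12185, 504, 336), (11177, 504, 336)]⟩,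
  ⟨0, 593, 1, 504, 2016, [(13197, 504, 2016), (10005, 504, 2016), (10547, 504, 2016), (16763, 504, 2016), (12189, 504, 2016), (17901, 504, 2016), (5507, 504, 2016), (11219, 504, 2016)]⟩,
  ⟨0, 13197, 1, 504, 336, [(467, 504, 336), (593, 504, 2016), (10547, 504, 2016), (10001, 504, 336), (2819, 504, 336), (2273, 504, 2016), (11219, 504, 2016), (12185, 504, 336)]⟩,
  ⟨0, 16721, 1, 504, 2016, []⟩,
  ⟨0, 1848, 2, 0, 0, []⟩,
  ⟨1, 1345, 1, 1344, 336, [(18144, 1344, 336), (7225, 1344, 336), (7320, 1344, 336), (18226, 1344, 336), (18816, 1344, 336), (19153, 1344, 336), (19248, 1344, 336), (18898, 1344, 336)]⟩,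
  ⟨1, 4201, 1, 1344, 336, [(7224, 1344, 336), (12433, 1344, 336), (7320, 1344, 336), (12514, 1344, 336), (18816, 1344, 336), (13945, 1344, 336), (18912, 1344, 336), (14026, 1344, 336)]⟩,
  ⟨1, 14617, 1, 1344, 4200, [(7224, 1344, 4200), (7225, 1344, 4200), (18240, 1344, 4200), (18226, 1344, 4200), (19152, 1344, 4200), (19153, 1344, 4200), (18912, 1344, 4200), (18898, 1344, 4200)]⟩,
  ⟨1, 9913, 1, 1344, 4200, [(18144, 1344, 4200), (12433, 1344, 4200), (18240, 1344, 4200), (12514, 1344, 4200), (19152, 1344, 4200), (13945, 1344, 4200), (19248, 1344, 4200), (14026, 1344, 4200)]⟩,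
  ⟨1, 7224, 1, 1344, 336, [(4201, 1344, 336), (1426, 1344, 4200), (14617, 1344, 4200), (19738, 1344, 336), (12433, 1344, 336), (18226, 1344, 4200), (19153, 1344, 4200), (14026, 1344, 336)]⟩,
  ⟨1, 12528, 1, 1344, 336, []⟩,
  ⟨1, 7320, 1, 1344, 336, [(1345, 1344, 336), (4201, 1344, 336), (14698, 1344, 336), (19738, 1344, 336), (12514, 1344, 336), (18226, 1344, 336), (13945, 1344, 336), (19153, 1344, 336)]⟩,
  ⟨1, 13944, 1, 1344, 336, []⟩,
  ⟨7, 597, 2, 0, 0, []⟩,
  ⟨7, 1200, 1, 168, 13104, []⟩,
  ⟨7, 13128, 1, 168, 336, [(4704, 168, 336), (2599, 168, 336), (2544, 168, 336), (4724, 168, 336), (15624, 168, 336), (18727, 168, 336), (18672, 168, 336), (15644, 168, 336)]⟩,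
  ⟨7, 8928, 1, 168, 336, [(2520, 168, 336), (4783, 168, 336), (4728, 168, 336), (2540, 168, 336), (15624, 168, 336), (18727, 168, 336), (18672, 168, 336), (15644, 168, 336)]⟩,
  ⟨7, 9936, 1, 168, 336, [(2520, 168, 336), (4783, 168, 336), (4728, 168, 336), (2540, 168, 336), (12936, 168, 336), (8815, 168, 336), (8760, 168, 336), (12956, 168, 336)]⟩,
  ⟨7, 14136, 1, 168, 336, [(4704, 168, 336), (2599, 168, 336), (2544, 168, 336), (4724, 168, 336), (12936, 168, 336), (8815, 168, 336), (8760, 168, 336), (12956, 168, 336)]⟩,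
  ⟨7, 2520, 1, 168, 336, [(8928, 168, 336), (9936, 168, 336), (13124, 168, 336), (14132, 168, 336), (8760, 168, 336), (18672, 168, 336), (12956, 168, 336), (15644, 168, 336)]⟩,
  ⟨7, 4704, 1, 168, 336, [(13128, 168, 336), (14136, 168, 336), (8924, 168, 336), (9932, 168, 336), (8760, 168, 336), (18672, 168, 336), (12956, 168, 336), (15644, 168, 336)]⟩,
  ⟨7, 2599, 1, 168, 336, [(13128, 168, 336), (14136, 168, 336), (8924, 168, 336), (9932, 168, 336), (8760, 168, 336), (18672, 168, 336), (12956, 168, 336), (15644, 168, 336)]⟩,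
  ⟨7, 4783, 1, 168, 336, [(8928, 168, 336), (9936, 168, 336), (13124, 168, 336), (14132, 168, 336), (8760, 168, 336), (18672, 168, 336), (12956, 168, 336), (15644, 168, 336)]⟩,
  ⟨7, 2544, 1, 168, 336, [(13128, 168, 336), (14136, 168, 336), (8924, 168, 336), (9932, 168, 336), (12936, 168, 336), (15624, 168, 336), (8815, 168, 336), (18727, 168, 336)]⟩,
  ⟨7, 4728, 1, 168, 336, [(8928, 168, 336), (9936, 168, 336), (13124, 168, 336), (14132, 168, 336), (12936, 168, 336), (15624, 168, 336), (8815, 168, 336), (18727, 168, 336)]⟩,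
  ⟨7, 2540, 1, 168, 336, [(8928, 168, 336), (9936, 168, 336), (13124, 168, 336), (14132, 168, 336), (12936, 168, 336), (15624, 168, 336), (8815, 168, 336), (18727, 168, 336)]⟩,
  ⟨7, 4724, 1, 168, 336, [(13128, 168, 336), (14136, 168, 336), (8924, 168, 336), (9932, 168, 336), (12936, 168, 336), (15624, 168, 336), (8815, 168, 336), (18727, 168, 336)]⟩]

/-- The normalisation of partners. -/
def mat24Nrm : List (List (ℕ × ℕ × ℕ)) := [
  [(597, 0, 0), (467, 0, 104), (593, 1, 0), (425, 1, 104), (13197, 2, 0), (10005, 2, 1848), (16725, 0, 1848), (13235, 2, 104), (10547, 2, 1784), (16763, 0, 1784), (10505, 1, 3864), (10001, 1, 3968), (16721, 3, 0), (1848, 4, 0), (4704, 4, 93), (12936, 4, 504), (18648, 4, 597), (2277, 2, 1680), (2819, 2, 1952), (2777, 1, 1784), (2273, 1, 1848), (5469, 2, 3864), (12189, 0, 3864), (17901, 0, 1680), (5507, 2, 3968), (11219, 0, 3968), (17939, 0, 1952), (5465, 3, 1848), (12185, 1, 1952), (11177, 1, 1680), (12432, 4, 131), (18144, 4, 89), (13944, 4, 635), (19152, 4,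 593), (1680, 4, 104), (5040, 4, 58), (11592, 4, 440), (18312, 4, 394), (11256, 4, 51), (17976, 4, 141), (13608, 4, 387), (19992, 4, 477)],
  [(1345, 5, 0), (4201, 6, 0), (1426, 5, 128), (418, 6, 128), (14617, 7, 0), (9913, 8, 0), (14698, 7, 128), (19738, 8, 128), (7224, 9, 0), (18144, 9, 128), (12433, 5, 840), (7225, 8, 840), (12528, 10, 0), (7320, 11, 0), (18240, 11, 128), (12514, 5, 968), (18226, 8, 968), (13944, 12, 0), (18816, 9, 840), (19152, 9, 968), (13945, 7, 840), (19153, 6, 840), (18912, 11, 840), (19248, 11, 968), (14026, 7, 968), (18898, 6, 968)],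
  [],
  [],
  [],
  [],
  [],
  [(597, 13, 0), (2109, 13, 168), (1345, 13, 24), (4201, 13, 192), (1200, 14, 0), (356, 14, 597), (10509, 13, 1008), (16725, 13, 1848), (14617, 13, 1032), (19657, 13, 1872), (13128, 15, 0), (8928, 16, 0), (9936, 17, 0), (14136, 18, 0), (13124, 16, 597), (8924, 17, 597), (9932, 18, 597), (14132, 15, 597), (2520, 19, 0), (4704, 20, 0), (2599, 21, 0), (4783, 22, 0), (2544, 23, 0), (4728, 24, 0), (2540, 25, 0), (4724, 26, 0), (12936, 20, 597), (15624, 19, 597), (8815, 21, 597), (18727, 22, 597), (8760, 26, 597), (18672, 25, 597), (12956, 23, 597), (15644, 24, 597)]]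

theorem mat24One0 : oneB mat24Zc mat24One 0 = true := by decide +kernel
theorem mat24Nrm0 : normB mat24Zc mat24Rows mat24Nrm 0 = true := by decide +kernel
theorem mat24One1 : oneB mat24Zc mat24One 1 = true := by decide +kernel
theorem mat24Nrm1 : normB mat24Zc mat24Rows mat24Nrm 1 = true := by decide +kernel
theorem mat24One2 : oneB mat24Zc mat24One 2 = true := by decide +kernel
theorem mat24Nrm2 : normB mat24Zc mat24Rows mat24Nrm 2 = true := by decide +kernel
theorem mat24One3 : oneB mat24Zc mat24One 3 = true := by decide +kernel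
theorem mat24Nrm3 : normB mat24Zc mat24Rows mat24Nrm 3 = true := by decide +kernel
theorem mat24One4 : oneB mat24Zc mat24One 4 = true := by decide +kernel
theorem mat24Nrm4 : normB mat24Zc mat24Rows mat24Nrm 4 = true := by decide +kernel
theorem mat24One5 : oneB mat24Zc mat24One 5 = true := by decide +kernel
theorem mat24Nrm5 : normB mat24Zc mat24Rows mat24Nrm 5 = true := by decide +kernel
theorem mat24One6 : oneB mat24Zc mat24One 6 = true := by decide +kernel
theorem mat24Nrm6 : normB mat24Zc mat24Rows mat24Nrm 6 = true := by decide +kernel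
theorem mat24One7 : oneB mat24Zc mat24One 7 = true := by decide +kernel
theorem mat24Nrm7 : normB mat24Zc mat24Rows mat24Nrm 7 = true := by decide +kernel
theorem mat24RowsOK : ((List.range mat24Rows.length).all fun j => rowB mat24Zc (mat24Rows.getD j ⟨0, 0, 0, 0, 0, []⟩)) = true := by
  decide +kernel
theorem mat24Gens : Case.gensOK mat24Zc mat24Rows = true := by decide +kernel

theorem mat24CaseOK : Case.caseOK mat24Zc mat24Rows mat24Nrm mat24One := by
  refine ⟨fun k hk => ?_, fun k hk => ?_, mat24RowsOK⟩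
  · match k, hk with
    | 0, _ => exact mat24One0
    | 1, _ => exact mat24One1
    | 2, _ => exact mat24One2
    | 3, _ => exact mat24One3
    | 4, _ => exact mat24One4
    | 5, _ => exact mat24One5
    | 6, _ => exact mat24One6
    | 7, _ => exact mat24One7
    | n + 8, h => omega
  · match k, hk with
    | 0, _ => exact mat24Nrm0
    | 1, _ => exact mat24Nrm1
    | 2, _ => exact mat24Nrm2
    | 3, _ => exact mat24Nrm3
    | 4, _ => exact mat24Nrm4
    | 5, _ => exact mat24Nrm5
    | 6, _ => exact mat24Nrm6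
    | 7, _ => exact mat24Nrm7
    | n + 8, h => omega

end CfsgLib.HeldRecog
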