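/-
The branch of the largest Mathieu group: the group is that group.
-/
import Cfsg.Agent.Lib.HeldRecog.M24Hom
import Cfsg.Agent.Lib.HeldRecog.RowsM24
import Cfsg.Agent.Lib.HeldRecog.Wit
import Cfsg.Agent.Lib.HeldRecog.WitData

set_option autoImplicit false
set_option maxRecDepth 100000

namespace CfsgLib.HeldRecog

open CfsgLib.CosetEnum CfsgLib.HeCent CfsgGolay Cfsg

/-- Equality of words through the permutations. -/
noncomputable def mat24Eq (v w : List ℕ) : Bool := Nat.beq (pWord v) (pWord w)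

/-- The row with a given index. -/
def mat24Row (j : ℕ) : PairRow := mat24Rows.getD j ⟨0, 0, 0, 0, 0, []⟩

theorem mat24Z_ok : (mat24Zc.all fun k => conjB mat24Eq (mat24ZW.getD k []) zW (repW.getD k [])) = true := by
  decide +kernel

theorem mat24N_ok : mat24NW.1 = 1 ∧ conjB mat24Eq mat24NW.2 (repW.getD 7 []) (repW.getD 1 []) = true := by
  decide +kernel

theorem mat24Pair_ok : mat24Rows.length = 27 ∧ rowConjB mat24Eq mat24PW (mat24Row 13) (mat24Row 4) = true ∧
    noTransB mat24Zc (rowL (mat24Row 4)) = true ∧ noTransB mat24Zc (rowL (mat24Row 13)) = true ∧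
    commCount (mat24Row 4).k (rowL (mat24Row 4)) ≠ commCount (mat24Row 13).k (rowL (mat24Row 13)) ∧
    ((List.range 27).all fun j => Nat.beq j 4 || Nat.beq j 13 || Nat.blt (mat24Row j).kind 2) = true := by
  decide +kernel

variable {G : Type} [Group G] [Finite G] (D : Ctx G 0) (hb : InBranch D 59 0)
include hb

theorem mat24_image : ∃ θ : M24 →* G, Function.Injective θ ∧
    (∀ w : List ℕ, (∀ i ∈ w, i < 5) → ∃ m : M24, (m : Equiv.Perm GolayPt) = (w.map perm24).prod ∧ θ m = D.ev w) := by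
  obtain ⟨θ, hinj, -, -, hτ⟩ := exists_m24Hom D hb
  refine ⟨θ, hinj, fun w hw => ?_⟩
  induction w with
  | nil => exact ⟨1, rfl, by simp [Ctx.ev]⟩
  | cons i w ih =>
    obtain ⟨m, hm, e⟩ := ih fun j hj => hw j (List.mem_cons_of_mem _ hj)
    refine ⟨⟨perm24 i, perm24_mem i⟩ * m, by simp [hm], ?_⟩
    rw [map_mul, e, hτ i (hw i List.mem_cons_self), show D.ev (i :: w) = D.τ i * D.ev w by simp [Ctx.ev]]

theorem mat24_sound : D.Sound mat24Eq := by
  intro v w hv hw h
  obtain ⟨θ, -, hev⟩ := mat24_image D hb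
  obtain ⟨m, hm, e⟩ := hev v hv
  obtain ⟨m', hm', e'⟩ := hev w hw
  rw [← e, ← e', Subtype.ext (hm.trans ((pWord_eq (Nat.eq_of_beq_eq_true h)).trans hm'.symm))]

/-- In this branch the group is the largest Mathieu group. -/
theorem mat24_iso : Nonempty (G ≃* M24) := by
  have hs := mat24_sound D hb
  have hz : ∀ k ∈ mat24Zc, ∃ g ∈ D.gens5, g * D.z * g⁻¹ = D.φ (rep k) := fun k hk =>
    hs.isZ_rep (List.all_eq_true.mp mat24Z_ok k hk)
  have hnz : ∀ k < 8, k ∉ mat24Zc → ¬ D.toEmb.IsZ (D.φ (rep k)) := by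
    intro k hk hkz
    by_cases h2 : k < 2
    · exact D.toEmb.not_small h2
    · obtain rfl : k = 7 := by interval_cases k <;> simp [mat24Zc] at hkz ⊢ <;> omega
      exact hs.not_isZ_rep mat24N_ok.2 (D.toEmb.not_small (by norm_num))
  set T := D.top hz hnz with hT
  have K : Case T mat24Zc := D.top_case hz hnz (by decide) (by decide)
  obtain ⟨hlen, hconj, hn4, hn13, hne, hkind⟩ := mat24Pair_ok
  have hrow : ∀ j < 27, mat24Row j ∈ mat24Rows := fun j hj => getD_mem (hlen.symm ▸ hj) _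
  have hfac : ∀ j < 27, (mat24Row j).k < 8 ∧ pureOK mat24Zc (rowL (mat24Row j)) = true ∧
      clsCode (mat24Row j).k ∈ rowL (mat24Row j) := fun j hj =>
    ⟨(Case.row_facts (Case.rowB_of mat24CaseOK (hrow j hj))).1,
      (Case.row_facts (Case.rowB_of mat24CaseOK (hrow j hj))).2.1,
      (Case.row_facts (Case.rowB_of mat24CaseOK (hrow j hj))).2.2.1⟩
  obtain ⟨a8, aL, ak⟩ := hfac 4 (by norm_num)
  obtain ⟨b8, bL, bk⟩ := hfac 13 (by norm_num)
  obtain ⟨hg, hto, hfrom⟩ := hs.row_conj (T := T) rfl rfl b8 a8 bL aL hconj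
  have a6 := (Case.k_ne_six K mat24Gens (hrow 4 (by norm_num))).1
  have b6 := (Case.k_ne_six K mat24Gens (hrow 13 (by norm_num))).1
  have h4 := K.cent_conj a8 a6 b8 b6 aL bL ak bk (Case.next_row K mat24CaseOK mat24Gens (hrow 4 (by norm_num)))
    hn4 hne hg hto hfrom
  have h13 := K.cent_conj b8 b6 a8 a6 bL aL bk ak (Case.next_row K mat24CaseOK mat24Gens (hrow 13 (by norm_num)))
    hn13 hne.symm (inv_mem hg) (fun p hp => by rw [inv_inv]; exact hfrom p hp)
    (fun p hp => by rw [inv_inv]; exact hto p hp)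
  have hext : ∀ e ∈ mat24Rows, 2 ≤ e.kind → ∀ l, Top.Cn (pSub T (rowL e)) l → l ∈ T.G0 := by
    intro e he hk2
    obtain ⟨j, hj, rfl⟩ := List.getElem_of_mem he
    rw [hlen] at hj
    have hk := List.all_eq_true.mp hkind j (List.mem_range.mpr hj)
    rw [← List.getD_eq_getElem _ ⟨0, 0, 0, 0, 0, []⟩] at hk2 ⊢
    simp only [Bool.or_eq_true, Nat.beq_eq, blt_iff] at hk
    rcases hk with (rfl | rfl) | hk
    · exact h4
    · exact h13
    · exact absurd (show (mat24Row j).kind ≥ 2 from hk2) (by omega)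
  have h00 : ¬ T.IsZ (T.φ (rep 0)) := K.hnz 0 (by norm_num) (by decide)
  have hsq : rep 0 * rep 0 = 1 :=
    (((rep_hasCode (k := 0) (by norm_num)).mul (rep_hasCode (by norm_num))).eq_iff HasCode.one).mpr (by decide +kernel)
  have htop : T.G0 = ⊤ := T.eq_top (T.φ_mem (rep 0)) (by rw [← map_mul, hsq, map_one]) h00
    (fun e => Case.clsCode_ne 0 (by norm_num) ((rep_hasCode (k := 0) (by norm_num)).eq
      (T.inj (e.trans (map_one T.φ).symm) ▸ HasCode.one)))
    fun i hi0 hi hi1 hiz g hg => K.single_inv mat24CaseOK mat24Gens hext hi0 hi hi1 hiz hg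
  obtain ⟨θ, hinj, -, -, hτ⟩ := exists_m24Hom D hb
  have hle : D.gens5 ≤ θ.range := (Subgroup.closure_le _).mpr (by
    rintro _ ⟨i, hi, rfl⟩
    exact ⟨_, hτ i hi⟩)
  have hsurj : Function.Surjective θ := fun g => hle (show g ∈ T.G0 from htop.symm ▸ Subgroup.mem_top g)
  exact ⟨(MulEquiv.ofBijective θ ⟨hinj, hsurj⟩).symm⟩

end CfsgLib.HeldRecog
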