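/-
Data for the stabiliser of a vector.
-/
import Mathlib.Data.Nat.Notation
import Mathlib.Data.List.Basic

set_option autoImplicit false

namespace CfsgLib.HeldRecog

/-- Commutator, moved and fixed indices of the representatives acting as transvections. -/
def pTv : List (ℕ × ℕ × ℕ) := [(1, 4, 2), (10, 2, 1), (1, 4, 2), (0, 0, 0), (8, 2, 1), (8, 2, 1), (0, 0, 0), (0, 0, 0)]

/-- The index of the element used for the remaining class. -/
def pAux : ℕ := 168

/-- Words carrying two representatives to others. -/
def pNW : List ℕ × List ℕ := ([1, 3, 4], [1, 0, 1, 3, 4])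

end CfsgLib.HeldRecog
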