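/-
The last automorphism on one side only: the group is the stabiliser of a vector.
-/
import Cfsg.Agent.Lib.HeldRecog.L5Hom
import Cfsg.Agent.Lib.HeldRecog.Rank
import Cfsg.Agent.Lib.HeldRecog.PEndData

set_option autoImplicit false
set_option maxRecDepth 100000

namespace CfsgLib.HeldRecog

open CfsgLib.CosetEnum CfsgLib.HeCent

local notation "SL5" => Matrix.SpecialLinearGroup (Fin 5) (ZMod 2)

/-- The class is one of those acting as transvections. -/
noncomputable def tvB (k : ℕ) : Bool := Nat.blt k 6 && !Nat.beq k 3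

/-- The check of an element acting as a transvection with the given indices. -/
noncomputable def tvCheck (r : ℕ) (t : ℕ × ℕ × ℕ) : Bool :=
  Nat.blt t.1 16 && !Nat.beq t.1 0 && Nat.blt t.2.1 16 && Nat.blt t.2.2 16 && !Nat.beq t.2.2 0 &&
    !Nat.beq t.2.2 t.1 && Nat.beq (mulF r (pEC.getD t.1 0)) (mulF (pEC.getD t.1 0) r) &&
    Nat.beq (mulF r (pEC.getD t.2.2 0)) (mulF (pEC.getD t.2.2 0) r) &&
    Nat.beq (mulF r (pEC.getD t.2.1 0)) (mulF (mulF (pEC.getD t.2.1 0) (pEC.getD t.1 0)) r) &&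
    pEC.all fun c => Nat.beq (mulF r c) (mulF c r) || Nat.beq (mulF r c) (mulF (mulF c (pEC.getD t.1 0)) r)

/-- The checks of the representatives on the subgroup of order sixteen. -/
noncomputable def tvOK : Bool :=
  ([0, 1, 2, 4, 5].all fun k => force (clsCode k) fun r => tvCheck r (pTv.getD k (0, 0, 0))) &&
    [3, 6].all (fun k => pEC.contains (clsCode k)) &&
    force (clsCode 7) fun r => force (codeN pAux) fun c =>
      Nat.beq (mulF c r) (mulF r c) && Nat.beq (mulF c c) oneCode && tvB (clsOf c) &&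
        (pEC.all fun e => !Nat.beq (mulF c e) (mulF e c) || tvB (clsOf (mulF c e))) &&
        (List.range 16).any fun e => !Nat.beq e 0 && Nat.beq (mulF r (pEC.getD e 0)) (mulF (pEC.getD e 0) r)

theorem tv_ok : tvOK = true := by decide +kernel

/-- The classes of an element if the last class were fused. -/
noncomputable def sevenB (c : ℕ) : Bool :=
  Nat.beq c oneCode || !Nat.beq (mulF c c) oneCode || Nat.blt (clsOf c) 8

/-- The code is that of a conjugate, assuming that the last class is fused. -/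
noncomputable def zSevenB (c : ℕ) : Bool := isZb [3, 6, 7] c

/-- The checks of the count refuting that the last class is fused. -/
noncomputable def sevenOK : Bool :=
  force (clsCode 7) fun r =>
    ((centList 7).all fun n => force (codeN n) fun c => sevenB c && sevenB (mulF sCode c) && sevenB (mulF r c)) &&
      Nat.blt ((centList 7).filter fun n => force (codeN n) fun c => zSevenB c && zSevenB (mulF r c)).length
        ((centList 7).filter fun n => force (codeN n) fun c => zSevenB c && zSevenB (mulF sCode c)).length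

theorem seven_ok : sevenOK = true := by decide +kernel

/-- The checks of the conjugating words. -/
noncomputable def pNWOK : Bool :=
  (pNW.1.all fun i => Nat.blt i 5) && (pNW.2.all fun i => Nat.blt i 5) &&
    Nat.beq (mulF (evC pLet pNW.1) (clsCode 4)) (mulF (clsCode 2) (evC pLet pNW.1)) &&
    Nat.beq (mulF (evC pLet pNW.2) (clsCode 5)) (mulF (clsCode 0) (evC pLet pNW.2))

theorem pNW_ok : pNWOK = true := by decide +kernel

theorem rep_in_E {j : ℕ} (hj : j = 3 ∨ j = 6) : ∃ e < 16, pel e = rep j := by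
  have h := tv_ok
  simp only [tvOK, force_eq, Bool.and_eq_true, List.all_eq_true] at h
  exact exists_pel (h.1.2 j (by rcases hj with rfl | rfl <;> simp)) (rep_hasCode (by omega))

variable {G : Type} [Group G] (D : Ctx G 3)

theorem pel_gens {g : G} (hg : g ∈ D.gens5) :
    ∀ e < 16, ∃ e' < 16, g * D.φ (pel e) * g⁻¹ = D.φ (pel e') := by
  have step : ∀ i < 5, ∀ y : G, (∀ e < 16, ∃ e' < 16, y * D.φ (pel e) * y⁻¹ = D.φ (pel e')) →
      ∀ e < 16, ∃ e' < 16, D.τ i * y * D.φ (pel e) * (D.τ i * y)⁻¹ = D.φ (pel e') := by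
    intro i hi y hy e he
    obtain ⟨e1, h1, q1⟩ := hy e he
    obtain ⟨h2, q2⟩ := pel_step D hi h1
    exact ⟨_, h2, by rw [← q2, ← q1]; group⟩
  induction hg using Subgroup.closure_induction_left with
  | one => exact fun e he => ⟨e, he, by group⟩
  | mul_left x hx y _ ih =>
    obtain ⟨i, hi, rfl⟩ := hx
    exact step i hi y ih
  | inv_mul_cancel x hx y _ ih =>
    obtain ⟨i, hi, rfl⟩ := hx
    rw [inv_eq_of_mul_eq_one_right (D.τ_sq i)]
    exact step i hi y ih

theorem pel_isZ {e : ℕ} (he : e < 16) (he0 : e ≠ 0) : D.toEmb.IsZ (D.φ (pel e)) := by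
  have h := List.all_eq_true.mp pPath_ok e (List.mem_range.mpr he)
  simp only [Bool.or_eq_true, Bool.and_eq_true, List.all_eq_true, Nat.beq_eq, blt_iff] at h
  obtain ⟨hl, hp⟩ := h.resolve_left he0
  obtain ⟨-, q⟩ := pel_word D _ hl pZ pZ_lt.1
  rw [hp, pZ_lt.2, D.map_Zh] at q
  exact ⟨_, q⟩

theorem p_conj {w : List ℕ} {j k : ℕ} (hj : j < 8) (hk : k < 8) (hw : ∀ i ∈ w, i < 5)
    (h : mulF (evC pLet w) (clsCode j) = mulF (clsCode k) (evC pLet w)) :
    D.ev w * D.φ (rep j) * (D.ev w)⁻¹ = D.φ (rep k) := by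
  have hj4 : ∀ i ∈ repW.getD j [], i < 4 := (show ∀ j < 8, ∀ i ∈ repW.getD j [], i < 4 by decide) j hj
  have hk4 : ∀ i ∈ repW.getD k [], i < 4 := (show ∀ j < 8, ∀ i ∈ repW.getD j [], i < 4 by decide) k hk
  obtain ⟨θ, -, hθ⟩ := exists_pHom D
  have key : ∀ w : List ℕ, (∀ i ∈ w, i < 5) →
      ∃ m : Subgroup.closure (pCtx.τ '' Set.Iio 5), m.1 = pCtx.ev w ∧ θ m = D.ev w := by
    intro w
    induction w with
    | nil => exact fun _ => ⟨1, rfl, by simp [Ctx.ev]⟩
    | cons i w ih =>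
      intro hw
      obtain ⟨m, hm, e⟩ := ih fun j hj => hw j (List.mem_cons_of_mem _ hj)
      have hi := hw i List.mem_cons_self
      refine ⟨⟨pCtx.τ i, Subgroup.subset_closure ⟨i, hi, rfl⟩⟩ * m, ?_, ?_⟩
      · rw [Subgroup.coe_mul, hm]; simp [Ctx.ev]
      · rw [map_mul, hθ i hi, e]; simp [Ctx.ev]
  obtain ⟨a, ha, ea⟩ := key (w ++ repW.getD j []) fun i hi =>
    (List.mem_append.mp hi).elim (hw i) fun hi => Nat.lt_succ_of_lt (hj4 i hi)
  obtain ⟨b, hb, eb⟩ := key (repW.getD k [] ++ w) fun i hi =>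
    (List.mem_append.mp hi).elim (fun hi => Nat.lt_succ_of_lt (hk4 i hi)) (hw i)
  have hab : a = b := Subtype.ext (ha.trans (Eq.trans (Subtype.ext (by
    rw [pCtx.ev_append, pCtx.ev_append, Matrix.SpecialLinearGroup.coe_mul, Matrix.SpecialLinearGroup.coe_mul,
      ev_mat pCtx pCtx_τ w, pCtx.ev_of_lt hj4, pCtx.ev_of_lt hk4]
    show mat _ * mx (rep j) = mx (rep k) * mat _
    rw [(rep_hasCode hj).1, (rep_hasCode hk).1, mat_mulF, mat_mulF, h])) hb.symm))
  rw [rep, rep, ← D.ev_of_lt hj4, ← D.ev_of_lt hk4, mul_inv_eq_iff_eq_mul, ← D.ev_append, ← D.ev_append, ← ea, ← eb,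
    hab]

variable [Finite G]

theorem no_four (h2 : ¬ D.toEmb.IsZ (D.φ (rep 2))) {k : ℕ} (hk : k ∈ [0, 1, 2, 4, 5]) :
    ¬ D.toEmb.IsZ (D.φ (rep k)) := by
  have h := pNW_ok
  simp only [pNWOK, Bool.and_eq_true, List.all_eq_true, blt_iff, Nat.beq_eq] at h
  obtain ⟨⟨⟨l1, l2⟩, c1⟩, c2⟩ := h
  simp only [List.mem_cons, List.not_mem_nil, or_false] at hk
  rcases hk with rfl | rfl | rfl | rfl | rfl
  · exact D.toEmb.not_small (by norm_num)
  · exact D.toEmb.not_small (by norm_num)
  · exact h2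
  · intro h
    exact h2 (p_conj D (by norm_num) (by norm_num) l1 c1 ▸ D.toEmb.isZ_conj h _)
  · intro h
    exact D.toEmb.not_small (k := 0) (by norm_num)
      (p_conj D (by norm_num) (by norm_num) l2 c2 ▸ D.toEmb.isZ_conj h _)

theorem no_seven (h2 : ¬ D.toEmb.IsZ (D.φ (rep 2))) : ¬ D.toEmb.IsZ (D.φ (rep 7)) := by
  rintro ⟨g, hg⟩
  have h7 : D.toEmb.IsZ (D.φ (rep 7)) := ⟨g, hg⟩
  have hz37 : ∀ k ∈ [3, 6, 7], D.toEmb.IsZ (D.φ (rep k)) := by
    intro k hk
    simp only [List.mem_cons, List.not_mem_nil, or_false] at hk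
    rcases hk with rfl | rfl | rfl
    · obtain ⟨u, hu⟩ := rep_three
      have := D.toEmb.isZ_conj (show D.toEmb.IsZ (D.φ Xh) from ⟨D.s, D.s_z⟩) (D.φ u⁻¹)
      rwa [← map_mul, ← map_inv, ← map_mul, show u⁻¹ * Xh * u⁻¹⁻¹ = rep 3 by rw [← hu]; group] at this
    · rw [rep_six, D.map_Zh]; exact D.toEmb.isZ_z
    · exact h7
  have sound : ∀ {x : HS} {c : ℕ}, HasCode x c → sevenB c = true → (D.toEmb.IsZ (D.φ x) ↔ zSevenB c = true) := by
    intro x c hx hs
    simp only [sevenB, Bool.or_eq_true, Nat.beq_eq, Bool.not_eq_true', ← Bool.not_eq_true, blt_iff] at hs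
    constructor
    · intro hz
      rcases hs with (h | h) | h
      · rw [(hx.eq_iff HasCode.one).mpr h, map_one] at hz
        exact absurd hz D.toEmb.not_isZ_one
      · exact absurd (((hx.mul hx).eq_iff HasCode.one).mp (D.inj (by
          rw [map_mul, map_one]; exact D.toEmb.isZ_sq hz))) h
      · rw [zSevenB, isZb, force_eq, List.contains_iff_mem]
        by_contra hm
        obtain ⟨y, rfl⟩ := inv_entry hx h
        rw [map_mul, map_mul, map_inv, D.toEmb.isZ_conj_iff] at hz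
        refine no_four D h2 ?_ hz
        revert hm h
        generalize clsOf c = k
        intro h hm
        interval_cases k <;> simp at hm ⊢
    · intro hz
      rw [zSevenB, isZb, force_eq, List.contains_iff_mem] at hz
      obtain ⟨y, rfl⟩ := inv_entry hx (show clsOf c < 8 by
        simp only [List.mem_cons, List.not_mem_nil, or_false] at hz; omega)
      rw [map_mul, map_mul, map_inv]
      exact D.toEmb.isZ_conj (hz37 _ hz) _
  obtain ⟨a, hga⟩ := D.toEmb.exists_pre hg
  have ha2 : a * a = 1 := D.inj (by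
    rw [map_mul, map_one]
    calc D.φ a * D.φ a = g⁻¹ * (g * D.φ a * g⁻¹ * (g * D.φ a * g⁻¹)) * g := by group
      _ = 1 := by rw [hga, D.z_sq]; group)
  have ha1 : a ≠ 1 := by
    rintro rfl
    rw [map_one, mul_one, mul_inv_cancel] at hga
    exact D.toEmb.z_ne hga.symm
  obtain ⟨j, hj, y, hy⟩ := inv_cases ha2 ha1
  have hcard := D.toEmb.cent_card_eq hg hga
  rw [Emb.conj_comm_card hy, card_cent_rep hj, card_cent_rep (by norm_num)] at hcard
  have haz : D.toEmb.IsZ (D.φ (rep j)) := by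
    have h1 : D.toEmb.IsZ (D.φ a) := ⟨g⁻¹, by
      calc g⁻¹ * D.z * g⁻¹⁻¹ = g⁻¹ * (g * D.φ a * g⁻¹) * g := by rw [hga]; group
        _ = D.φ a := by group⟩
    rwa [hy, map_mul, map_mul, map_inv, D.toEmb.isZ_conj_iff] at h1
  have hj7 : j = 7 := by
    by_contra hne
    refine no_four D h2 (k := j) ?_ haz
    interval_cases j <;> simp [centSize] at hcard hne ⊢
  subst hj7
  -- the conjugating element exchanging the two involutions
  set h := g * D.φ y with hh
  have hhz : h * D.z * h⁻¹ = D.φ (rep 7) := by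
    rw [← hg, hh, show g * D.φ y * D.z * (g * D.φ y)⁻¹ = g * (D.φ y * D.z * (D.φ y)⁻¹) * g⁻¹ by group,
      D.comm_z, mul_inv_cancel_right]
  have hhr : h * D.φ (rep 7) * h⁻¹ = D.z := by
    rw [← hga, hy, map_mul, map_mul, map_inv, hh]; group
  have hsev := seven_ok
  simp only [sevenOK, force_eq, Bool.and_eq_true, List.all_eq_true, blt_iff] at hsev
  obtain ⟨hall, hlt⟩ := hsev
  have hE := enum_rep (k := 7) (by norm_num) (by norm_num)
  have hr := rep_hasCode (k := 7) (by norm_num)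
  have count : ∀ (a : HS) (ac : ℕ), HasCode a ac → (∀ n ∈ centList 7, sevenB (mulF ac (codeN n)) = true) →
      Nat.card {x : HS // x * rep 7 = rep 7 * x ∧ D.toEmb.IsZ (D.φ x) ∧ D.toEmb.IsZ (D.φ (a * x))} =
        ((centList 7).filter fun n => zSevenB (codeN n) && zSevenB (mulF ac (codeN n))).length := by
    intro a ac ha hac
    rw [← List.length_map (as := (centList 7).filter _) (f := fun n => n), List.map_id']
    classical
    have := Fintype.ofFinite HS
    let L := (centList 7).filter fun n => zSevenB (codeN n) && zSevenB (mulF ac (codeN n))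
    have hE' : Enum (fun x => x * rep 7 = rep 7 * x ∧ D.toEmb.IsZ (D.φ x) ∧ D.toEmb.IsZ (D.φ (a * x))) L := by
      refine ⟨hE.nodup.filter _, fun n hn => hE.lt n (List.mem_filter.mp hn).1, fun x => ⟨?_, ?_⟩⟩
      · rintro ⟨hc, h1, h2'⟩
        obtain ⟨n, hn, rfl⟩ := (hE.mem x).mp hc
        refine ⟨n, List.mem_filter.mpr ⟨hn, ?_⟩, rfl⟩
        rw [Bool.and_eq_true, ← sound (hasCode_eltN n) (hall n hn).1.1,
          ← sound (ha.mul (hasCode_eltN n)) (hac n hn)]
        exact ⟨h1, h2'⟩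
      · rintro ⟨n, hn, rfl⟩
        obtain ⟨hn, hf⟩ := List.mem_filter.mp hn
        rw [Bool.and_eq_true, ← sound (hasCode_eltN n) (hall n hn).1.1,
          ← sound (ha.mul (hasCode_eltN n)) (hac n hn)] at hf
        exact ⟨(hE.mem _).mpr ⟨n, hn, rfl⟩, hf⟩
    exact hE'.card_eq
  have hA := count Zh sCode Zh_code fun n hn => (hall n hn).1.2
  have hB := count (rep 7) (clsCode 7) hr fun n hn => (hall n hn).2
  have hfin : Finite HS := Finite.of_injective D.φ D.inj
  have pre : ∀ x : HS, x * rep 7 = rep 7 * x → ∃ x' : HS, D.φ x' = h * D.φ x * h⁻¹ ∧ x' * rep 7 = rep 7 * x' := by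
    intro x hx
    have e : h * D.φ x * h⁻¹ * D.z = D.z * (h * D.φ x * h⁻¹) := by
      rw [← hhr]
      exact Emb.comm_conj (by rw [← map_mul, ← map_mul, hx])
    obtain ⟨x', hx'⟩ := (D.mem_range _).mp e
    refine ⟨x', hx', D.inj ?_⟩
    rw [map_mul, map_mul, hx', ← hhz]
    exact Emb.comm_conj (D.comm_z x)
  choose f hf1 hf2 using pre
  have hle : Nat.card {x : HS // x * rep 7 = rep 7 * x ∧ D.toEmb.IsZ (D.φ x) ∧ D.toEmb.IsZ (D.φ (Zh * x))} ≤
      Nat.card {x : HS // x * rep 7 = rep 7 * x ∧ D.toEmb.IsZ (D.φ x) ∧ D.toEmb.IsZ (D.φ (rep 7 * x))} := by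
    refine Nat.card_le_card_of_injective (fun x => ⟨f x.1 x.2.1, hf2 _ _, ?_, ?_⟩) fun x x' e => ?_
    · rw [hf1]; exact D.toEmb.isZ_conj x.2.2.1 h
    · rw [map_mul, hf1, ← hhz, show h * D.z * h⁻¹ * (h * D.φ x.1 * h⁻¹) = h * (D.z * D.φ x.1) * h⁻¹ by group,
        ← D.map_Zh, ← map_mul]
      exact D.toEmb.isZ_conj x.2.2.2 h
    · have e1 : f x.1 x.2.1 = f x'.1 x'.2.1 := congrArg Subtype.val e
      have e2 := congrArg D.φ e1
      rw [hf1, hf1] at e2
      exact Subtype.ext (D.inj (mul_left_cancel (mul_right_cancel e2)))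
  rw [hA, hB] at hle
  exact absurd hlt (Nat.not_lt.mpr hle)

variable {D} {T : Top G} (hφ : T.toEmb = D.toEmb) (hG : T.G0 = D.gens5)

/-- The element acts as a transvection on the subgroup of order sixteen. -/
def ActTransv (T : Top G) (E : ℕ → G) (t : G) : Prop :=
  t ∈ T.G0 ∧ t * t = 1 ∧ ∃ a m v : ℕ, a < 16 ∧ m < 16 ∧ v < 16 ∧ a ≠ 0 ∧ v ≠ 0 ∧ v ≠ a ∧ t * E a = E a * t ∧
    t * E v = E v * t ∧ t * E m * t⁻¹ = E m * E a ∧ ∀ e < 16, t * E e * t⁻¹ = E e ∨ t * E e * t⁻¹ = E e * E a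

/-- The facts about the subgroup of order sixteen used in the argument. -/
structure ESub (T : Top G) (E : ℕ → G) : Prop where
  one : E 0 = 1
  inj : ∀ a < 16, ∀ b < 16, E a = E b → a = b
  mem : ∀ e < 16, E e ∈ T.G0
  isZ : ∀ e < 16, e ≠ 0 → T.IsZ (E e)
  nrm : ∀ g ∈ T.G0, ∀ e < 16, ∃ e' < 16, g * E e * g⁻¹ = E e'
  zE : ∀ y ∈ T.G0, T.IsZ y → ∃ e < 16, E e = y
  mul : ∀ a < 16, ∀ b < 16, ∃ c < 16, E c = E a * E b

theorem ESub.in_z {E : ℕ → G} (S : ESub T E) {a i : G} (ha : a ∈ T.G0) (hi : i ∈ T.G0) (hza : T.IsZ a)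
    (hz : T.IsZ (a * i)) (hi1 : i ≠ 1) : T.IsZ i := by
  obtain ⟨p, hp, e1⟩ := S.zE a ha hza
  obtain ⟨q, hq, e2⟩ := S.zE _ (mul_mem ha hi) hz
  obtain ⟨c, hc, e3⟩ := S.mul p hp q hq
  have e : E c = i := by rw [e3, e1, e2, ← mul_assoc, T.isZ_sq hza, one_mul]
  refine e ▸ S.isZ c hc fun h => hi1 ?_
  rw [← e, h, S.one]

/-- The centraliser of an element acting as a transvection lies in the subgroup. -/
theorem ESub.cent_transv {E : ℕ → G} (S : ESub T E) {t : G} (ht : ActTransv T E t) {l : G}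
    (hl : l * t = t * l) : l ∈ T.G0 := by
  obtain ⟨ht0, -, a, m, v, ha, hm, hv, ha0, hv0, hva, hta, htv, htm, hall⟩ := ht
  by_contra hlG
  have hza := S.isZ a ha ha0
  have hzv := S.isZ v hv hv0
  set x := l * E v * l⁻¹ with hx
  have hxz : T.IsZ x := T.isZ_conj hzv l
  have htx : t * x = x * t := by
    rw [hx]
    have e := Emb.comm_conj (g := l) htv
    rwa [show l * t * l⁻¹ = t by rw [hl, mul_inv_cancel_right]] at e
  rcases dihedral_cases (T.isZ_sq hza) (T.isZ_sq hxz) with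
    ⟨y, -, hy, hyc, -⟩ | ⟨i, hi, hi1, hiu, hix, -, b, c, -, hcase⟩
  · set d := l⁻¹ * y with hd
    have hde : d * E a * d⁻¹ = E v := by
      rw [hd, show l⁻¹ * y * E a * (l⁻¹ * y)⁻¹ = l⁻¹ * (y * E a * y⁻¹) * l by group, hy, hx]; group
    have hd0 : d ∈ T.G0 := T.single_isZ hzv (S.mem v hv) (by
      rw [← hde, show d⁻¹ * (d * E a * d⁻¹) * d = E a by group]; exact S.mem a ha)
    have hdt : d * t = t * d := by
      have h1 : Commute t l := hl.symm
      exact ((h1.inv_right).mul_right (show Commute t y from hyc t hta htx)).symm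
    obtain ⟨q, hq, eq⟩ := S.nrm d hd0 m hm
    rcases hall q hq with h | h
    · have e : d * (E m * E a) * d⁻¹ = d * E m * d⁻¹ := by
        rw [← htm, show d * (t * E m * t⁻¹) * d⁻¹ = (d * t) * E m * (d * t)⁻¹ by group, hdt,
          show t * d * E m * (t * d)⁻¹ = t * (d * E m * d⁻¹) * t⁻¹ by group, eq, h]
      have e' : E a = 1 := by
        have := mul_left_cancel (mul_right_cancel e)
        exact mul_eq_left.mp this
      exact ha0 (S.inj a ha 0 (by norm_num) (e'.trans S.one.symm))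
    · have e : d * (E m * E a) * d⁻¹ = d * E m * d⁻¹ * E a := by
        rw [← htm, show d * (t * E m * t⁻¹) * d⁻¹ = (d * t) * E m * (d * t)⁻¹ by group, hdt,
          show t * d * E m * (t * d)⁻¹ = t * (d * E m * d⁻¹) * t⁻¹ by group, eq, h]
      rw [show d * (E m * E a) * d⁻¹ = d * E m * d⁻¹ * (d * E a * d⁻¹) by group] at e
      exact hva (S.inj v hv a ha (hde ▸ mul_left_cancel e))
  · have hi0 : i ∈ T.G0 := T.cent_isZ hza (S.mem a ha) hiu
    have hil : l⁻¹ * i * l ∈ T.G0 := by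
      refine T.cent_isZ hzv (S.mem v hv) ?_
      have e := Emb.comm_conj (g := l⁻¹) hix
      rw [hx, show l⁻¹ * (l * E v * l⁻¹) * l⁻¹⁻¹ = E v by group, inv_inv] at e
      exact e
    have hz : T.IsZ (E a * i) := by
      rcases hcase with ⟨q, -⟩ | ⟨q, -⟩
      · exact q ▸ T.isZ_conj hza b
      · exact q ▸ T.isZ_conj hxz b
    exact hlG (T.single_isZ (S.in_z (S.mem a ha) hi0 hza hz hi1) hi0 hil)

/-- An involution with centraliser in the subgroup fixes a single coset. -/
theorem single_of_comm {i : G} (hi : i * i = 1) (hi1 : i ≠ 1) (hiz : ¬ T.IsZ i) (hi0 : i ∈ T.G0)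
    (hc : ∀ l : G, l * i = i * l → l ∈ T.G0) {g : G} (hg : g⁻¹ * i * g ∈ T.G0) : g ∈ T.G0 := by
  have key : ∀ p ∈ Subgroup.zpowers i, p = 1 ∨ p = i := by
    intro p hp
    obtain ⟨n, rfl⟩ := hp
    rcases Int.even_or_odd n with ⟨m, rfl⟩ | ⟨m, rfl⟩
    · left
      show i ^ (m + m) = 1
      rw [zpow_add, ← (Commute.refl i).mul_zpow, hi, one_zpow]
    · right
      show i ^ (2 * m + 1) = i
      rw [zpow_add, zpow_one, two_mul, zpow_add, ← (Commute.refl i).mul_zpow, hi, one_zpow, one_mul]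
  have hP : T.Pure (Subgroup.zpowers i) := by
    refine ⟨Subgroup.zpowers_le.mpr hi0, fun p hp => ?_, fun p hp => ?_⟩
    · rcases key p hp with rfl | rfl
      · exact one_mul 1
      · exact hi
    · rcases key p hp with rfl | rfl
      · exact T.not_isZ_one
      · exact hiz
  refine Top.single_of_cent hP (fun l hl => hc l (hl i (Subgroup.mem_zpowers i))) g fun p hp => ?_
  rcases key p hp with rfl | rfl
  · simpa using T.G0.one_mem
  · exact hg

/-- The centraliser of an element of the remaining class lies in the subgroup. -/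
theorem ESub.cent_other {E : ℕ → G} (S : ESub T E) {t c : G} {v : ℕ} (hv : v < 16) (hv0 : v ≠ 0)
    (htv : t * E v = E v * t) (hct : c * t = t * c) (hc0 : c ∈ T.G0) (hc2 : c * c = 1)
    (hcz : ¬ T.IsZ c) (hcC : ∀ l : G, l * c = c * l → l ∈ T.G0)
    (hce : ∀ e < 16, c * E e = E e * c → (c * E e) * (c * E e) = 1 ∧ ¬ T.IsZ (c * E e) ∧
      ∀ l : G, l * (c * E e) = c * E e * l → l ∈ T.G0) {l : G} (hl : l * t = t * l) : l ∈ T.G0 := by
  by_contra hlG
  have hzv := S.isZ v hv hv0
  set x := l * E v * l⁻¹ with hx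
  have hxz : T.IsZ x := T.isZ_conj hzv l
  rcases dihedral_cases hc2 (T.isZ_sq hxz) with
    ⟨y, -, hy, -⟩ | ⟨i, hi, hi1, hic, hix, hcent, a, b, -, hcase⟩
  · exact hcz ((T.isZ_conj_iff y).mp (hy ▸ hxz))
  have hi0 : i ∈ T.G0 := hcC i hic
  have hil : l⁻¹ * i * l ∈ T.G0 := by
    refine T.cent_isZ hzv (S.mem v hv) ?_
    have e := Emb.comm_conj (g := l⁻¹) hix
    rw [hx, show l⁻¹ * (l * E v * l⁻¹) * l⁻¹⁻¹ = E v by group, inv_inv] at e
    exact e
  rcases hcase with ⟨-, q⟩ | ⟨q, -⟩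
  · have h1 := T.isZ_conj (q ▸ T.isZ_conj hxz b) l⁻¹
    rw [show l⁻¹ * (x * i) * l⁻¹⁻¹ = E v * (l⁻¹ * i * l) by rw [hx]; group] at h1
    have h2 := S.in_z (S.mem v hv) hil hzv h1 (fun e => hi1 (by
      calc i = l * (l⁻¹ * i * l) * l⁻¹ := by group
        _ = 1 := by rw [e]; group))
    have h3 := T.isZ_conj h2 l
    rw [show l * (l⁻¹ * i * l) * l⁻¹ = i by group] at h3
    exact hlG (T.single_isZ h3 hi0 hil)
  · obtain ⟨e, he, hee⟩ := S.zE _ (mul_mem hc0 hi0) (q ▸ T.isZ_conj hxz a)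
    have hie : c * E e = i := by rw [hee, ← mul_assoc, hc2, one_mul]
    obtain ⟨-, hnz, hC⟩ := hce e he (by rw [hee]; rw [mul_assoc, hic])
    rw [hie] at hnz hC
    exact hlG (single_of_comm hi hi1 hnz hi0 hC hil)

/-- The checks of the orbit needed for the stabiliser. -/
theorem l5Path_zero : l5Path.getD 0 [] = [] := by decide

theorem pStab_eq : ∀ g : SL5, (g : Matrix (Fin 5) (Fin 5) (ZMod 2)) * mat l5V = mat l5V →
    g ∈ Subgroup.closure (pCtx.τ '' Set.Iio 5) := by
  intro g hg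
  have hk := l5Orbit_ok
  simp only [l5OrbitOK, Bool.and_eq_true, List.all_eq_true, List.mem_range, Nat.beq_eq, blt_iff,
    Bool.not_eq_true', ← Bool.not_eq_true] at hk
  obtain ⟨-, hp⟩ := hk
  set A := Subgroup.closure (pCtx.τ '' Set.Iio 5)
  let f : Fin 31 × A → SL5 := fun p => pTwo.ev (l5Path.getD p.1.1 []) * p.2.1
  have hval : ∀ p : Fin 31 × A, ((f p : SL5) : Matrix (Fin 5) (Fin 5) (ZMod 2)) * mat l5V =
      mat (mulF (evC (fun j => if j < 5 then pLet j else pLetT 4) (l5Path.getD p.1.1 [])) l5V) := fun p => by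
    rw [Matrix.SpecialLinearGroup.coe_mul, Matrix.mul_assoc, pModel_fix p.2.2, pTwo_ev _ (hp _ p.1.2).1, mat_mulF]
  have hinj : Function.Injective f := by
    rintro ⟨a, x⟩ ⟨b, y⟩ h
    have hm := congrArg (fun g : SL5 => (g : Matrix (Fin 5) (Fin 5) (ZMod 2)) * mat l5V) h
    simp only [hval] at hm
    have he := mat_injective (mulF_lt _ _) (mulF_lt _ _) hm
    have hab : a = b := by
      rcases Nat.lt_trichotomy a.1 b.1 with hl | hl | hl
      · exact absurd he.symm ((hp _ b.2).2 a.1 hl)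
      · exact Fin.ext hl
      · exact absurd he ((hp _ a.2).2 b.1 hl)
    subst hab
    exact Prod.ext rfl (Subtype.ext (mul_left_cancel h))
  have hsurj : Function.Surjective f := by
    refine ((Nat.bijective_iff_injective_and_card f).mpr ⟨hinj, le_antisymm
      (Nat.card_le_card_of_injective f hinj) ?_⟩).2
    rw [card_SL52, Nat.card_prod, Nat.card_eq_fintype_card (α := Fin 31), Fintype.card_fin]
    exact Nat.mul_le_mul_left _ card_pModel
  obtain ⟨⟨a, x⟩, rfl⟩ := hsurj g
  have h0 := hval ⟨a, x⟩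
  rw [hg] at h0
  have hV : mulF (evC (fun j => if j < 5 then pLet j else pLetT 4) (l5Path.getD 0 [])) l5V = l5V := by decide +kernel
  rw [← hV] at h0
  have he := mat_injective (mulF_lt _ _) (mulF_lt _ _) h0
  have ha : a = ⟨0, by norm_num⟩ := by
    refine Fin.ext ?_
    show a.1 = 0
    by_contra hne
    exact (hp _ a.2).2 0 (Nat.pos_of_ne_zero hne) he.symm
  show pTwo.ev (l5Path.getD a.1 []) * x.1 ∈ A
  rw [ha, l5Path_zero, show pTwo.ev [] = 1 from rfl, one_mul]
  exact x.2

attribute [local irreducible] clsOf codeN mulF centList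

set_option maxHeartbeats 1000000 in
/-- With an exchanging element of the last kind on one side only the five letters generate the group, which is the
stabiliser of a vector. -/
theorem p_iso (D : Ctx G 3) (h2 : ¬ D.toEmb.IsZ (D.φ (rep 2))) :
    D.gens5 = ⊤ ∧ ∃ v : Fin 5 → ZMod 2, v ≠ 0 ∧ Nonempty (G ≃* MulAction.stabilizer SL5 v) := by
  have hz : ∀ j ∈ [3, 6], ∃ g ∈ D.gens5, g * D.z * g⁻¹ = D.φ (rep j) := by
    intro j hj
    simp only [List.mem_cons, List.not_mem_nil, or_false] at hj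
    rcases hj with rfl | rfl
    · obtain ⟨u, hu⟩ := rep_three
      refine ⟨(D.φ u)⁻¹ * D.s, mul_mem (inv_mem (D.φ_mem_gens5 u)) D.s_mem_gens5, ?_⟩
      rw [show (D.φ u)⁻¹ * D.s * D.z * ((D.φ u)⁻¹ * D.s)⁻¹ = (D.φ u)⁻¹ * (D.s * D.z * D.s⁻¹) * D.φ u by group,
        D.s_z, ← hu, map_mul, map_mul, map_inv]
      group
    · exact ⟨1, one_mem _, by rw [rep_six, D.map_Zh]; group⟩
  have hnz : ∀ j < 8, j ∉ [3, 6] → ¬ D.toEmb.IsZ (D.φ (rep j)) := by
    intro j hj hjz
    by_cases h7 : j = 7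
    · exact h7 ▸ no_seven D h2
    · exact no_four D h2 (by interval_cases j <;> simp at hjz h7 ⊢)
  set T := D.top hz hnz with hT
  have K : Case T [3, 6] := D.top_case hz hnz (by decide) (by decide)
  let E : ℕ → G := fun e => D.φ (pel e)
  have S : ESub T E := by
    refine ⟨by rw [show E 0 = D.φ (pel 0) from rfl, pel_zero, map_one], fun a ha b hb h => pel_inj ha hb (D.inj h),
      fun e _ => T.φ_mem _, fun e he he0 => pel_isZ D he he0, fun g hg e he => pel_gens D hg e he, ?_, ?_⟩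
    · intro y hy hyz
      obtain ⟨h, hh, hs⟩ := Case.exists_shift (D := T) (S := Subgroup.zpowers y) (IsPGroup.of_card (n := 1) (by
        rw [Nat.card_zpowers, orderOf_eq_prime (by rw [pow_two]; exact T.isZ_sq hyz) (T.isZ_one_or hyz), pow_one]))
        (Subgroup.zpowers_le.mpr hy)
      obtain ⟨x, hx⟩ := hs y (Subgroup.mem_zpowers y)
      have hxz : T.IsZ (T.φ x) := by
        rw [hx]
        simpa [mul_assoc] using T.isZ_conj hyz h⁻¹
      have hx2 : x * x = 1 := T.inj (by rw [map_mul, map_one]; exact T.isZ_sq hxz)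
      have hx1 : x ≠ 1 := by rintro rfl; rw [map_one] at hxz; exact T.not_isZ_one hxz
      obtain ⟨k, hk, u, rfl⟩ := inv_cases hx2 hx1
      have hk36 : k ∈ [3, 6] := by
        by_contra hn
        rw [map_mul, map_mul, map_inv, T.isZ_conj_iff] at hxz
        exact K.hnz k hk hn hxz
      obtain ⟨e, he, hee⟩ := rep_in_E (j := k) (by simpa using hk36)
      obtain ⟨e', he', q⟩ := pel_gens D (mul_mem hh (D.φ_mem_gens5 u)) e he
      refine ⟨e', he', ?_⟩
      show D.φ (pel e') = y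
      rw [← q, hee]
      calc h * D.φ u * D.φ (rep k) * (h * D.φ u)⁻¹ = h * D.φ (u * rep k * u⁻¹) * h⁻¹ := by
            rw [map_mul, map_mul, map_inv]; group
        _ = h * (h⁻¹ * y * h) * h⁻¹ := congrArg (fun t => h * t * h⁻¹) hx
        _ = y := by group
    · intro a ha b hb
      have hk : ((List.range 16).all fun a => (List.range 16).all fun b =>
          pEC.contains (mulF (pEC.getD a 0) (pEC.getD b 0))) = true := by decide +kernel
      simp only [List.all_eq_true, List.mem_range] at hk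
      obtain ⟨c, hc, e⟩ := exists_pel (hk a ha b hb) ((hasCode_pel ha).mul (hasCode_pel hb))
      exact ⟨c, hc, by show D.φ (pel c) = D.φ _ * D.φ _; rw [e, map_mul]⟩
  have htv := tv_ok
  simp only [tvOK, tvCheck, force_eq, Bool.and_eq_true, List.all_eq_true, List.any_eq_true, List.mem_range, blt_iff,
    Nat.beq_eq, Bool.not_eq_true', ← Bool.not_eq_true, Bool.or_eq_true] at htv
  obtain ⟨⟨h5, -⟩, ⟨⟨⟨hcr, hcc⟩, hctv⟩, hcE⟩, v7, hv7, hv70, hv7c⟩ := htv
  -- centralisers of the elements acting as transvections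
  have transv : ∀ {y : HS} {k : ℕ}, tvB k = true → ∀ {t : G}, D.φ (y * rep k * y⁻¹) = t →
      (¬ T.IsZ t) ∧ ∀ l : G, l * t = t * l → l ∈ T.G0 := by
    intro y k hk t ht
    simp only [tvB, Bool.and_eq_true, blt_iff, Bool.not_eq_true', ← Bool.not_eq_true, Nat.beq_eq] at hk
    have hk5 : k ∈ [0, 1, 2, 4, 5] := by
      obtain ⟨h6, h3⟩ := hk
      interval_cases k <;> simp at h3 ⊢
    have hnzk : ¬ T.IsZ (T.φ (rep k)) := K.hnz k (by omega) (by
      intro h; simp at h; omega)
    have hr := rep_hasCode (k := k) (by omega)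
    obtain ⟨⟨⟨⟨⟨⟨⟨⟨⟨la, la0⟩, lm⟩, lv⟩, lv0⟩, lva⟩, ca⟩, cv⟩, cm⟩, call⟩ := h5 k hk5
    set a := (pTv.getD k (0, 0, 0)).1
    set m := (pTv.getD k (0, 0, 0)).2.1
    set v := (pTv.getD k (0, 0, 0)).2.2
    have E1 : ∀ {p q : ℕ}, p < 16 → mulF (clsCode k) (pEC.getD p 0) = mulF q (clsCode k) → ∀ {x : HS},
        HasCode x q → D.φ (rep k) * E p * (D.φ (rep k))⁻¹ = D.φ x := fun {p q} hp h {x} hx => by
      rw [show E p = D.φ (pel p) from rfl, ← map_inv, ← map_mul, ← map_mul]
      refine congrArg D.φ ?_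
      rw [mul_inv_eq_iff_eq_mul]
      exact ((hr.mul (hasCode_pel hp)).eq_iff (hx.mul hr)).mpr h
    have hsq : rep k * rep k = 1 :=
      ((hr.mul hr).eq_iff HasCode.one).mpr ((show ∀ k < 8, mulF (clsCode k) (clsCode k) = oneCode by
        decide +kernel) k (by omega))
    have ht0 : ActTransv T E (D.φ (rep k)) := by
      refine ⟨D.φ_mem_gens5 _, by rw [← map_mul, hsq, map_one], a, m, v, la, lm, lv, la0, lv0, lva, ?_, ?_, ?_, ?_⟩
      · exact mul_inv_eq_iff_eq_mul.mp (E1 la ca (hasCode_pel la))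
      · exact mul_inv_eq_iff_eq_mul.mp (E1 lv cv (hasCode_pel lv))
      · rw [E1 lm cm ((hasCode_pel lm).mul (hasCode_pel la)), map_mul]
      · intro e he
        have hmem : pEC.getD e 0 ∈ pEC := getD_mem (show e < pEC.length from he) 0
        rcases call _ hmem with h | h
        · exact Or.inl (E1 he h (hasCode_pel he))
        · exact Or.inr (by rw [E1 he h ((hasCode_pel he).mul (hasCode_pel la)), map_mul])
    subst ht
    refine ⟨by rw [map_mul, map_mul, map_inv]; exact fun h => hnzk ((T.isZ_conj_iff (D.φ y)).mp h), fun l hl => ?_⟩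
    have h1 : (D.φ y)⁻¹ * l * D.φ y ∈ T.G0 := S.cent_transv ht0 (by
      have e := Emb.comm_conj (g := (D.φ y)⁻¹) hl
      simp only [map_mul, map_inv, inv_inv] at e
      rwa [show (D.φ y)⁻¹ * (D.φ y * D.φ (rep k) * (D.φ y)⁻¹) * D.φ y = D.φ (rep k) by group] at e)
    have := mul_mem (mul_mem (T.φ_mem y) h1) (inv_mem (T.φ_mem y))
    rwa [show T.φ y * ((D.φ y)⁻¹ * l * D.φ y) * (T.φ y)⁻¹ = l by
      show D.φ y * _ * (D.φ y)⁻¹ = l; group] at this
  -- the centralisers of all involutions outside the class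
  have hcent : ∀ k < 8, k ∉ [3, 6] → ∀ l : G, l * D.φ (rep k) = D.φ (rep k) * l → l ∈ T.G0 := by
    intro k hk hkz
    by_cases h7 : k = 7
    · subst h7
      have hc := hasCode_eltN pAux
      have hcl : clsOf (codeN pAux) < 8 := by
        simp only [tvB, Bool.and_eq_true, blt_iff] at hctv; omega
      obtain ⟨y, hy⟩ := inv_entry hc hcl
      obtain ⟨hcz, hcC⟩ := transv hctv (congrArg D.φ hy.symm)
      have hr := rep_hasCode (k := 7) (by norm_num)
      intro l hl
      refine S.cent_other hv7 hv70 ?_ ?_ (T.φ_mem _) ?_ hcz hcC (fun e he hcomm => ?_) hl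
      · show D.φ (rep 7) * D.φ (pel v7) = D.φ (pel v7) * D.φ (rep 7)
        rw [← map_mul, ← map_mul, ((hr.mul (hasCode_pel hv7)).eq_iff ((hasCode_pel hv7).mul hr)).mpr hv7c]
      · show D.φ (eltN pAux) * D.φ (rep 7) = D.φ (rep 7) * D.φ (eltN pAux)
        rw [← map_mul, ← map_mul, ((hc.mul hr).eq_iff (hr.mul hc)).mpr hcr]
      · rw [← map_mul, ((hc.mul hc).eq_iff HasCode.one).mpr hcc, map_one]
      · have hcomm' : eltN pAux * pel e = pel e * eltN pAux := D.inj (by rw [map_mul, map_mul]; exact hcomm)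
        have hm := hcE _ (getD_mem (show e < pEC.length from he) 0)
        have hcd := (hc.mul (hasCode_pel he))
        have htv' : tvB (clsOf (mulF (codeN pAux) (pEC.getD e 0))) = true :=
          hm.resolve_left fun h => h ((hcd.eq_iff ((hasCode_pel he).mul hc)).mp hcomm')
        obtain ⟨y', hy'⟩ := inv_entry hcd (by simp only [tvB, Bool.and_eq_true, blt_iff] at htv'; omega)
        have := transv htv' (congrArg D.φ hy'.symm)
        rw [map_mul] at this
        refine ⟨?_, this⟩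
        have he2 : pel e * pel e = 1 := by
          by_cases he0 : e = 0
          · rw [he0, pel_zero, one_mul]
          · exact D.inj (by rw [map_mul, map_one]; exact D.toEmb.isZ_sq (pel_isZ D he he0))
        show D.φ _ * D.φ _ * (D.φ _ * D.φ _) = 1
        rw [← map_mul, ← map_mul, show eltN pAux * pel e * (eltN pAux * pel e) = 1 by
          calc eltN pAux * pel e * (eltN pAux * pel e) = eltN pAux * (pel e * eltN pAux) * pel e := by group
            _ = eltN pAux * eltN pAux * (pel e * pel e) := by rw [← hcomm']; group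
            _ = 1 := by rw [((hc.mul hc).eq_iff HasCode.one).mpr hcc, he2, one_mul], map_one]
    · refine (transv (y := 1) (k := k) ?_ (t := D.φ (rep k)) (by group)).2
      interval_cases k <;> simp [tvB] at hkz h7 ⊢ <;> decide
  have hsingle : ∀ i ∈ T.G0, i * i = 1 → i ≠ 1 → ¬ T.IsZ i → ∀ g, g⁻¹ * i * g ∈ T.G0 → g ∈ T.G0 := by
    intro i hi0 hi hi1 hiz g hg
    refine single_of_comm hi hi1 hiz hi0 (fun l hl => ?_) hg
    obtain ⟨h, hh, hs⟩ := Case.exists_shift (D := T) (S := Subgroup.zpowers i) (IsPGroup.of_card (n := 1) (by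
      rw [Nat.card_zpowers, orderOf_eq_prime (by rw [pow_two]; exact hi) hi1, pow_one]))
      (Subgroup.zpowers_le.mpr hi0)
    obtain ⟨x, hx⟩ := hs i (Subgroup.mem_zpowers i)
    have hx2 : x * x = 1 := T.inj (by
      rw [map_mul, hx, map_one, show h⁻¹ * i * h * (h⁻¹ * i * h) = h⁻¹ * (i * i) * h by group, hi]; group)
    have hx1 : x ≠ 1 := fun e => hi1 (by
      rw [e, map_one] at hx
      calc i = h * (h⁻¹ * i * h) * h⁻¹ := by group
        _ = 1 := by rw [← hx]; group)
    obtain ⟨k, hk, y, rfl⟩ := inv_cases hx2 hx1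
    set m := h * T.φ y with hm
    have him : i = m * D.φ (rep k) * m⁻¹ := by
      rw [hm, show h * T.φ y * D.φ (rep k) * (h * T.φ y)⁻¹ = h * T.φ (y * rep k * y⁻¹) * h⁻¹ by
        rw [map_mul, map_mul, map_inv]; show h * D.φ y * _ * _ = h * (D.φ y * D.φ _ * _) * _; group, hx]
      group
    have hkz : k ∉ [3, 6] := fun hkz => hiz (him ▸ T.isZ_conj (K.hz k hkz) m)
    have hm0 : m ∈ T.G0 := mul_mem hh (T.φ_mem y)
    have h1 : m⁻¹ * l * m ∈ T.G0 := hcent k hk hkz _ (by
      have e := Emb.comm_conj (g := m⁻¹) hl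
      rw [inv_inv, him, show m⁻¹ * (m * D.φ (rep k) * m⁻¹) * m = D.φ (rep k) by group] at e
      exact e)
    have := mul_mem (mul_mem hm0 h1) (inv_mem hm0)
    rwa [show m * (m⁻¹ * l * m) * m⁻¹ = l by group] at this
  have h00 : ¬ T.IsZ (T.φ (rep 0)) := K.hnz 0 (by norm_num) (by decide)
  have hsq0 : rep 0 * rep 0 = 1 :=
    (((rep_hasCode (k := 0) (by norm_num)).mul (rep_hasCode (by norm_num))).eq_iff HasCode.one).mpr (by decide +kernel)
  have htop : T.G0 = ⊤ := T.eq_top (T.φ_mem (rep 0)) (by rw [← map_mul, hsq0, map_one]) h00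
    (fun e => Case.clsCode_ne 0 (by norm_num) ((rep_hasCode (k := 0) (by norm_num)).eq
      (T.inj (e.trans (map_one T.φ).symm) ▸ HasCode.one))) hsingle
  obtain ⟨θ, hinj, hθ⟩ := exists_pHom D
  have hle : D.gens5 ≤ θ.range := (Subgroup.closure_le _).mpr (by
    rintro _ ⟨i, hi, rfl⟩
    exact ⟨_, hθ i hi⟩)
  have hsurj : Function.Surjective θ := fun g => hle (show g ∈ T.G0 from htop.symm ▸ Subgroup.mem_top g)
  have hV : ∀ i j : Fin 5, mat l5V i j = if j = 0 then (![1, 0, 0, 0, 0] : Fin 5 → ZMod 2) i else 0 := by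
    intro i j; fin_cases i <;> fin_cases j <;> decide +kernel
  refine ⟨htop, ![1, 0, 0, 0, 0], fun h => one_ne_zero (α := ZMod 2) (congrFun h 0),
    ⟨(MulEquiv.ofBijective θ ⟨hinj, hsurj⟩).symm.trans (MulEquiv.subgroupCongr ?_)⟩⟩
  ext g
  have key : (g : Matrix (Fin 5) (Fin 5) (ZMod 2)) * mat l5V = mat l5V ↔
      g • (![1, 0, 0, 0, 0] : Fin 5 → ZMod 2) = ![1, 0, 0, 0, 0] := by
    rw [Matrix.SpecialLinearGroup.smul_def]
    generalize (![1, 0, 0, 0, 0] : Fin 5 → ZMod 2) = v at hV ⊢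
    constructor
    · intro h
      funext i
      have := congrFun (congrFun h i) 0
      simpa [Matrix.mul_apply, hV, Matrix.mulVec, dotProduct] using this
    · intro h
      ext i j
      have := congrFun h i
      by_cases hj : j = 0
      · subst hj
        simpa [Matrix.mul_apply, hV, Matrix.mulVec, dotProduct] using this
      · simp [Matrix.mul_apply, hV, hj]
  rw [MulAction.mem_stabilizer_iff, ← key]
  exact ⟨pModel_fix, pStab_eq g⟩

/-- In the last case the group has a proper normal subgroup of order sixteen. -/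
theorem p_not_simple (D : Ctx G 3) (h2 : ¬ D.toEmb.IsZ (D.φ (rep 2))) [IsSimpleGroup G] : False := by
  have htop := (p_iso D h2).1
  let N := Subgroup.closure {g : G | ∃ e < 16, D.φ (pel e) = g}
  have hN : N.Normal := ⟨fun n hn g => by
    have hg : g ∈ D.gens5 := htop ▸ Subgroup.mem_top g
    induction hn using Subgroup.closure_induction with
    | mem x hx =>
      obtain ⟨e, he, rfl⟩ := hx
      obtain ⟨e', he', q⟩ := pel_gens D hg e he
      exact Subgroup.subset_closure ⟨e', he', q.symm⟩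
    | one => simp
    | mul x y _ _ hx hy => simpa [mul_assoc] using mul_mem hx hy
    | inv x _ hx => simpa [mul_assoc] using inv_mem hx⟩
  rcases hN.eq_bot_or_eq_top with h | h
  · have hm : D.z ∈ N := Subgroup.subset_closure ⟨pZ, pZ_lt.1, by rw [pZ_lt.2, D.map_Zh]⟩
    exact D.toEmb.z_ne (Subgroup.mem_bot.mp (h ▸ hm))
  · have hcom : ∀ x ∈ N, x * D.φ (pel 1) = D.φ (pel 1) * x := by
      intro x hx
      induction hx using Subgroup.closure_induction with
      | mem x hx =>
        obtain ⟨e, he, rfl⟩ := hx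
        rw [← map_mul, ← map_mul, ((hasCode_pel he).mul (hasCode_pel (e := 1) (by norm_num))).eq_iff
          ((hasCode_pel (e := 1) (by norm_num)).mul (hasCode_pel he)) |>.mpr ?_]
        have hk : ((List.range 16).all fun e => Nat.beq (mulF (pEC.getD e 0) (pEC.getD 1 0))
            (mulF (pEC.getD 1 0) (pEC.getD e 0))) = true := by decide +kernel
        exact Nat.eq_of_beq_eq_true (List.all_eq_true.mp hk e (List.mem_range.mpr he))
      | one => simp
      | mul x y _ _ hx hy => rw [mul_assoc, hy, ← mul_assoc, hx, mul_assoc]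
      | inv x _ hx => exact (show Commute x _ from hx).inv_left
    have hz : D.s * D.z * D.s⁻¹ = D.z := by
      rw [mul_inv_eq_iff_eq_mul, ← D.map_Zh, ← pZ_lt.2, show pZ = 1 from rfl]
      exact hcom _ (h ▸ Subgroup.mem_top _)
    rw [D.s_z, ← D.map_Zh] at hz
    exact absurd ((hasCode_Xh.eq_iff Zh_code).mp (D.inj hz)) (by decide)

end CfsgLib.HeldRecog
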