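/-
Chains of conjugations refuting two of the automorphisms.
-/
import Mathlib.Data.Nat.Notation
import Mathlib.Data.List.Basic

set_option autoImplicit false
set_option maxRecDepth 100000

namespace CfsgLib.HeldRecog

/-- The starting element and the steps. -/
def refOne : ℕ × List (ℕ × List ℕ × List ℕ × List ℕ × ℕ × ℕ) := (29660257, [(1, [], [4], [5, 4, 1, 0, 1, 0], 18092097, 17077729),
  (0, [2], [], [], 18125889, 17077729),
  (1, [], [3, 0, 2, 1, 0, 2, 3, 2], [3, 0, 1, 2, 0, 2, 3, 0, 2, 0], 18125889, 29660257),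
  (0, [2], [], [], 18092097, 29533281),
  (1, [], [5], [4, 1, 0, 1], 17043553, 30581825)])

/-- The starting element and the steps. -/
def refTwo : ℕ × List (ℕ × List ℕ × List ℕ × List ℕ × ℕ × ℕ) := (18100577, [(1, [], [4], [0, 3, 1, 0], 18092097, 25441601),
  (0, [0], [], [], 17044577, 26489185),
  (1, [], [3, 2, 3, 2, 0, 1, 2, 0], [2, 0, 3, 1, 0, 2], 26482017, 25441377),
  (0, [0], [], [], 18101345, 26488897),
  (1, [], [5, 0, 2, 3, 2, 0], [5, 0, 2, 3, 2, 1, 0], 26488929, 17052769),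
  (0, [1, 2], [], [], 25433441, 17051745),
  (1, [], [3, 2, 0, 1, 2, 0, 3, 1], [3, 2, 1, 0, 2, 3, 1], 17044545, 18101601),
  (0, [0, 3, 0, 3], [], [], 18092097, 26482017),
  (1, [], [5], [3, 0, 1, 2, 0, 2, 3, 1], 17043553, 17044577)])

end CfsgLib.HeldRecog
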