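/-
Two of the four automorphisms cannot occur.
-/
import Cfsg.Agent.Lib.HeldRecog.Normal
import Cfsg.Agent.Lib.HeldRecog.Codes
import Cfsg.Agent.Lib.HeldRecog.RefuteData
import Cfsg.Agent.Lib.HeldRecog.Local

set_option autoImplicit false
set_option maxRecDepth 100000

namespace CfsgLib.HeldRecog

open CfsgLib.CosetEnum CfsgLib.HeCent

/-- The check of a step. -/
noncomputable def stepB (img : List ℕ) (st : ℕ × List ℕ × List ℕ × List ℕ × ℕ × ℕ) (z x : ℕ) : Bool :=
  Nat.blt st.2.2.2.2.1 (2 ^ 25) && Nat.blt st.2.2.2.2.2 (2 ^ 25) &&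
    (cond (Nat.beq st.1 0)
      (Nat.beq (mulF (wCode st.2.1) z) (mulF st.2.2.2.2.1 (wCode st.2.1)) &&
        Nat.beq (mulF (wCode st.2.1) x) (mulF st.2.2.2.2.2 (wCode st.2.1)))
      (letters6 st.2.2.1 && letters6 st.2.2.2.1 && Nat.beq (evC srcC st.2.2.1) z &&
        Nat.beq (evC srcC st.2.2.2.1) x &&
        Nat.beq (mulF (wCode st.2.1) (evC (tgtC img) st.2.2.1)) (mulF st.2.2.2.2.1 (wCode st.2.1)) &&
        Nat.beq (mulF (wCode st.2.1) (evC (tgtC img) st.2.2.2.1)) (mulF st.2.2.2.2.2 (wCode st.2.1))))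

/-- The check of a chain of conjugations of two elements. -/
noncomputable def chainB (img : List ℕ) : List (ℕ × List ℕ × List ℕ × List ℕ × ℕ × ℕ) → ℕ → ℕ → ℕ → ℕ → Bool
  | [], z, x, z', x' => Nat.beq z z' && Nat.beq x x'
  | st :: l, z, x, z', x' => stepB img st z x && chainB img l st.2.2.2.2.1 st.2.2.2.2.2 z' x'

/-- The last element reached. -/
def lastX (st : ℕ × List (ℕ × List ℕ × List ℕ × List ℕ × ℕ × ℕ)) : ℕ :=
  ((st.2.map fun t => t.2.2.2.2.2).getLast?).getD st.1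

/-- The check of a refutation. -/
noncomputable def refB (img : List ℕ) (st : ℕ × List (ℕ × List ℕ × List ℕ × List ℕ × ℕ × ℕ)) : Bool :=
  chainB img st.2 sCode st.1 sCode (lastX st) && Nat.blt (clsOf st.1) 8 && Nat.blt (clsOf (lastX st)) 8 &&
    !Nat.beq (centSize.getD (clsOf st.1) 0) (centSize.getD (clsOf (lastX st)) 0)

theorem ref_ok : refB (sigImg.getD 1 []) refOne = true ∧ refB (sigImg.getD 2 []) refTwo = true := by
  decide +kernel

variable {G : Type*} [Group G]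

theorem exists_conj_code {w : List ℕ} {x : HS} {c d : ℕ} (hx : HasCode x c) (hd : d < 2 ^ 25)
    (h : mulF (wCode w) c = mulF d (wCode w)) : HasCode (wEl w * x * (wEl w)⁻¹) d := by
  refine ⟨?_, hd⟩
  have hw := hasCode_wEl w
  rw [mx_mul, mx_mul, hw.1, hx.1, mat_mulF, h, ← mat_mulF, ← hw.1, Matrix.mul_assoc, ← mx_mul, mul_inv_cancel,
    mx_one, show mat oneCode = 1 from mat_one, Matrix.mul_one]

theorem chain_sound {k : ℕ} (D : Ctx G k) (hlen : (sigImg.getD k []).length = 4) :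
    ∀ (l : List (ℕ × List ℕ × List ℕ × List ℕ × ℕ × ℕ)) (z x z' x' : ℕ),
    chainB (sigImg.getD k []) l z x z' x' = true →
    ∀ {a b : HS}, HasCode a z → HasCode b x → ∃ (g : G) (a' b' : HS), HasCode a' z' ∧ HasCode b' x' ∧
      g * D.φ a * g⁻¹ = D.φ a' ∧ g * D.φ b * g⁻¹ = D.φ b'
  | [], z, x, z', x', h, a, b, ha, hb => by
    simp only [chainB, Bool.and_eq_true, Nat.beq_eq] at h
    exact ⟨1, a, b, h.1 ▸ ha, h.2 ▸ hb, by group, by group⟩
  | st :: l, z, x, z', x', h, a, b, ha, hb => by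
    simp only [chainB, stepB, Bool.and_eq_true, blt_iff] at h
    obtain ⟨⟨⟨hz1, hx1⟩, hstep⟩, hrest⟩ := h
    suffices H : ∃ (g : G) (a1 b1 : HS), HasCode a1 st.2.2.2.2.1 ∧ HasCode b1 st.2.2.2.2.2 ∧
        g * D.φ a * g⁻¹ = D.φ a1 ∧ g * D.φ b * g⁻¹ = D.φ b1 by
      obtain ⟨g, a1, b1, h1, h2, e1, e2⟩ := H
      obtain ⟨g', a', b', h1', h2', e1', e2'⟩ := chain_sound D hlen l _ _ z' x' hrest h1 h2
      refine ⟨g' * g, a', b', h1', h2', ?_, ?_⟩
      · rw [← e1', ← e1]; group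
      · rw [← e2', ← e2]; group
    cases hs : Nat.beq st.1 0
    · simp only [hs, cond_false, Bool.and_eq_true, Nat.beq_eq] at hstep
      obtain ⟨⟨⟨⟨⟨l1, l2⟩, s1⟩, s2⟩, t1⟩, t2⟩ := hstep
      have key : ∀ {v : List ℕ} {c : ℕ} {e : HS}, letters6 v = true → evC srcC v = c → HasCode e c →
          ∃ y, D.toSwap.Maps e y ∧ HasCode y (evC (tgtC (sigImg.getD k [])) v) := by
        intro v c e hv hc he
        obtain ⟨y, hy, hyc⟩ := Swap.maps_word6 D.pref hlen hv
        have hw : HasCode (v.map srcEl).prod (evC srcC v) := hasCode_evC _ fun j _ => hasCode_srcEl j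
        rw [hw.unique (hc ▸ he)] at hy
        exact ⟨y, hy, hyc⟩
      obtain ⟨y1, m1, c1⟩ := key l1 s1 ha
      obtain ⟨y2, m2, c2⟩ := key l2 s2 hb
      refine ⟨D.φ (wEl st.2.1) * D.s, _, _, exists_conj_code c1 hz1 t1, exists_conj_code c2 hx1 t2, ?_, ?_⟩
      · rw [map_mul, map_mul, map_inv, ← m1]; group
      · rw [map_mul, map_mul, map_inv, ← m2]; group
    · simp only [hs, cond_true, Bool.and_eq_true, Nat.beq_eq] at hstep
      refine ⟨D.φ (wEl st.2.1), _, _, exists_conj_code ha hz1 hstep.1, exists_conj_code hb hx1 hstep.2, ?_, ?_⟩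
      · rw [map_mul, map_mul, map_inv]
      · rw [map_mul, map_mul, map_inv]

theorem ref_false {k : ℕ} (D : Ctx G k) (hlen : (sigImg.getD k []).length = 4)
    {st : ℕ × List (ℕ × List ℕ × List ℕ × List ℕ × ℕ × ℕ)} (h : refB (sigImg.getD k []) st = true) : False := by
  simp only [refB, Bool.and_eq_true, blt_iff, Bool.not_eq_true', ← Bool.not_eq_true, Nat.beq_eq] at h
  obtain ⟨⟨⟨hch, h1⟩, h2⟩, hne⟩ := h
  obtain ⟨y0, hy0⟩ := cls_elem h1
  obtain ⟨g, a', b', ha', hb', e1, e2⟩ := chain_sound D hlen _ _ _ _ _ hch Zh_code hy0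
  rw [ha'.unique Zh_code, D.map_Zh] at e1
  obtain ⟨x, rfl⟩ := (D.mem_range g).mp (mul_inv_eq_iff_eq_mul.mp e1)
  rw [← map_inv, ← map_mul, ← map_mul] at e2
  have e3 := D.inj e2
  obtain ⟨y1, hy1⟩ := inv_entry hb' h2
  refine hne ?_
  rw [← card_cent_rep h1, ← card_cent_rep h2,
    ← Emb.conj_comm_card (show b' = (x * y0) * rep (clsOf st.1) * (x * y0)⁻¹ by rw [← e3]; group),
    Emb.conj_comm_card hy1]

/-- Only the first and the last automorphism occur. -/
theorem not_one_two {k : ℕ} (D : Ctx G k) (hk : k = 1 ∨ k = 2) : False := by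
  rcases hk with rfl | rfl
  · exact ref_false D (by decide) ref_ok.1
  · exact ref_false D (by decide) ref_ok.2

end CfsgLib.HeldRecog
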