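/-
Groups with the involution centraliser of SL(5, 2): the four possibilities.
-/
import Cfsg.Agent.Lib.HeldRecog.HeEnd
import Cfsg.Agent.Lib.HeldRecog.M24End
import Cfsg.Agent.Lib.HeldRecog.L5End
import Cfsg.Agent.Lib.HeldRecog.PEnd
import Cfsg.Agent.Lib.HeldRecog.Branch
import Cfsg.Agent.Lib.HeldRecog.Refute
import Cfsg.Agent.Lib.Basic

set_option autoImplicit false
set_option maxRecDepth 100000

namespace CfsgLib.HeldRecog

open CfsgLib.CosetEnum CfsgLib.HeCent Cfsg

local notation "SL5" => Matrix.SpecialLinearGroup (Fin 5) (ZMod 2)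

/-- The conclusion of the recognition. -/
def Outcome (G : Type*) [Group G] : Prop :=
  (∃ v : Fin 5 → ZMod 2, v ≠ 0 ∧ Nonempty (G ≃* MulAction.stabilizer SL5 v)) ∨ Nonempty (G ≃* SL5) ∨
    Nonempty (G ≃* Cfsg.M24) ∨ Cfsg.Spor.IsoHe G

theorem Outcome.map {G H : Type*} [Group G] [Group H] (e : G ≃* H) (h : Outcome H) : Outcome G := by
  rcases h with ⟨v, hv, ⟨f⟩⟩ | ⟨⟨f⟩⟩ | ⟨⟨f⟩⟩ | ⟨⟨f⟩⟩
  · exact Or.inl ⟨v, hv, ⟨e.trans f⟩⟩
  · exact Or.inr (Or.inl ⟨e.trans f⟩)
  · exact Or.inr (Or.inr (Or.inl ⟨e.trans f⟩))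
  · exact Or.inr (Or.inr (Or.inr ⟨e.trans f⟩))

theorem outcome_zero {G : Type} [Group G] [Finite G] (C : Ctx G 0) : Outcome G := by
  rcases branch_cases C with hb | hb
  · exact Or.inr (Or.inr (Or.inr (he_iso C hb)))
  · exact Or.inr (Or.inr (Or.inl (mat24_iso C hb)))

/-- An exchanging element can be normalised to an automorphism of the first or the last kind. -/
theorem swap_cases {G : Type} [Group G] [Finite G] (S : Swap G) :
    Outcome G ∨ ∃ C : Ctx G 3, C.toEmb = S.toEmb := by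
  obtain ⟨S', k, hk, hp, hemb, hsq⟩ := exists_normal S
  let C : Ctx G k := { S' with sq := hsq, pref := hp }
  interval_cases k
  · exact Or.inl (outcome_zero C)
  · exact (not_one_two C (Or.inl rfl)).elim
  · exact (not_one_two C (Or.inr rfl)).elim
  · exact Or.inr ⟨C, hemb⟩

theorem held_outcome {G : Type} [Group G] [Finite G] (S : Swap G) : Outcome G := by
  rcases swap_cases S with h | ⟨C, -⟩
  · exact h
  by_cases h2 : C.toEmb.IsZ (C.φ (rep 2))
  · obtain ⟨g, hg⟩ := h2
    obtain ⟨h, hh⟩ := rep_two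
    obtain ⟨S2, hS2⟩ := C.toEmb.twist.exists_swap_of_three (g := C.φ h * g) (by
      show C.φ h * g * C.z * (C.φ h * g)⁻¹ = C.φ (tau Xh)
      rw [← tau_Yh, tau_tau, ← hh, map_mul, map_mul, map_inv, ← hg]
      group)
    rcases swap_cases S2 with h | ⟨C2, hC2⟩
    · exact h
    · exact Or.inr (Or.inl (l5_iso ⟨C, C2, hC2.trans hS2⟩))
  · exact Or.inl (p_iso C h2).2

/-- The embedded centraliser given by an isomorphism of centralisers. -/
theorem exists_emb {G : Type*} [Group G] (s : SL5)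
    (hs : (s : Matrix (Fin 5) (Fin 5) (ZMod 2)) = Matrix.transvection 0 1 1) {z : G} (hz : orderOf z = 2)
    (e : Subgroup.centralizer ({z} : Set G) ≃* Subgroup.centralizer ({s} : Set SL5)) :
    ∃ (D : Emb G) (f : Subgroup.centralizer ({z} : Set G) ≃* HS), D.z = z ∧ ∀ y, D.φ (f y) = y.1 := by
  obtain rfl : s = sTr := Subtype.ext (hs.trans (by
    show Matrix.transvection 0 1 1 = mat sCode
    ext i j
    fin_cases i <;> fin_cases j <;> decide +kernel))
  set zz : Subgroup.centralizer ({z} : Set G) := ⟨z, Subgroup.mem_centralizer_singleton_iff.mpr rfl⟩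
  have hcen : ∀ y, e zz * y = y * e zz := by
    intro y
    obtain ⟨a, rfl⟩ := e.surjective y
    rw [← map_mul, ← map_mul]
    exact congrArg e (Subtype.ext (Subgroup.mem_centralizer_singleton_iff.mp a.2).symm)
  have hne : e zz ≠ 1 := fun h => by
    have : z = 1 := congrArg Subtype.val (e.injective (h.trans (map_one e).symm))
    rw [this, orderOf_one] at hz
    norm_num at hz
  have hzz : e zz = Zh := eq_Zh_of_central hcen hne
  refine ⟨{ z := z
            φ := (Subgroup.centralizer ({z} : Set G)).subtype.comp e.symm.toMonoidHom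
            inj := Subtype.val_injective.comp e.symm.injective
            mem_range := fun g => ⟨fun h => ⟨e ⟨g, Subgroup.mem_centralizer_singleton_iff.mpr h⟩, by simp⟩,
              fun ⟨x, hx⟩ => hx ▸ Subgroup.mem_centralizer_singleton_iff.mp (e.symm x).2⟩
            map_Zh := by simp [← hzz, zz] }, e, rfl, fun y => by simp⟩

/-- Groups with this centraliser of an involution which is not weakly closed in its largest normal 2-subgroup. -/
theorem outcome_of_iso {G : Type*} [Group G] [Finite G] (s : SL5)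
    (hs : (s : Matrix (Fin 5) (Fin 5) (ZMod 2)) = Matrix.transvection 0 1 1) (z : G) (hz : orderOf z = 2)
    (e : Subgroup.centralizer ({z} : Set G) ≃* Subgroup.centralizer ({s} : Set SL5))
    (hnwc : ∃ g : G, (∃ hq : g * z * g⁻¹ ∈ Subgroup.centralizer ({z} : Set G),
      (⟨g * z * g⁻¹, hq⟩ : Subgroup.centralizer ({z} : Set G)) ∈ Cfsg.pCore 2 (Subgroup.centralizer ({z} : Set G))) ∧
      g * z * g⁻¹ ≠ z) : Outcome G := by
  obtain ⟨D0, f, hDz, hf⟩ := exists_emb s hs hz e
  obtain ⟨g, ⟨hq, hmem⟩, hne⟩ := hnwc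
  let m : G ≃* Shrink.{0} G := (Shrink.mulEquiv : Shrink.{0} G ≃* G).symm
  have : Finite (Shrink.{0} G) := Finite.of_equiv G m.toEquiv
  refine Outcome.map m ?_
  let D : Emb (Shrink.{0} G) :=
    { z := m D0.z
      φ := m.toMonoidHom.comp D0.φ
      inj := m.injective.comp D0.inj
      mem_range := fun a => by
        obtain ⟨b, rfl⟩ := m.surjective a
        rw [← map_mul, ← map_mul, m.injective.eq_iff, D0.mem_range]
        exact exists_congr fun x => m.injective.eq_iff.symm
      map_Zh := congrArg m D0.map_Zh }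
  have hcore : f ⟨g * z * g⁻¹, hq⟩ ∈ Cfsg.pCore 2 HS := by
    rw [← CfsgLib.pCore_map_equiv 2 f]
    exact Subgroup.mem_map_of_mem _ hmem
  have hgz : m g * D.z * (m g)⁻¹ = D.φ (f ⟨g * z * g⁻¹, hq⟩) := by
    show m g * m D0.z * (m g)⁻¹ = m (D0.φ _)
    rw [hf, hDz, map_mul, map_mul, map_inv]
  have hne' : f ⟨g * z * g⁻¹, hq⟩ ≠ Zh := fun h => hne (by
    have := congrArg D0.φ h
    rwa [hf, D0.map_Zh, hDz] at this)
  obtain ⟨S⟩ := D.exists_swap hgz hne' hcore
  exact held_outcome S

end CfsgLib.HeldRecog
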