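/-
Without fusion into the two classes of long-root elements the involution is isolated.
-/
import Cfsg.Agent.Lib.HeldRecog.Top
import Cfsg.Agent.Lib.HeldRecog.Codes
import Cfsg.Agent.Lib.HeldRecog.Extern
import Cfsg.Prelude.Def_IsolatedElements

set_option autoImplicit false
set_option maxRecDepth 100000

namespace CfsgLib.HeldRecog

open CfsgLib.CosetEnum CfsgLib.HeCent

/-- The code is the identity, not that of an involution, or listed. -/
noncomputable def knownB (c : ℕ) : Bool :=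
  Nat.beq c oneCode || !Nat.beq (mulF c c) oneCode || Nat.blt (clsOf c) 8

/-- The number of elements of a centraliser in the classes with a translate in the classes. -/
noncomputable def pairCount (S : List ℕ) (k a : ℕ) : ℕ :=
  ((centList k).filter fun n => force (codeN n) fun c => isZb S c && isZb S (mulF a c)).length

/-- The check refuting a set of fused classes. -/
noncomputable def refFuseB (S : List ℕ) (k : ℕ) : Bool :=
  S.contains k && !Nat.beq k 6 && (S.all fun j => Nat.blt j 8) && S.all fun j => Nat.beq j 6 || !Nat.beq (centSize.getD j 0) (centSize.getD k 0) ||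
    ((centList j).all (fun n => force (codeN n) fun c => knownB c && knownB (mulF sCode c)) &&
      (centList k).all (fun n => force (codeN n) fun c => knownB c && knownB (mulF (clsCode k) c)) &&
      !Nat.beq (pairCount S j sCode) (pairCount S k (clsCode k)))

/-- The possible sets with a refuted class. -/
def fuseSets : List (List ℕ × ℕ) :=
  [([4, 6], 4), ([5, 6], 5), ([6, 7], 7), ([4, 5, 6], 5), ([4, 6, 7], 7), ([5, 6, 7], 5), ([4, 5, 6, 7], 5)]

theorem fuse_ok : (fuseSets.all fun p => refFuseB p.1 p.2) = true := by decide +kernel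

variable {G : Type*} [Group G] (D : Emb G)

theorem fuse_sound {S : List ℕ} (hS : ∀ j < 8, D.IsZ (D.φ (rep j)) ↔ j ∈ S) (hlt : ∀ j ∈ S, j < 8) {x : HS} {c : ℕ}
    (hx : HasCode x c) (hc : knownB c = true) : D.IsZ (D.φ x) ↔ isZb S c = true := by
  simp only [knownB, Bool.or_eq_true, Nat.beq_eq, Bool.not_eq_true', ← Bool.not_eq_true, blt_iff] at hc
  have key : ∀ h : clsOf c < 8, D.IsZ (D.φ x) ↔ clsOf c ∈ S := by
    intro h
    obtain ⟨y, rfl⟩ := inv_entry hx h
    rw [map_mul, map_mul, map_inv, D.isZ_conj_iff]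
    exact hS _ h
  rw [isZb, force_eq, List.contains_iff_mem]
  constructor
  · intro hz
    rcases hc with (h | h) | h
    · rw [(hx.eq_iff HasCode.one).mpr h, map_one] at hz
      exact absurd hz D.not_isZ_one
    · exact absurd (((hx.mul hx).eq_iff HasCode.one).mp (D.inj (by
        rw [map_mul, map_one]; exact D.isZ_sq hz))) h
    · exact (key h).mp hz
  · exact fun hm => (key (hlt _ hm)).mpr hm

theorem pair_card {S : List ℕ} (hS : ∀ j < 8, D.IsZ (D.φ (rep j)) ↔ j ∈ S) (hlt : ∀ j ∈ S, j < 8) {k : ℕ}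
    (hk : k < 8) (hk6 : k ≠ 6) {a : HS} {ac : ℕ} (ha : HasCode a ac)
    (hall : ∀ n ∈ centList k, knownB (codeN n) = true ∧ knownB (mulF ac (codeN n)) = true) :
    Nat.card {x : HS // x * rep k = rep k * x ∧ D.IsZ (D.φ x) ∧ D.IsZ (D.φ (a * x))} = pairCount S k ac := by
  have hE := enum_rep hk hk6
  have key : Enum (fun x => x * rep k = rep k * x ∧ D.IsZ (D.φ x) ∧ D.IsZ (D.φ (a * x)))
      ((centList k).filter fun n => force (codeN n) fun c => isZb S c && isZb S (mulF ac c)) := by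
    refine ⟨hE.nodup.filter _, fun n hn => hE.lt n (List.mem_filter.mp hn).1, fun x => ⟨?_, ?_⟩⟩
    · rintro ⟨hc, h1, h2⟩
      obtain ⟨n, hn, rfl⟩ := (hE.mem x).mp hc
      refine ⟨n, List.mem_filter.mpr ⟨hn, ?_⟩, rfl⟩
      rw [force_eq, Bool.and_eq_true, ← fuse_sound D hS hlt (hasCode_eltN n) (hall n hn).1,
        ← fuse_sound D hS hlt (ha.mul (hasCode_eltN n)) (hall n hn).2]
      exact ⟨h1, h2⟩
    · rintro ⟨n, hn, rfl⟩
      obtain ⟨hn, hf⟩ := List.mem_filter.mp hn
      rw [force_eq, Bool.and_eq_true, ← fuse_sound D hS hlt (hasCode_eltN n) (hall n hn).1,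
        ← fuse_sound D hS hlt (ha.mul (hasCode_eltN n)) (hall n hn).2] at hf
      exact ⟨(hE.mem _).mpr ⟨n, hn, rfl⟩, hf⟩
  exact key.card_eq

/-- An element moving a pair `(z, r')` to `(r, z)` identifies the two counts. -/
theorem transport_pairs {h : G} {r r' : HS} (h1 : h * D.z * h⁻¹ = D.φ r) (h2 : h * D.φ r' * h⁻¹ = D.z) :
    Nat.card {x : HS // x * r' = r' * x ∧ D.IsZ (D.φ x) ∧ D.IsZ (D.φ (Zh * x))} =
      Nat.card {x : HS // x * r = r * x ∧ D.IsZ (D.φ x) ∧ D.IsZ (D.φ (r * x))} := by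
  have pre : ∀ x : {x : HS // x * r' = r' * x ∧ D.IsZ (D.φ x) ∧ D.IsZ (D.φ (Zh * x))},
      ∃ y : {x : HS // x * r = r * x ∧ D.IsZ (D.φ x) ∧ D.IsZ (D.φ (r * x))}, D.φ y.1 = h * D.φ x.1 * h⁻¹ := by
    rintro ⟨x, hc, hz, hzz⟩
    have e : h * D.φ x * h⁻¹ * D.z = D.z * (h * D.φ x * h⁻¹) := by
      rw [← h2]
      exact Emb.comm_conj (by rw [← map_mul, ← map_mul, hc])
    obtain ⟨x', hx'⟩ := (D.mem_range _).mp e
    refine ⟨⟨x', D.inj ?_, ?_, ?_⟩, hx'⟩
    · rw [map_mul, map_mul, hx', ← h1]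
      exact Emb.comm_conj (D.comm_z x)
    · rw [hx']; exact D.isZ_conj hz h
    · rw [map_mul, hx', ← h1, show h * D.z * h⁻¹ * (h * D.φ x * h⁻¹) = h * (D.z * D.φ x) * h⁻¹ by group,
        ← D.map_Zh, ← map_mul]
      exact D.isZ_conj hzz h
  choose f hf using pre
  refine Nat.card_eq_of_bijective f ⟨fun x x' e => ?_, fun y => ?_⟩
  · have e2 := congrArg (fun t => D.φ t.1) e
    simp only [hf] at e2
    exact Subtype.ext (D.inj (mul_left_cancel (mul_right_cancel e2)))
  · obtain ⟨y, hc, hz, hzr⟩ := y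
    have e : h⁻¹ * D.φ y * h * D.z = D.z * (h⁻¹ * D.φ y * h) := by
      have := Emb.comm_conj (g := h⁻¹) (show D.φ y * D.φ r = D.φ r * D.φ y by rw [← map_mul, ← map_mul, hc])
      rwa [← h1, inv_inv, show h⁻¹ * (h * D.z * h⁻¹) * h = D.z by group] at this
    obtain ⟨x, hx⟩ := (D.mem_range _).mp e
    refine ⟨⟨x, D.inj ?_, ?_, ?_⟩, Subtype.ext (D.inj ?_)⟩
    · have := Emb.comm_conj (g := h⁻¹) (D.comm_z y)
      rw [← h2, inv_inv, show h⁻¹ * (h * D.φ r' * h⁻¹) * h = D.φ r' by group] at this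
      rw [map_mul, map_mul, hx]
      exact this
    · rw [hx]
      simpa [mul_assoc] using D.isZ_conj hz h⁻¹
    · rw [map_mul, D.map_Zh, hx, show D.z * (h⁻¹ * D.φ y * h) = h⁻¹ * (h * D.z * h⁻¹ * D.φ y) * h⁻¹⁻¹ by group, h1,
        ← map_mul]
      exact D.isZ_conj hzr h⁻¹
    · rw [hf, hx]; group

theorem fuse_false {S : List ℕ} {k : ℕ} (hS : ∀ j < 8, D.IsZ (D.φ (rep j)) ↔ j ∈ S) (h : refFuseB S k = true) :
    False := by
  simp only [refFuseB, Bool.and_eq_true, List.all_eq_true, List.contains_iff_mem, blt_iff, Bool.or_eq_true,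
    Bool.not_eq_true', ← Bool.not_eq_true, Nat.beq_eq, force_eq] at h
  obtain ⟨⟨⟨hkS, hk6⟩, hlt⟩, hall⟩ := h
  have hk := hlt k hkS
  obtain ⟨g, hg⟩ := (hS k hk).mpr hkS
  obtain ⟨a, hga⟩ := D.exists_pre hg
  have ha2 : a * a = 1 := D.inj (by
    rw [map_mul, map_one]
    calc D.φ a * D.φ a = g⁻¹ * (g * D.φ a * g⁻¹ * (g * D.φ a * g⁻¹)) * g := by group
      _ = 1 := by rw [hga, D.z_sq]; group)
  have ha1 : a ≠ 1 := by
    rintro rfl
    rw [map_one, mul_one, mul_inv_cancel] at hga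
    exact D.z_ne hga.symm
  obtain ⟨j, hj, y, hy⟩ := inv_cases ha2 ha1
  have hcard := D.cent_card_eq hg hga
  rw [Emb.conj_comm_card hy, card_cent_rep hj, card_cent_rep hk] at hcard
  have haz : D.IsZ (D.φ (rep j)) := by
    have h1 : D.IsZ (D.φ a) := ⟨g⁻¹, by
      calc g⁻¹ * D.z * g⁻¹⁻¹ = g⁻¹ * (g * D.φ a * g⁻¹) * g := by rw [hga]; group
        _ = D.φ a := by group⟩
    rwa [hy, map_mul, map_mul, map_inv, D.isZ_conj_iff] at h1
  have hj6 : j ≠ 6 := by
    rintro rfl
    have := (show ∀ k < 8, centSize.getD k 0 = centSize.getD 6 0 → k = 6 by decide) k hk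
    exact hk6 (this hcard.symm)
  obtain ⟨⟨hj', hk'⟩, hne⟩ := ((hall j ((hS j hj).mp haz)).resolve_left (fun h => h.elim hj6 fun h => h
    hcard))
  set h := g * D.φ y with hh
  have h1 : h * D.z * h⁻¹ = D.φ (rep k) := by
    rw [← hg, hh, show g * D.φ y * D.z * (g * D.φ y)⁻¹ = g * (D.φ y * D.z * (D.φ y)⁻¹) * g⁻¹ by group,
      D.comm_z, mul_inv_cancel_right]
  have h2 : h * D.φ (rep j) * h⁻¹ = D.z := by
    rw [← hga, hy, map_mul, map_mul, map_inv, hh]; group
  refine hne ?_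
  rw [← pair_card D hS hlt hj hj6 Zh_code hj', ← pair_card D hS hlt hk hk6 (rep_hasCode hk) hk']
  exact transport_pairs D h1 h2

attribute [local irreducible] refFuseB

set_option maxHeartbeats 800000 in
/-- Fusion into one of the classes of long-root elements, or isolation. -/
theorem fuse_or_isolated : D.IsZ (D.φ (rep 2)) ∨ D.IsZ (D.φ (rep 3)) ∨ Cfsg.IsIsolated D.z := by
  by_cases h2 : D.IsZ (D.φ (rep 2))
  · exact Or.inl h2
  by_cases h3 : D.IsZ (D.φ (rep 3))
  · exact Or.inr (Or.inl h3)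
  refine Or.inr (Or.inr ?_)
  have h6 : D.IsZ (D.φ (rep 6)) := by rw [rep_six, D.map_Zh]; exact D.isZ_z
  have h0 := D.not_small (k := 0) (by norm_num)
  have h1 := D.not_small (k := 1) (by norm_num)
  have none' : ∀ k ∈ [4, 5, 7], ¬ D.IsZ (D.φ (rep k)) := by
    by_contra hcon
    push Not at hcon
    obtain ⟨k0, hk0, hz0⟩ := hcon
    have hok := fuse_ok
    rw [List.all_eq_true] at hok
    by_cases h4 : D.IsZ (D.φ (rep 4)) <;> by_cases h5 : D.IsZ (D.φ (rep 5)) <;> by_cases h7 : D.IsZ (D.φ (rep 7))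
    · exact fuse_false D (S := [4, 5, 6, 7]) (k := 5) (fun j hj => by interval_cases j <;> simp [*])
        (hok ([4, 5, 6, 7], 5) (by simp [fuseSets]))
    · exact fuse_false D (S := [4, 5, 6]) (k := 5) (fun j hj => by interval_cases j <;> simp [*])
        (hok ([4, 5, 6], 5) (by simp [fuseSets]))
    · exact fuse_false D (S := [4, 6, 7]) (k := 7) (fun j hj => by interval_cases j <;> simp [*])
        (hok ([4, 6, 7], 7) (by simp [fuseSets]))
    · exact fuse_false D (S := [4, 6]) (k := 4) (fun j hj => by interval_cases j <;> simp [*])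
        (hok ([4, 6], 4) (by simp [fuseSets]))
    · exact fuse_false D (S := [5, 6, 7]) (k := 5) (fun j hj => by interval_cases j <;> simp [*])
        (hok ([5, 6, 7], 5) (by simp [fuseSets]))
    · exact fuse_false D (S := [5, 6]) (k := 5) (fun j hj => by interval_cases j <;> simp [*])
        (hok ([5, 6], 5) (by simp [fuseSets]))
    · exact fuse_false D (S := [6, 7]) (k := 7) (fun j hj => by interval_cases j <;> simp [*])
        (hok ([6, 7], 7) (by simp [fuseSets]))
    · simp only [List.mem_cons, List.not_mem_nil, or_false] at hk0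
      rcases hk0 with rfl | rfl | rfl
      exacts [h4 hz0, h5 hz0, h7 hz0]
  intro g hg
  obtain ⟨x, hx⟩ := (D.mem_range _).mp hg.eq.symm
  have hxz : D.IsZ (D.φ x) := ⟨g, hx.symm⟩
  have hx2 : x * x = 1 := D.inj (by rw [map_mul, map_one]; exact D.isZ_sq hxz)
  have hx1 : x ≠ 1 := by rintro rfl; rw [map_one] at hxz; exact D.not_isZ_one hxz
  obtain ⟨k, hk, y, rfl⟩ := inv_cases hx2 hx1
  rw [map_mul, map_mul, map_inv, D.isZ_conj_iff] at hxz
  have hk6 : k = 6 := by
    rcases (show ∀ k < 8, k = 0 ∨ k = 1 ∨ k = 2 ∨ k = 3 ∨ k = 4 ∨ k = 5 ∨ k = 6 ∨ k = 7 by omega) k hk with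
      rfl | rfl | rfl | rfl | rfl | rfl | rfl | rfl
    exacts [absurd hxz h0, absurd hxz h1, absurd hxz h2, absurd hxz h3, absurd hxz (none' 4 (by simp)),
      absurd hxz (none' 5 (by simp)), rfl, absurd hxz (none' 7 (by simp))]
  subst hk6
  rw [← hx, rep_six, Zh_comm, mul_inv_cancel_right, D.map_Zh]

end CfsgLib.HeldRecog
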