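/-
Simple groups with the involution centraliser of SL(5, 2).
-/
import Cfsg.Agent.Lib.HeldRecog.Main
import Cfsg.Agent.Lib.HeldRecog.Fuse
import Cfsg.Agent.Lib.ZStar.Main

set_option autoImplicit false
set_option maxRecDepth 100000

namespace CfsgLib.HeldRecog

open CfsgLib.CosetEnum CfsgLib.HeCent Cfsg

local notation "SL5" => Matrix.SpecialLinearGroup (Fin 5) (ZMod 2)

/-- The outcomes for simple groups. -/
def SimpleOutcome (G : Type*) [Group G] : Prop :=
  Nonempty (G ≃* SL5) ∨ Nonempty (G ≃* Cfsg.M24) ∨ Cfsg.Spor.IsoHe G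

theorem SimpleOutcome.map {G H : Type*} [Group G] [Group H] (e : G ≃* H) (h : SimpleOutcome H) :
    SimpleOutcome G := by
  rcases h with ⟨⟨f⟩⟩ | ⟨⟨f⟩⟩ | ⟨⟨f⟩⟩
  · exact Or.inl ⟨e.trans f⟩
  · exact Or.inr (Or.inl ⟨e.trans f⟩)
  · exact Or.inr (Or.inr ⟨e.trans f⟩)

theorem simple_zero {G : Type} [Group G] [Finite G] (C : Ctx G 0) : SimpleOutcome G := by
  rcases branch_cases C with hb | hb
  · exact Or.inr (Or.inr (he_iso C hb))
  · exact Or.inr (Or.inl (mat24_iso C hb))

theorem simple_swap {G : Type} [Group G] [Finite G] (S : Swap G) :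
    SimpleOutcome G ∨ ∃ C : Ctx G 3, C.toEmb = S.toEmb := by
  obtain ⟨S', k, hk, hp, hemb, hsq⟩ := exists_normal S
  let C : Ctx G k := { S' with sq := hsq, pref := hp }
  interval_cases k
  · exact Or.inl (simple_zero C)
  · exact (not_one_two C (Or.inl rfl)).elim
  · exact (not_one_two C (Or.inr rfl)).elim
  · exact Or.inr ⟨C, hemb⟩

/-- The involution is not isolated. -/
theorem not_isolated {G : Type*} [Group G] [Finite G] [IsSimpleGroup G] (D : Emb G) :
    ¬ Cfsg.IsIsolated D.z := by
  intro hiso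
  have h2 : orderOf D.z = 2 := orderOf_eq_prime (by rw [pow_two]; exact D.z_sq) D.z_ne
  have hmem := fun g => CfsgLib.ZStar.commutator_mem h2 hiso g
  rcases IsSimpleGroup.eq_bot_or_eq_top_of_normal (pPrimeCore 2 G) inferInstance with hb | hT
  · have hcen : ∀ g : G, g * D.z = D.z * g := fun g => by
      have h1 := hmem g
      rw [hb, Subgroup.mem_bot, mul_inv_eq_one, mul_inv_eq_iff_eq_mul] at h1
      exact h1.symm
    have hc : D.z ∈ Subgroup.center G := Subgroup.mem_center_iff.mpr hcen
    rcases IsSimpleGroup.eq_bot_or_eq_top_of_normal (Subgroup.center G) inferInstance with hb' | hT'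
    · exact D.z_ne (Subgroup.mem_bot.mp (hb' ▸ hc))
    · have h : ∀ x y : HS, x * y = y * x := fun x y => D.inj (by
        rw [map_mul, map_mul]
        exact (Subgroup.mem_center_iff.mp (hT' ▸ Subgroup.mem_top (D.φ x) : D.φ x ∈ Subgroup.center G) _).symm)
      have := ((hasCode_gen 0).mul (hasCode_gen 1)).eq_iff ((hasCode_gen 1).mul (hasCode_gen 0)) |>.mp (h _ _)
      exact absurd this (by decide +kernel)
  · have h2' : 2 ∣ Nat.card G := h2 ▸ orderOf_dvd_natCard D.z
    have := CfsgLib.odd_card_oddCore (G := G)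
    rw [show oddCore G = ⊤ from hT, Subgroup.card_top] at this
    exact (Nat.not_even_iff_odd.mpr this) (even_iff_two_dvd.mpr h2')

theorem simple_outcome {G : Type} [Group G] [Finite G] [IsSimpleGroup G] (D : Emb G) : SimpleOutcome G := by
  have hsw : ∃ E : Emb G, ∃ S : Swap G, S.toEmb = E := by
    rcases fuse_or_isolated D with ⟨g, hg⟩ | ⟨g, hg⟩ | hiso
    · obtain ⟨h, hh⟩ := rep_two
      exact ⟨_, D.twist.exists_swap_of_three (g := D.φ h * g) (by
        show D.φ h * g * D.z * (D.φ h * g)⁻¹ = D.φ (tau Xh)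
        rw [← tau_Yh, tau_tau, ← hh, map_mul, map_mul, map_inv, ← hg]
        group)⟩
    · obtain ⟨h, hh⟩ := rep_three
      exact ⟨_, D.exists_swap_of_three (g := D.φ h * g) (by
        rw [← hh, map_mul, map_mul, map_inv, ← hg]
        group)⟩
    · exact absurd hiso (not_isolated D)
  obtain ⟨-, S, -⟩ := hsw
  rcases simple_swap S with h | ⟨C, -⟩
  · exact h
  by_cases h2 : C.toEmb.IsZ (C.φ (rep 2))
  · obtain ⟨g, hg⟩ := h2
    obtain ⟨h, hh⟩ := rep_two
    obtain ⟨S2, hS2⟩ := C.toEmb.twist.exists_swap_of_three (g := C.φ h * g) (by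
      show C.φ h * g * C.z * (C.φ h * g)⁻¹ = C.φ (tau Xh)
      rw [← tau_Yh, tau_tau, ← hh, map_mul, map_mul, map_inv, ← hg]
      group)
    rcases simple_swap S2 with h | ⟨C2, hC2⟩
    · exact h
    · exact Or.inl (l5_iso ⟨C, C2, hC2.trans hS2⟩)
  · exact (p_not_simple C h2).elim

/-- Simple groups with this centraliser of an involution. -/
theorem simple_of_iso {G : Type*} [Group G] [Finite G] [IsSimpleGroup G] (s : SL5)
    (hs : (s : Matrix (Fin 5) (Fin 5) (ZMod 2)) = Matrix.transvection 0 1 1) {z : G} (hz : orderOf z = 2)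
    (e : Subgroup.centralizer ({z} : Set G) ≃* Subgroup.centralizer ({s} : Set SL5)) : SimpleOutcome G := by
  obtain ⟨D0, -, -, -⟩ := exists_emb s hs hz e
  let m : G ≃* Shrink.{0} G := (Shrink.mulEquiv : Shrink.{0} G ≃* G).symm
  have : Finite (Shrink.{0} G) := Finite.of_equiv G m.toEquiv
  have : IsSimpleGroup (Shrink.{0} G) := IsSimpleGroup.isSimpleGroup_of_surjective m.toMonoidHom m.surjective
  refine SimpleOutcome.map m (simple_outcome
    { z := m D0.z
      φ := m.toMonoidHom.comp D0.φ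
      inj := m.injective.comp D0.inj
      mem_range := fun a => by
        obtain ⟨b, rfl⟩ := m.surjective a
        rw [← map_mul, ← map_mul, m.injective.eq_iff, D0.mem_range]
        exact exists_congr fun x => m.injective.eq_iff.symm
      map_Zh := congrArg m D0.map_Zh })

end CfsgLib.HeldRecog
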