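/-
When every fused long-root element brings an element of the meeting of the normal 2-subgroups which is not fused,
the group is the Held group.
-/
import Cfsg.Agent.Lib.HeldRecog.Main
import Cfsg.Agent.Lib.HeldRecog.StrictData
import Cfsg.Agent.Lib.SmallSimple.Order168

set_option autoImplicit false
set_option maxRecDepth 100000
set_option linter.style.haveILetI false

namespace CfsgLib.HeldRecog

open CfsgLib.CosetEnum CfsgLib.HeCent Cfsg CfsgGolay

local notation "SL5" => Matrix.SpecialLinearGroup (Fin 5) (ZMod 2)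

/-! ### The normal 2-subgroup in codes -/

/-- The middle block of a code is the identity. -/
noncomputable def blkB (c : ℕ) : Bool :=
  [2, 3, 4].all fun i => [2, 3, 4].all fun j => bitc c i j == Nat.beq i j

/-- The place of a middle index. -/
def mid (i : Fin 3) : Fin 5 := i.natAdd 2

/-- The middle block. -/
noncomputable def blk (x : HS) : Matrix (Fin 3) (Fin 3) (ZMod 2) := Matrix.of fun i j => mx x (mid i) (mid j)

theorem mx_shape (x : HS) : (∀ i : Fin 5, i ≠ 0 → mx x i 0 = 0) ∧ ∀ j : Fin 5, j ≠ 1 → mx x 1 j = 0 := by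
  have hs : (sTr : Matrix (Fin 5) (Fin 5) (ZMod 2)) = Matrix.transvection 0 1 1 := mat_transvection
  have h : mx x * Matrix.transvection 0 1 1 = Matrix.transvection 0 1 1 * mx x := by
    rw [← hs]
    exact congrArg Subtype.val (show (x : SL5) * sTr = sTr * (x : SL5) from
      Subgroup.mem_centralizer_singleton_iff.mp x.2)
  refine ⟨fun i hi => ?_, fun j hj => ?_⟩
  · have := congrFun (congrFun h i) 1
    rw [Matrix.transvection_mul_apply_of_ne 0 1 i 1 hi, Matrix.mul_transvection_apply_same 0 1 i] at this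
    simpa using this
  · have := congrFun (congrFun h 0) j
    rw [Matrix.mul_transvection_apply_of_ne 0 1 0 j hj, Matrix.transvection_mul_apply_same 0 1 j] at this
    simpa using this.symm

theorem blk_mul (x y : HS) : blk (x * y) = blk x * blk y := by
  refine Matrix.ext fun i j => ?_
  simp only [blk, Matrix.of_apply, Matrix.mul_apply, mx_mul]
  rw [Fin.sum_univ_five, Fin.sum_univ_three, (mx_shape x).1 (mid i) (by fin_cases i <;> decide),
    (mx_shape y).2 (mid j) (by fin_cases j <;> decide), zero_mul, mul_zero, zero_add, zero_add]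
  rfl

theorem blk_iff {x : HS} {c : ℕ} (hx : HasCode x c) : blk x = 1 ↔ blkB c = true := by
  have key : ∀ b b' : Bool, ((cond b 1 0 : ZMod 2) = cond b' 1 0) ↔ (b == b') = true := by decide
  have hone : ∀ i j : Fin 3, (1 : Matrix (Fin 3) (Fin 3) (ZMod 2)) i j = cond (Nat.beq (mid i).val (mid j).val) 1 0 := by
    intro i j
    rw [Matrix.one_apply]
    revert i j
    decide
  constructor
  · intro h
    simp only [blkB, List.all_eq_true]
    intro i hi j hj
    obtain ⟨a, rfl⟩ : ∃ a : Fin 3, (mid a).val = i := by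
      simp only [List.mem_cons, List.not_mem_nil, or_false] at hi
      rcases hi with rfl | rfl | rfl
      exacts [⟨0, rfl⟩, ⟨1, rfl⟩, ⟨2, rfl⟩]
    obtain ⟨b, rfl⟩ : ∃ b : Fin 3, (mid b).val = j := by
      simp only [List.mem_cons, List.not_mem_nil, or_false] at hj
      rcases hj with rfl | rfl | rfl
      exacts [⟨0, rfl⟩, ⟨1, rfl⟩, ⟨2, rfl⟩]
    have h1 : mx x (mid a) (mid b) = (1 : Matrix (Fin 3) (Fin 3) (ZMod 2)) a b := congrFun (congrFun h a) b
    rw [hx.1, hone] at h1
    exact (key _ _).mp h1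
  · intro h
    refine Matrix.ext fun a b => ?_
    show mx x (mid a) (mid b) = _
    rw [hx.1, hone]
    simp only [blkB, List.all_eq_true] at h
    exact (key _ _).mpr (h _ (by fin_cases a <;> decide) _ (by fin_cases b <;> decide))

theorem blk_count : countCodes blkB = 128 := by decide +kernel

/-- An element of the largest normal 2-subgroup has trivial middle block. -/
theorem blk_of_mem {x : HS} {c : ℕ} (hx : x ∈ Cfsg.pCore 2 HS) (hc : HasCode x c) : blkB c = true := by
  have hone : blk 1 = 1 := (blk_iff HasCode.one).mpr (by decide +kernel)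
  let f : HS →* GL (Fin 3) (ZMod 2) :=
    MonoidHom.toHomUnits { toFun := blk, map_one' := hone, map_mul' := blk_mul }
  have hf : ∀ y, f y = 1 ↔ blk y = 1 := fun y =>
    ⟨fun h => congrArg Units.val h, fun h => Units.ext h⟩
  have hker : Nat.card f.ker = 128 := by
    rw [← blk_count, ← card_eq_countCodes (fun y => blk y = 1) blkB fun y d hy => blk_iff hy]
    exact Nat.card_congr (Equiv.subtypeEquivRight fun y => hf y)
  have hrange : f.range = ⊤ := by
    have h := f.ker.card_mul_index
    rw [hker, Subgroup.index_ker, card_HS] at h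
    refine Subgroup.eq_top_of_card_eq _ ?_
    rw [CfsgLib.Order168.gl32.2]
    omega
  haveI := CfsgLib.Order168.gl32.1
  haveI : Fact (Nat.Prime 2) := ⟨Nat.prime_two⟩
  have hn : ((Cfsg.pCore 2 HS).map f).Normal :=
    Subgroup.Normal.map inferInstance f (MonoidHom.range_eq_top.mp hrange)
  rcases hn.eq_bot_or_eq_top with h | h
  · exact (blk_iff hc).mp ((hf x).mp (Subgroup.mem_bot.mp (h ▸ Subgroup.mem_map_of_mem f hx)))
  · exfalso
    have h2 := (CfsgLib.isPGroup_pCore (G := HS) 2).map f
    rw [h] at h2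
    obtain ⟨n, hn'⟩ := h2.exists_card_eq
    rw [Subgroup.card_top, CfsgLib.Order168.gl32.2] at hn'
    have : (7 : ℕ) ∣ 2 ^ n := hn' ▸ (by norm_num)
    have := (show Nat.Prime 7 by norm_num).dvd_of_dvd_pow this
    norm_num at this

/-! ### The condition -/

/-- Every fused element of the normal 2-subgroup brings one which is not fused. -/
def Emb.Strict {G : Type*} [Group G] (D : Emb G) : Prop :=
  (D.IsZ (D.φ (rep 2)) ∧ D.IsZ (D.φ (rep 3))) ∧
    ∀ g : G, ∀ b ∈ Cfsg.pCore 2 HS, b ≠ Zh → g * D.z * g⁻¹ = D.φ b →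
      ∃ d ∈ Cfsg.pCore 2 HS, ∃ e ∈ Cfsg.pCore 2 HS, d ≠ 1 ∧ ¬ D.IsZ (D.φ d) ∧ g * D.φ e * g⁻¹ = D.φ d

theorem mem_pCore_of_isZ {G : Type*} [Group G] {D : Emb G} (h : D.Strict)
    (hrep : ∀ k, k = 2 ∨ k = 3 → rep k ∈ Cfsg.pCore 2 HS) :
    Xh ∈ Cfsg.pCore 2 HS ∧ Yh ∈ Cfsg.pCore 2 HS := by
  obtain ⟨a, ha⟩ := rep_three
  obtain ⟨b, hb⟩ := rep_two
  exact ⟨ha ▸ (inferInstance : (Cfsg.pCore 2 HS).Normal).conj_mem _ (hrep 3 (Or.inr rfl)) a,
    hb ▸ (inferInstance : (Cfsg.pCore 2 HS).Normal).conj_mem _ (hrep 2 (Or.inl rfl)) b⟩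

/-- The code is the identity or that of a long-root element. -/
noncomputable def rootB (c : ℕ) : Bool :=
  Nat.beq c oneCode || force (clsOf c) fun k => Nat.beq k 2 || Nat.beq k 3 || Nat.beq k 6

theorem core_root {G : Type*} [Group G] {D : Emb G} (h2 : D.IsZ (D.φ (rep 2))) (h3 : D.IsZ (D.φ (rep 3))) {d : HS}
    {c : ℕ} (hd : HasCode d c) (hc : rootB c = true) : d = 1 ∨ D.IsZ (D.φ d) := by
  simp only [rootB, force_eq, Bool.or_eq_true, Nat.beq_eq] at hc
  rcases hc with hc | hc
  · exact Or.inl ((hd.eq_iff HasCode.one).mpr hc)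
  · right
    obtain ⟨y, hy⟩ := cls_elem (c := c) (by omega)
    rw [hd.unique hy, map_mul, map_mul, map_inv, D.isZ_conj_iff]
    rcases hc with (h | h) | h <;> rw [h]
    exacts [h2, h3, by rw [rep_six, D.map_Zh]; exact D.isZ_z]

/-- The check of the last automorphism. -/
noncomputable def coreOK : Bool :=
  (coreW.all fun w => letters6 w && force (evC srcC w) fun c =>
    force (evC (tgtC (sigImg.getD 3 [])) w) fun c' => !blkB c' || rootB c) &&
  d1L.all fun n => force (codeN n) fun c => !blkB c || coreW.any fun w => Nat.beq (evC srcC w) c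

theorem core_ok : coreOK = true := by decide +kernel

theorem sigImg_three : (sigImg.getD 3 []).length = 4 := by decide

/-- The last automorphism is excluded. -/
theorem not_three {G : Type} [Group G] (C : Ctx G 3) (h : C.toEmb.Strict) (hX : Xh ∈ Cfsg.pCore 2 HS) : False := by
  have hxz : Xh ≠ Zh := fun e => absurd (hasCode_Xh.eq (e ▸ Zh_code)) (by decide)
  obtain ⟨d, hd, e, he, hd1, hdz, hge⟩ := h.2 C.s Xh hX hxz C.s_z
  have hm : C.toSwap.Maps e d := hge
  have hsi : C.s⁻¹ = C.s := inv_eq_of_mul_eq_one_right C.sq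
  have hm' : C.toSwap.Maps d e := by
    show C.s * C.φ d * C.s⁻¹ = C.φ e
    rw [← hge, hsi]
    calc C.s * (C.s * C.φ e * C.s) * C.s = C.s * C.s * C.φ e * (C.s * C.s) := by group
      _ = _ := by rw [C.sq, one_mul, mul_one]
  have hdx : d * Xh = Xh * d := C.inj (by
    rw [map_mul, map_mul, ← hge, ← C.s_z]
    exact Emb.comm_conj (C.comm_z e))
  have hok := core_ok
  simp only [coreOK, Bool.and_eq_true, List.all_eq_true] at hok
  obtain ⟨c, hc, hf⟩ := enum_D1.all (f := fun c => !blkB c || coreW.any fun w => Nat.beq (evC srcC w) c)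
    (List.all_eq_true.mpr fun n hn => by simpa [force_eq] using hok.2 n hn) hdx
  rw [blk_of_mem hd hc, Bool.not_true, Bool.false_or, List.any_eq_true] at hf
  obtain ⟨w, hw, hwc⟩ := hf
  obtain ⟨hl, hroot⟩ := hok.1 w hw
  simp only [force_eq, Bool.or_eq_true, Bool.not_eq_true'] at hroot
  have hwd : HasCode (w.map srcEl).prod (evC srcC w) := hasCode_evC w fun i _ => hasCode_srcEl i
  rw [Nat.eq_of_beq_eq_true hwc] at hwd hroot
  obtain ⟨y, hy, hyc⟩ := Swap.maps_word6 (D := C.toSwap) C.pref sigImg_three hl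
  rw [hwd.unique hc] at hy
  rw [hy.unique hm'] at hyc
  rcases hroot with hb | hb
  · rw [blk_of_mem he hyc] at hb
    exact Bool.noConfusion hb
  · rcases core_root h.1.1 h.1.2 hc hb with h1 | h1
    exacts [hd1 h1, hdz h1]

/-- The packed permutations agree on the points. -/
noncomputable def samePermB (p p' : ℕ) : Bool := (List.range 24).all fun i => Nat.beq (papp p i) (papp p' i)

theorem samePermB_of {p p' : ℕ} {g : Equiv.Perm GolayPt} (h : Repr p g) (h' : Repr p' g) : samePermB p p' = true := by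
  simp only [samePermB, List.all_eq_true, List.mem_range, Nat.beq_eq]
  intro i hi
  rw [← idx_pt hi, ← h, h']

/-- The check in the branch of the largest Mathieu group. -/
noncomputable def mat24CoreOK : Bool :=
  (List.range 128).all fun i => Nat.beq (qPerm.getD i 0) (pWord (qWord.getD i [])) &&
    (rootB (qMat.getD i 0) ||
      force (pWord ((mat24ZW.getD 2 []).reverse ++ (qWord.getD i [] ++ mat24ZW.getD 2 []))) fun p =>
        qPerm.all fun p' => !samePermB p p')

theorem mat24Core_ok : mat24CoreOK = true := by decide +kernel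

theorem qWord_lt : ((List.range 128).all fun i => (qWord.getD i []).all fun a => Nat.blt a 4) = true := by
  decide +kernel

theorem blk_list : (qMat.all blkB && Nat.beq qMat.length 128) = true := by decide +kernel

theorem exists_qWord {x : HS} (hx : x ∈ Cfsg.pCore 2 HS) :
    ∃ i < 128, wEl (qWord.getD i []) = x ∧ HasCode x (qMat.getD i 0) := by
  have hw := words_ok
  simp only [wordsOK, Bool.and_eq_true, List.all_eq_true, List.mem_range, Nat.beq_eq] at hw
  let f : Fin 128 → {y : HS // blk y = 1} := fun i => ⟨wEl (qWord.getD i []), by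
    have hcode := hasCode_wEl (qWord.getD i [])
    rw [hw.1 i i.2] at hcode
    refine (blk_iff hcode).mpr ?_
    have hl := blk_list
    simp only [Bool.and_eq_true, List.all_eq_true] at hl
    exact hl.1 _ (getD_mem (mat_lengths.1.symm ▸ i.2) 0)⟩
  have hinj : Function.Injective f := by
    intro i j h
    have h1 : elt (i, 0) = elt (j, 0) := by
      have e : ∀ k : Fin 128, elt (k, (0 : Fin 168)) = wEl (qWord.getD k []) := fun k => by
        rw [elt]; simp [lWord]
      rw [e, e]
      exact congrArg Subtype.val h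
    exact (Prod.ext_iff.mp (elt_bijective.1 h1)).1
  have hbij : Function.Bijective f := (Nat.bijective_iff_injective_and_card f).mpr ⟨hinj, by
    rw [card_eq_countCodes (fun y => blk y = 1) blkB fun y d hy => blk_iff hy, blk_count, Nat.card_eq_fintype_card,
      Fintype.card_fin]⟩
  obtain ⟨c, hc⟩ : ∃ c, HasCode x c := ⟨_, hasCode_wEl _ |> fun h => (exists_word x).choose_spec ▸ h⟩
  obtain ⟨i, hi⟩ := hbij.2 ⟨x, (blk_iff hc).mpr (blk_of_mem hx hc)⟩
  have hi' : wEl (qWord.getD i []) = x := congrArg Subtype.val hi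
  refine ⟨i, i.2, hi', ?_⟩
  rw [← hi', ← hw.1 i i.2]
  exact hasCode_wEl _

/-- The branch of the largest Mathieu group is excluded. -/
theorem not_mat24 {G : Type} [Group G] [Finite G] (C : Ctx G 0) (hb : InBranch C 59 0) (h : C.toEmb.Strict)
    (hY : rep 2 ∈ Cfsg.pCore 2 HS) : False := by
  obtain ⟨θ, hinj, hev⟩ := mat24_image C hb
  have hs := mat24_sound C hb
  have hz := List.all_eq_true.mp mat24Z_ok 2 (by simp [mat24Zc])
  obtain ⟨hg, hge⟩ := hs.conj hz
  have hzw : C.φ (wEl zW) = C.z := C.map_Zh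
  rw [hzw] at hge
  have hne : rep 2 ≠ Zh := fun e => absurd ((rep_hasCode (k := 2) (by norm_num)).eq (e ▸ Zh_code)) (by decide +kernel)
  obtain ⟨d, hd, e, he, hd1, hdz, hde⟩ := h.2 _ (rep 2) hY hne hge
  obtain ⟨i, hi, hid, hic⟩ := exists_qWord hd
  obtain ⟨j, hj, hje, -⟩ := exists_qWord he
  have hok := mat24Core_ok
  simp only [mat24CoreOK, force_eq, List.all_eq_true, List.mem_range, Bool.or_eq_true, Bool.and_eq_true,
    Nat.beq_eq] at hok
  rcases (hok i hi).2 with hr | hp
  · rcases core_root h.1.1 h.1.2 hic hr with h1 | h1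
    exacts [hd1 h1, hdz h1]
  have hq : ∀ k < 128, ∀ a ∈ qWord.getD k [], a < 4 := fun k hk a ha => blt_iff.mp
    (List.all_eq_true.mp (List.all_eq_true.mp qWord_lt k (List.mem_range.mpr hk)) a ha)
  set w := mat24ZW.getD 2 [] with hwdef
  have hwl : ∀ a ∈ w, a < 5 := by rw [hwdef]; decide
  have hall : ∀ a ∈ w.reverse ++ (qWord.getD i [] ++ w), a < 5 := by
    intro a ha
    simp only [List.mem_append, List.mem_reverse] at ha
    rcases ha with ha | ha | ha
    exacts [hwl a ha, (hq i hi a ha).trans (by norm_num), hwl a ha]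
  obtain ⟨m, hm, hme⟩ := hev _ hall
  obtain ⟨m', hm', hme'⟩ := hev _ fun a ha => (hq j hj a ha).trans (by norm_num)
  have hrev : C.ev w.reverse = (C.ev w)⁻¹ := by
    rw [Ctx.ev, Ctx.ev, List.map_reverse, List.prod_reverse_noncomm]
    refine congrArg (fun t => (List.prod t)⁻¹) ?_
    rw [List.map_map]
    exact List.map_congr_left fun a _ => inv_eq_of_mul_eq_one_right (C.τ_sq a)
  have heq : m = m' := hinj (by
    rw [hme, hme', C.ev_of_lt (hq j hj), hje, Ctx.ev, List.map_append, List.map_append, List.prod_append,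
      List.prod_append, ← Ctx.ev, ← Ctx.ev, ← Ctx.ev, C.ev_of_lt (hq i hi), hid, hrev, ← hde]
    group)
  have hperm : ((w.reverse ++ (qWord.getD i [] ++ w)).map perm24).prod = ((qWord.getD j []).map perm24).prod := by
    rw [← hm, ← hm', heq]
  have hsame := samePermB_of (repr_pWord (w.reverse ++ (qWord.getD i [] ++ w))) (hperm ▸ repr_pWord (qWord.getD j []))
  have hmemj : pWord (qWord.getD j []) ∈ qPerm := by
    rw [← (hok j hj).1]
    exact getD_mem (by rw [show qPerm.length = 128 by decide +kernel]; exact hj) _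
  have := hp _ hmemj
  rw [Bool.not_eq_true'] at this
  exact Bool.noConfusion (hsame.symm.trans this)

theorem strict_iso_swap {G : Type} [Group G] [Finite G] (S : Swap G) (h : S.toEmb.Strict)
    (hX : Xh ∈ Cfsg.pCore 2 HS) (hY : rep 2 ∈ Cfsg.pCore 2 HS) : Cfsg.Spor.IsoHe G := by
  obtain ⟨S', k, hk, hp, hemb, hsq⟩ := exists_normal S
  let C : Ctx G k := { S' with sq := hsq, pref := hp }
  have hC : C.toEmb.Strict := by
    show S'.toEmb.Strict
    rw [hemb]; exact h
  interval_cases k
  · rcases branch_cases C with hb | hb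
    · exact he_iso C hb
    · exact (not_mat24 C hb hC hY).elim
  · exact (not_one_two C (Or.inl rfl)).elim
  · exact (not_one_two C (Or.inr rfl)).elim
  · exact (not_three C hC hX).elim

theorem strict_iso {G : Type} [Group G] [Finite G] (D : Emb G) (h : D.Strict)
    (hrep : ∀ k, k = 2 ∨ k = 3 → rep k ∈ Cfsg.pCore 2 HS) : Cfsg.Spor.IsoHe G := by
  obtain ⟨hX, hY⟩ := mem_pCore_of_isZ h hrep
  obtain ⟨a, ha⟩ := rep_three
  obtain ⟨u, hu⟩ := h.1.2
  obtain ⟨S, hS⟩ := D.exists_swap_of_three (g := D.φ a * u) (by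
    rw [← ha, map_mul, map_mul, map_inv, ← hu]; group)
  exact strict_iso_swap S (hS ▸ h) hX (hrep 2 (Or.inl rfl))

end CfsgLib.HeldRecog
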